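import Groth.Agent.PullFlat.Pre

/-!
# The inverse image of a flat module is flat
-/

set_option autoImplicit false
set_option linter.style.haveILetI false

universe u

open CategoryTheory CategoryTheory.Limits Opposite ModSite

namespace Groth.Agent.PullFlat

open Groth.Agent.ModFlat (rs map_val_smul map_val_comp map_ring_comp LocTriv LocTriv₁)

variable {C D : Type u} [SmallCategory C] [SmallCategory D] {J : GrothendieckTopology C}
  {K : GrothendieckTopology D} {O_C : Sheaf J CommRingCat.{u}} {O_D : Sheaf K CommRingCat.{u}}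

variable {f : RMor O_C O_D} {M : Mod O_D}

/-- Finitely many sections of the inverse image are locally combinations of sections pulled back from one object. -/
theorem exists_common_repr : ∀ {n : ℕ} {W : C} (s : Fin n → sect (f.pull.obj M) W),
    ∃ S ∈ J W, ∀ ⦃W' : C⦄ (g : W' ⟶ W), S g → ∃ (V' : D) (b : W' ⟶ f.fn.obj V') (k : ℕ) (m : Fin k → sect M V')
      (d : Fin n → Fin k → O_C.obj.obj (op W')),
      ∀ j, rs (f.pull.obj M) g (s j) = ∑ i, d j i • genVal f M ⟨V', b, m i⟩ := by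
  intro n
  induction n with
  | zero =>
    intro W s
    obtain ⟨S, hS, hS'⟩ := (covFlat_rmor f).some W
    refine ⟨S, hS, fun W' g hg => ?_⟩
    obtain ⟨V', ⟨b⟩⟩ := hS' g hg
    exact ⟨V', b, 0, fun i => i.elim0, fun j => j.elim0, fun j => j.elim0⟩
  | succ n ih =>
    intro W s
    obtain ⟨S, hS, hS'⟩ := ih (fun j => s j.succ)
    refine exists_cover_bind _ hS fun W₁ g hg => ?_
    obtain ⟨V₁, b₁, k₁, m₁, d₁, hd₁⟩ := hS' g hg
    obtain ⟨R, hR, hR'⟩ := exists_local_repr f M (rs (f.pull.obj M) g (s 0))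
    refine exists_cover_bind (fun W' g' => ∃ (V' : D) (b : W' ⟶ f.fn.obj V') (k : ℕ) (m : Fin k → sect M V')
      (d : Fin (n + 1) → Fin k → O_C.obj.obj (op W')),
      ∀ j, rs (f.pull.obj M) (g' ≫ g) (s j) = ∑ i, d j i • genVal f M ⟨V', b, m i⟩) hR fun W₂ g₂ hg₂ => ?_
    obtain ⟨N, G, c, hc⟩ := hR' g₂ hg₂
    obtain ⟨T, hT, hT'⟩ := exists_common f (fun i => (G i).1) (fun i => (G i).2.1)
    refine exists_cover_bind (fun W' g' => ∃ (V' : D) (b : W' ⟶ f.fn.obj V') (k : ℕ) (m : Fin k → sect M V')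
      (d : Fin (n + 1) → Fin k → O_C.obj.obj (op W')),
      ∀ j, rs (f.pull.obj M) ((g' ≫ g₂) ≫ g) (s j) = ∑ i, d j i • genVal f M ⟨V', b, m i⟩) hT fun W₃ g₃ hg₃ => ?_
    obtain ⟨V₂, b₂, q₂, hq₂⟩ := hT' g₃ hg₃
    obtain ⟨U, hU, hU'⟩ := (covFlat_rmor f).pair ((g₃ ≫ g₂) ≫ b₁) b₂
    refine ⟨U, hU, fun W₄ g₄ hg₄ => ?_⟩
    obtain ⟨V', p₁, p₂, b, hp₁, hp₂⟩ := hU' g₄ hg₄
    refine ⟨V', b, k₁ + N, Fin.append (fun i => rs M p₁ (m₁ i)) (fun i => rs M (p₂ ≫ q₂ i) (G i).2.2),
      Fin.cases (Fin.append (fun _ => 0) (fun i => (O_C.obj.map (g₄ ≫ g₃).op).hom (c i)))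
        (fun j => Fin.append (fun i => (O_C.obj.map ((g₄ ≫ g₃) ≫ g₂).op).hom (d₁ j i)) (fun _ => 0)), fun j => ?_⟩
    rw [Fin.sum_univ_add]
    simp only [Category.assoc, map_val_comp]
    induction j using Fin.cases with
    | zero =>
      simp only [Fin.cases_zero, Fin.append_left, Fin.append_right, zero_smul, Finset.sum_const_zero, zero_add]
      rw [hc, ← map_val_comp, map_sum]
      refine Finset.sum_congr rfl fun i _ => ?_
      rw [map_val_smul, genVal, genVal, etaS_map, etaS_map, ← map_val_comp, ← map_val_comp, ← map_val_comp]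
      refine congrArg (fun t => _ • rs (f.pull.obj M) t _) ?_
      rw [← hp₂, Category.assoc, Category.assoc, hq₂ i]
    | succ j =>
      simp only [Fin.cases_succ, Fin.append_left, Fin.append_right, zero_smul, Finset.sum_const_zero, add_zero]
      rw [hd₁ j, ← map_val_comp, ← map_val_comp, map_sum]
      refine Finset.sum_congr rfl fun i _ => ?_
      rw [map_val_smul, genVal, genVal, etaS_map, ← map_val_comp, ← map_val_comp, ← hp₁]
      simp only [Category.assoc]

theorem locTriv₁_pull (hM : LocTriv M) : LocTriv₁ (f.pull.obj M) := by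
  intro W n c s hrel
  obtain ⟨S, hS, hS'⟩ := exists_common_repr s
  refine exists_cover_bind _ hS fun W₁ g hg => ?_
  obtain ⟨V₁, b, k, m, d, hd⟩ := hS' g hg
  have h0 : ∑ i, (∑ j, (O_C.obj.map g.op).hom (c j) * d j i) • genVal f M ⟨V₁, b, m i⟩ = 0 := by
    simp only [Finset.sum_smul, mul_smul]
    rw [Finset.sum_comm, ← map_zero (rs (f.pull.obj M) g), ← hrel, map_sum]
    exact Finset.sum_congr rfl fun j _ => by rw [map_val_smul, hd j, Finset.smul_sum]
  obtain ⟨T, hT, hT'⟩ := lnull_of_eq_zero f M hM _ _ h0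
  refine ⟨T, hT, fun W₂ g₂ hg₂ => ?_⟩
  obtain ⟨V₂, a, l, y, A, hA, hA'⟩ := hT' g₂ hg₂
  refine ⟨l, fun p => rs (f.pull.obj M) a (etaS f M V₂ (y p)),
    fun j p => ∑ i, (O_C.obj.map g₂.op).hom (d j i) * pl f a (A i p), fun j => ?_, fun p => ?_⟩
  · rw [map_val_comp, hd j, map_sum]
    simp only [map_val_smul, ← genVal_res, fun i => (hA i).eval, Finset.smul_sum, smul_smul, Finset.sum_smul]
    rw [Finset.sum_comm]
  · refine Eq.trans ?_ (hA' p)
    simp only [map_sum, map_mul, map_ring_comp, Finset.sum_mul]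
    rw [Finset.sum_comm]
    exact Finset.sum_congr rfl fun i _ => Finset.sum_congr rfl fun j _ => by ring

theorem isFlat_pull (hM : ModSite.IsFlat M) : ModSite.IsFlat (f.pull.obj M) :=
  Groth.Agent.ModFlat.locTriv₁_iff.1 (locTriv₁_pull (Groth.Agent.ModFlat.locTriv_of_isFlat hM))

end Groth.Agent.PullFlat
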