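import Groth.Agent.PullFlat.Flat
import Groth.Agent.ModFlat.Basic
import Mathlib.Algebra.Homology.ShortComplex.ModuleCat

/-!
# The inverse image is exact on sequences with flat quotient
-/

set_option autoImplicit false
set_option linter.style.haveILetI false

universe u

open CategoryTheory CategoryTheory.Limits Opposite ModSite

namespace Groth.Agent.PullFlat

open Groth.Agent.ModFlat (rs map_val_smul map_val_comp map_ring_comp LocTriv)
open Groth.Agent.KFlat (preAdj)

section Sect

variable {C : Type u} [SmallCategory C] {J : GrothendieckTopology C} {O : Sheaf J CommRingCat.{u}}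

/-- A morphism of modules on sections. -/
noncomputable def appS {F G : Mod O} (φ : F ⟶ G) (U : C) : sect F U →ₗ[O.obj.obj (op U)] sect G U :=
  (φ.val.app (op U)).hom

theorem appS_res {F G : Mod O} (φ : F ⟶ G) {U U' : C} (g : U' ⟶ U) (x : sect F U) :
    appS φ U' (rs F g x) = rs G g (appS φ U x) :=
  PresheafOfModules.naturality_apply φ.val g.op x

theorem appS_comp {F G H : Mod O} (φ : F ⟶ G) (ψ : G ⟶ H) {U : C} (x : sect F U) :
    appS (φ ≫ ψ) U x = appS ψ U (appS φ U x) := rfl

theorem appS_zero {F G : Mod O} {U : C} (x : sect F U) : appS (0 : F ⟶ G) U x = 0 := rfl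

theorem mono_of_appS_injective {F G : Mod O} (φ : F ⟶ G)
    (h : ∀ (U : C) (x : sect F U), appS φ U x = 0 → x = 0) : Mono φ :=
  Preadditive.mono_of_cancel_zero _ fun {T} t ht => SheafOfModules.hom_ext (PresheafOfModules.hom_ext fun U =>
    ModuleCat.hom_ext (LinearMap.ext fun z => h U.unop _
      (congrArg (fun s => appS s U.unop z) ht)))

theorem appS_injective {F G : Mod O} (φ : F ⟶ G) [Mono φ] (U : C) : Function.Injective (appS φ U) :=
  haveI : Mono ((toPre O).map φ) := inferInstanceAs (Mono ((SheafOfModules.forget (ringSh O)).map φ))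
  PresheafOfModules.injective_of_mono ((toPre O).map φ) (op U)

theorem exists_preimage {S : ShortComplex (Mod O)} (hS : S.ShortExact) {U : C} (x : sect S.X₂ U)
    (hx : appS S.g U x = 0) : ∃ y, appS S.f U y = x := by
  have := hS.mono_f
  have : PreservesFiniteLimits (toPre O) :=
    inferInstanceAs (PreservesFiniteLimits (SheafOfModules.forget (ringSh O)))
  have h₁ : (S.map (toPre O)).Exact := hS.exact.map_of_mono_of_preservesKernel _ inferInstance inferInstance
  have h₂ := h₁.map (PresheafOfModules.evaluation (O.obj ⋙ forget₂ CommRingCat.{u} RingCat.{u}) (op U))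
  exact (ShortComplex.moduleCat_exact_iff _).1 h₂ x hx

theorem exists_local_lift {F G : Mod O} (φ : F ⟶ G) [Epi φ] {U : C} (x : sect G U) :
    ∃ S ∈ J U, ∀ ⦃U' : C⦄ (g : U' ⟶ U), S g → ∃ y, appS φ U' y = rs G g x := by
  have : Epi ((SheafOfModules.toSheaf (ringSh O)).map φ) := inferInstance
  have hs : Sheaf.IsLocallySurjective ((SheafOfModules.toSheaf (ringSh O)).map φ) :=
    (Sheaf.isLocallySurjective_iff_epi' AddCommGrpCat.{u} _).2 this
  refine ⟨_, Presheaf.imageSieve_mem J ((SheafOfModules.toSheaf (ringSh O)).map φ).hom x, fun U' g hg => ?_⟩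
  obtain ⟨y, hy⟩ := hg
  exact ⟨y, hy⟩

theorem exists_local_lifts {F G : Mod O} (φ : F ⟶ G) [Epi φ] : ∀ {n : ℕ} {U : C} (x : Fin n → sect G U),
    ∃ S ∈ J U, ∀ ⦃U' : C⦄ (g : U' ⟶ U), S g → ∃ y : Fin n → sect F U', ∀ i, appS φ U' (y i) = rs G g (x i) := by
  intro n
  induction n with
  | zero => exact fun {U} x => ⟨⊤, J.top_mem U, fun U' g _ => ⟨fun i => i.elim0, fun i => i.elim0⟩⟩
  | succ n ih =>
    intro U x
    obtain ⟨S, hS, hS'⟩ := exists_local_lift φ (x 0)
    obtain ⟨T, hT, hT'⟩ := ih (fun i => x i.succ)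
    refine ⟨S ⊓ T, J.intersection_covering hS hT, fun U' g hg => ?_⟩
    obtain ⟨y₀, hy₀⟩ := hS' g hg.1
    obtain ⟨y, hy⟩ := hT' g hg.2
    exact ⟨Fin.cases y₀ y, fun i => by cases i using Fin.cases <;> simp [hy₀, hy]⟩

end Sect

variable {C D : Type u} [SmallCategory C] [SmallCategory D] {J : GrothendieckTopology C}
  {K : GrothendieckTopology D} {O_C : Sheaf J CommRingCat.{u}} {O_D : Sheaf K CommRingCat.{u}}

variable (f : RMor O_C O_D)

theorem appS_genVal {M N : Mod O_D} (φ : M ⟶ N) {W : C} {V : D} (a : W ⟶ f.fn.obj V) (m : sect M V) :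
    appS (f.pull.map φ) W (genVal f M ⟨V, a, m⟩) = genVal f N ⟨V, a, appS φ V m⟩ := by
  refine (appS_res (f.pull.map φ) a (etaS f M V m)).trans (congrArg (rs (f.pull.obj N) a) ?_)
  exact (congrArg (fun t : M ⟶ f.push.obj (f.pull.obj N) => t.val.app (op V) m) (f.adj.unit.naturality φ)).symm

/-- The inverse image of an injection of modules with flat target and flat cokernel is injective. -/
theorem mono_pull_map (S : ShortComplex (Mod O_D)) (hS : S.ShortExact) (h₂ : LocTriv S.X₂) (h₃ : LocTriv S.X₃) :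
    Mono (f.pull.map S.f) := by
  have := hS.mono_f
  have := hS.epi_g
  refine mono_of_appS_injective _ fun W x hx => ?_
  obtain ⟨T, hT, hT'⟩ := exists_common_repr (fun _ : Fin 1 => x)
  refine eq_zero_of_locally _ hT x fun W₁ g hg => ?_
  obtain ⟨V', b, n, k, d, hd⟩ := hT' g hg
  have hx' : ∑ i, d 0 i • genVal f S.X₂ ⟨V', b, appS S.f V' (k i)⟩ = 0 := by
    have h := congrArg (appS (f.pull.map S.f) W₁) (hd 0)
    rw [appS_res, hx, map_zero, map_sum] at h
    exact Eq.trans (Finset.sum_congr rfl fun i _ => by rw [map_smul, appS_genVal]) h.symm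
  obtain ⟨R, hR, hR'⟩ := lnull_of_eq_zero f S.X₂ h₂ _ _ hx'
  refine eq_zero_of_locally _ hR _ fun W₂ g₂ hg₂ => ?_
  obtain ⟨V₁, a, l, y, A, hA, hA'⟩ := hR' g₂ hg₂
  choose q hq hqv using hA
  have hrel : ∀ i, ∑ j, A i j • appS S.g V₁ (y j) = 0 := fun i => by
    simp only [← map_smul, ← map_sum, ← hqv i]
    show appS S.g V₁ (rs S.X₂ (q i) (appS S.f V' (k i))) = 0
    refine (appS_res S.g (q i) _).trans ((congrArg (rs S.X₃ (q i)) ?_).trans (map_zero _))
    exact congrArg (fun t => appS t V' (k i)) S.zero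
  obtain ⟨U, hU, hU'⟩ := h₃ V₁ l n (fun j => appS S.g V₁ (y j)) A hrel
  obtain ⟨U₁, hU₁, hU₁'⟩ := exists_cover_bind (J := K) (fun V₂ r => ∃ (p : ℕ) (z : Fin p → sect S.X₂ V₂)
      (w : Fin l → Fin p → O_D.obj.obj (op V₂)), (∀ j, appS S.g V₂ (rs S.X₂ r (y j)) = appS S.g V₂ (∑ s, w j s • z s)) ∧
      ∀ i s, ∑ j, w j s * (O_D.obj.map r.op).hom (A i j) = 0) hU fun V₂ r hr => by
    obtain ⟨p, z, w, hw, hw'⟩ := hU' r hr
    obtain ⟨E, hE, hE'⟩ := exists_local_lifts S.g z
    refine ⟨E, hE, fun V₃ e he => ?_⟩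
    obtain ⟨z', hz'⟩ := hE' e he
    refine ⟨p, z', fun j s => (O_D.obj.map e.op).hom (w j s), fun j => ?_, fun i s => ?_⟩
    · rw [appS_res, map_val_comp, hw j, map_sum, map_sum]
      exact Finset.sum_congr rfl fun s _ => by rw [map_val_smul, map_smul, hz' s]
    · simp only [map_ring_comp, ← map_mul, ← map_sum, hw' i s, map_zero]
  obtain ⟨U₂, hU₂, hU₂'⟩ := (covFlat_rmor f).cover U₁ hU₁ a
  refine eq_zero_of_locally _ hU₂ _ fun W₃ g₃ hg₃ => ?_
  obtain ⟨V₂, r, b', hr, hb'⟩ := hU₂' g₃ hg₃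
  obtain ⟨p, z, w, hw, hw'⟩ := hU₁' r hr
  have hu : ∀ j, ∃ v, appS S.f V₂ v = rs S.X₂ r (y j) - ∑ s, w j s • z s := fun j =>
    exists_preimage hS _ (by rw [map_sub, hw j, sub_self])
  choose v hv using hu
  have hnull : Null (fun i => Gen.res g₃ (Gen.res g₂ (⟨V', b, k i⟩ : Gen f S.X₁ W₁)))
      (fun i => (O_C.obj.map g₃.op).hom ((O_C.obj.map g₂.op).hom (d 0 i))) := by
    refine ⟨V₂, b', l, v, fun i j => (O_D.obj.map r.op).hom (A i j), fun i => ⟨r ≫ q i, ?_, ?_⟩, fun j => ?_⟩
    · have hqi := hq i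
      change g₂ ≫ b = a ≫ f.fn.map (q i) at hqi
      show g₃ ≫ g₂ ≫ b = b' ≫ f.fn.map (r ≫ q i)
      rw [hqi]
      exact ((reassoc_of% hb') (f.fn.map (q i))).trans (congrArg (b' ≫ ·) (f.fn.map_comp r (q i)).symm)
    · refine appS_injective S.f V₂ ?_
      rw [map_sum]
      simp only [map_smul, hv, smul_sub, Finset.sum_sub_distrib, Finset.smul_sum, smul_smul]
      rw [appS_res, map_val_comp]
      have hqi := hqv i
      change rs S.X₂ (q i) (appS S.f V' (k i)) = _ at hqi
      erw [hqi]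
      rw [map_sum, Finset.sum_comm (γ := Fin l) (α := Fin p)]
      simp only [← Finset.sum_smul]
      have e0 : ∀ s, ∑ j, (O_D.obj.map r.op).hom (A i j) * w j s = 0 := fun s =>
        (Finset.sum_congr rfl fun j _ => mul_comm _ _).trans (hw' i s)
      simp only [e0, zero_smul, Finset.sum_const_zero, sub_zero]
      exact Finset.sum_congr rfl fun j _ => map_val_smul r _ _
    · have h := congrArg (O_C.obj.map g₃.op).hom (hA' j)
      rw [map_sum, map_zero] at h
      refine Eq.trans (Finset.sum_congr rfl fun i _ => ?_) h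
      rw [map_mul, pl_res, hb', pl_map]
  rw [hd 0, map_sum, map_sum]
  refine Eq.trans (Finset.sum_congr rfl fun i _ => ?_) hnull.eval
  rw [map_val_smul, map_val_smul, ← genVal_res, ← genVal_res]

/-- The inverse image preserves short exactness of sequences with flat quotient. -/
theorem shortExact_pull (S : ShortComplex (Mod O_D)) (hS : S.ShortExact) (hH : ModSite.IsFlat S.X₃) :
    (S.map f.pull).ShortExact := by
  have := hS.mono_f
  have := hS.epi_g
  have : f.pull.IsLeftAdjoint := f.adj.isLeftAdjoint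
  let P := Groth.Agent.KFlat.freeCover O_D S.X₂
  let μ : P ⟶ S.X₂ := Groth.Agent.KFlat.freeCoverπ O_D S.X₂
  have : Epi μ := inferInstance
  let π : P ⟶ S.X₃ := μ ≫ S.g
  let ι : kernel π ⟶ P := kernel.ι π
  let θ : kernel π ⟶ S.X₁ := hS.exact.lift (ι ≫ μ) (by rw [Category.assoc]; exact kernel.condition π)
  have hθ : θ ≫ S.f = ι ≫ μ := hS.exact.lift_f _ _
  let S' : ShortComplex (Mod O_D) := ShortComplex.mk ι π (kernel.condition π)
  have hS' : S'.ShortExact :=
    { exact := ShortComplex.exact_of_f_is_kernel S' (kernelIsKernel π)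
      mono_f := inferInstanceAs (Mono (kernel.ι π))
      epi_g := inferInstanceAs (Epi (μ ≫ S.g)) }
  have hm : Mono (f.pull.map ι) := mono_pull_map f S' hS'
    (Groth.Agent.ModFlat.locTriv_of_isFlat
      (Groth.Agent.KFlat.isFlat_of_tensorMono (Groth.Agent.KFlat.tensorMono_freeCover O_D S.X₂)))
    (Groth.Agent.ModFlat.locTriv_of_isFlat hH)
  let B : ShortComplex (Mod O_D) := ShortComplex.mk (biprod.lift θ (-ι)) (biprod.desc S.f μ)
    (by simp [hθ])
  have : Epi B.g := epi_of_epi_fac (show biprod.inr ≫ biprod.desc S.f μ = μ by simp)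
  have hB : B.Exact := by
    rw [ShortComplex.exact_iff_exact_up_to_refinements]
    intro A z hz
    have hz' : (z ≫ biprod.fst) ≫ S.f + (z ≫ biprod.snd) ≫ μ = 0 := by
      refine Eq.trans ?_ hz
      simp [B, biprod.desc_eq]
    have hp : (-(z ≫ biprod.snd)) ≫ π = 0 := by
      have h : ((z ≫ biprod.fst) ≫ S.f + (z ≫ biprod.snd) ≫ μ) ≫ S.g = 0 := by rw [hz', zero_comp]
      simpa [π] using h
    refine ⟨A, 𝟙 A, inferInstance, kernel.lift π (-(z ≫ biprod.snd)) hp, ?_⟩
    rw [Category.id_comp]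
    refine biprod.hom_ext _ _ ?_ ?_
    · rw [← cancel_mono S.f]
      simp only [B, Category.assoc, biprod.lift_fst, hθ, ι, kernel.lift_ι_assoc, Preadditive.neg_comp]
      rw [eq_neg_iff_add_eq_zero]
      simpa using hz'
    · simp [B, ι]
  have : f.pull.Additive :=
    haveI := preservesBinaryBiproducts_of_preservesBinaryCoproducts f.pull
    Functor.additive_of_preservesBinaryBiproducts _
  have hmap : (B.map f.pull).Exact :=
    hB.map_of_epi_of_preservesCokernel _ inferInstance inferInstance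
  refine
    { exact := hS.exact.map_of_epi_of_preservesCokernel _ inferInstance inferInstance
      mono_f := ?_
      epi_g := inferInstanceAs (Epi (f.pull.map S.g)) }
  change Mono (f.pull.map S.f)
  refine Preadditive.mono_of_cancel_zero _ fun {T} x hx => ?_
  obtain ⟨T', e, _, k, hk⟩ := hmap.exact_up_to_refinements (x ≫ f.pull.map biprod.inl) (by
    change (x ≫ f.pull.map biprod.inl) ≫ f.pull.map (biprod.desc S.f μ) = 0
    rw [Category.assoc, ← Functor.map_comp, biprod.inl_desc, hx])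
  obtain ⟨k', hk'⟩ : ∃ k' : T' ⟶ f.pull.obj (kernel π),
      e ≫ x ≫ f.pull.map biprod.inl = k' ≫ f.pull.map (biprod.lift θ (-ι)) := ⟨k, hk⟩
  have h₂ : k' ≫ f.pull.map (-ι) = 0 := by
    rw [← biprod.lift_snd θ (-ι), Functor.map_comp, ← reassoc_of% hk', ← Functor.map_comp, biprod.inl_snd,
      Functor.map_zero, comp_zero, comp_zero]
  rw [Functor.map_neg, Preadditive.comp_neg, neg_eq_zero] at h₂
  have hk0 : k' = 0 := (@cancel_mono _ _ _ _ _ (f.pull.map ι) hm _ _).1 (h₂.trans zero_comp.symm)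
  have h₁ := congrArg (· ≫ f.pull.map biprod.fst) hk'
  simp only [Category.assoc, ← Functor.map_comp, biprod.inl_fst, hk0, zero_comp] at h₁
  rw [← cancel_epi e, comp_zero]
  simpa using h₁

end Groth.Agent.PullFlat
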