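import Groth.Prelude.Def_ModSite
import Mathlib.CategoryTheory.Sites.Subsheaf
import Mathlib.CategoryTheory.Sites.Limits
import Mathlib.CategoryTheory.Limits.Types.Products

/-!
# A continuous functor with exact inverse image is covering flat

For a continuous `u : D ⥤ C` whose inverse image of sheaves of sets preserves finite limits, the
categories of pairs `(V, c ⟶ u V)` are cofiltered locally on the site `C`.
-/

set_option autoImplicit false
set_option linter.style.haveILetI false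

universe u

open CategoryTheory CategoryTheory.Limits Opposite

namespace Groth.Agent.PullFlat

variable {C D : Type u} [SmallCategory C] [SmallCategory D]

/-- `u` is covering flat for `K` and `J`, in elementary terms. -/
structure CovFlat (K : GrothendieckTopology D) (J : GrothendieckTopology C) (u : D ⥤ C) : Prop where
  cover : ∀ {V : D} (R : Sieve V), R ∈ K V → ∀ {W : C} (a : W ⟶ u.obj V), ∃ S ∈ J W, ∀ ⦃W' : C⦄ (g : W' ⟶ W), S g →
    ∃ (V' : D) (r : V' ⟶ V) (b : W' ⟶ u.obj V'), R r ∧ g ≫ a = b ≫ u.map r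
  some : ∀ W : C, ∃ S ∈ J W, ∀ ⦃W' : C⦄ (g : W' ⟶ W), S g → ∃ V : D, Nonempty (W' ⟶ u.obj V)
  pair : ∀ {W : C} {V₁ V₂ : D} (a₁ : W ⟶ u.obj V₁) (a₂ : W ⟶ u.obj V₂), ∃ S ∈ J W, ∀ ⦃W' : C⦄ (g : W' ⟶ W), S g →
    ∃ (V : D) (q₁ : V ⟶ V₁) (q₂ : V ⟶ V₂) (b : W' ⟶ u.obj V), g ≫ a₁ = b ≫ u.map q₁ ∧ g ≫ a₂ = b ≫ u.map q₂
  eq : ∀ {W : C} {V V' : D} (p q : V ⟶ V') (a : W ⟶ u.obj V), a ≫ u.map p = a ≫ u.map q →
    ∃ S ∈ J W, ∀ ⦃W' : C⦄ (g : W' ⟶ W), S g →
      ∃ (V'' : D) (e : V'' ⟶ V) (b : W' ⟶ u.obj V''), e ≫ p = e ≫ q ∧ g ≫ a = b ≫ u.map e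

/-- A sieve all of whose "good" arrows cover: a convenient way to glue covers. -/
theorem exists_cover_bind {J : GrothendieckTopology C} {W : C} (P : ∀ ⦃W' : C⦄, (W' ⟶ W) → Prop)
    {S : Sieve W} (hS : S ∈ J W)
    (h : ∀ ⦃W' : C⦄ (g : W' ⟶ W), S g → ∃ T ∈ J W', ∀ ⦃W'' : C⦄ (g' : W'' ⟶ W'), T g' → P (g' ≫ g)) :
    ∃ S ∈ J W, ∀ ⦃W' : C⦄ (g : W' ⟶ W), S g → P g := by
  choose T hT hP using h
  refine ⟨Sieve.bind S.arrows fun W' g hg => T g hg, J.bind_covering hS fun _ g hg => hT g hg, ?_⟩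
  rintro W' g ⟨W₁, g', g₁, hg₁, hg', rfl⟩
  exact hP g₁ hg₁ g' hg'

variable (J : GrothendieckTopology C) (K : GrothendieckTopology D)

/-- The sheafified representable. -/
noncomputable abbrev hS (W : C) : Sheaf J (Type u) := (presheafToSheaf J (Type u)).obj (yoneda.obj W)

/-- The sheafified representable, on maps. -/
noncomputable abbrev hSm {W W' : C} (g : W' ⟶ W) : hS J W' ⟶ hS J W :=
  (presheafToSheaf J (Type u)).map (yoneda.map g)

/-- Maps out of a sheafified representable are sections. -/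
noncomputable def sec (F : Sheaf J (Type u)) (W : C) : (hS J W ⟶ F) ≃ F.obj.obj (op W) :=
  ((sheafificationAdjunction J (Type u)).homEquiv (yoneda.obj W) F).trans yonedaEquiv

theorem sec_comp {F G : Sheaf J (Type u)} {W : C} (x : hS J W ⟶ F) (φ : F ⟶ G) :
    sec J G W (x ≫ φ) = φ.hom.app (op W) (sec J F W x) := by
  simp only [sec, Equiv.trans_apply, Adjunction.homEquiv_naturality_right]
  exact yonedaEquiv_comp _ _

theorem sec_hSm {F : Sheaf J (Type u)} {W W' : C} (g : W' ⟶ W) (x : hS J W ⟶ F) :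
    sec J F W' (hSm J g ≫ x) = F.obj.map g.op (sec J F W x) := by
  simp only [sec, Equiv.trans_apply, Adjunction.homEquiv_naturality_left]
  exact (yonedaEquiv_naturality _ _).symm

/-- A map between sheafified representables is locally represented. -/
theorem exists_rep {W W' : C} (x : hS J W ⟶ hS J W') :
    ∃ S ∈ J W, ∀ ⦃W₁ : C⦄ (g : W₁ ⟶ W), S g → ∃ q : W₁ ⟶ W', hSm J g ≫ x = hSm J q := by
  let s := sec J (hS J W') W x
  refine ⟨_, Presheaf.imageSieve_mem J (toSheafify J (yoneda.obj W')) s, fun W₁ g ⟨q, hq⟩ => ⟨q, ?_⟩⟩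
  refine (sec J (hS J W') W₁).injective ?_
  rw [sec_hSm, show hSm J q = hSm J q ≫ 𝟙 _ by rw [Category.comp_id], sec_hSm]
  refine hq.symm.trans ?_
  simp only [sec, Equiv.trans_apply, Adjunction.homEquiv_id]
  rw [map_yonedaEquiv]

/-- Equal maps between sheafified representables agree locally. -/
theorem exists_eq {W W' : C} (p q : W ⟶ W') (h : hSm J p = hSm J q) :
    ∃ S ∈ J W, ∀ ⦃W₁ : C⦄ (g : W₁ ⟶ W), S g → g ≫ p = g ≫ q := by
  refine ⟨Presheaf.equalizerSieve (F := yoneda.obj W') (X := op W) p q,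
    Presheaf.equalizerSieve_mem J (toSheafify J (yoneda.obj W')) (X := op W) p q ?_, fun W₁ g hg => hg⟩
  have hval : ∀ t : W ⟶ W', sec J (hS J W') W (hSm J t) = (toSheafify J (yoneda.obj W')).app (op W) t := fun t => by
    rw [show hSm J t = hSm J t ≫ 𝟙 _ from (Category.comp_id _).symm, sec_hSm]
    simp only [sec, Equiv.trans_apply, Adjunction.homEquiv_id, map_yonedaEquiv]
  rw [← hval, ← hval, h]

variable {J K} (u : D ⥤ C) [u.IsContinuous K J]

/-- The adjunction between inverse and direct image of sheaves of sets. -/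
noncomputable abbrev adj : u.sheafPullback (Type u) K J ⊣ u.sheafPushforwardContinuous (Type u) K J :=
  u.sheafAdjunctionContinuous (Type u) K J

/-- The unit of the adjunction. -/
noncomputable abbrev η (Z : Sheaf K (Type u)) :
    Z ⟶ (u.sheafPushforwardContinuous (Type u) K J).obj ((u.sheafPullback (Type u) K J).obj Z) :=
  (adj u).unit.app Z

theorem η_natural {Z Z' : Sheaf K (Type u)} (z : Z ⟶ Z') :
    z ≫ η (J := J) u Z' =
      η u Z ≫ (u.sheafPushforwardContinuous (Type u) K J).map ((u.sheafPullback (Type u) K J).map z) :=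
  (adj u).unit.naturality z

/-- Sections of a direct image. -/
noncomputable abbrev psec (F : Sheaf J (Type u)) (V : D)
    (x : hS K V ⟶ (u.sheafPushforwardContinuous (Type u) K J).obj F) : F.obj.obj (op (u.obj V)) :=
  sec K ((u.sheafPushforwardContinuous (Type u) K J).obj F) V x

/-- The tautological section of the inverse image of a representable. -/
noncomputable def ψ (V : D) : hS J (u.obj V) ⟶ (u.sheafPullback (Type u) K J).obj (hS K V) :=
  (sec J _ (u.obj V)).symm (psec u _ V (η u (hS K V)))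

/-- The comparison to the representable. -/
noncomputable def φ (V : D) : (u.sheafPullback (Type u) K J).obj (hS K V) ⟶ hS J (u.obj V) :=
  ((adj u).homEquiv _ _).symm ((sec K ((u.sheafPushforwardContinuous (Type u) K J).obj (hS J (u.obj V))) V).symm
    (sec J (hS J (u.obj V)) (u.obj V) (𝟙 _)))

theorem ψ_φ (V : D) : ψ (K := K) (J := J) u V ≫ φ u V = 𝟙 _ := by
  refine (sec J (hS J (u.obj V)) (u.obj V)).injective ?_
  rw [sec_comp, ψ, Equiv.apply_symm_apply]
  refine (sec_comp K (η u (hS K V)) ((u.sheafPushforwardContinuous (Type u) K J).map (φ u V))).symm.trans ?_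
  rw [show η u (hS K V) ≫ (u.sheafPushforwardContinuous (Type u) K J).map (φ u V) = (adj u).homEquiv _ _ (φ u V)
    from ((adj u).homEquiv_unit ..).symm, φ, Equiv.apply_symm_apply]
  exact Equiv.apply_symm_apply _ _

theorem sec_ψ_comp {V : D} {Z : Sheaf K (Type u)} (z : hS K V ⟶ Z) :
    sec J _ (u.obj V) (ψ u V ≫ (u.sheafPullback (Type u) K J).map z) =
      (η u Z).hom.app (op V) (sec K Z V z) := by
  rw [sec_comp, ψ, Equiv.apply_symm_apply]
  refine (sec_comp K (η u (hS K V)) ((u.sheafPushforwardContinuous (Type u) K J).map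
    ((u.sheafPullback (Type u) K J).map z))).symm.trans ?_
  rw [← η_natural u z, sec_comp]

theorem ψ_natural {V V' : D} (q : V' ⟶ V) :
    ψ u V' ≫ (u.sheafPullback (Type u) K J).map (hSm K q) = hSm J (u.map q) ≫ ψ u V := by
  refine (sec J _ (u.obj V')).injective ?_
  rw [sec_ψ_comp, sec_hSm, ψ, Equiv.apply_symm_apply]
  exact (sec_comp K (hSm K q) (η u (hS K V))).symm.trans (sec_hSm K q (η u (hS K V)))

/-- The subpresheaf of sections coming from `Z`. -/
def genSub (Z : Sheaf K (Type u)) : Subfunctor ((u.sheafPullback (Type u) K J).obj Z).obj where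
  obj W := {x | ∃ (V : D) (b : W.unop ⟶ u.obj V) (z : hS K V ⟶ Z),
    x = ((u.sheafPullback (Type u) K J).obj Z).obj.map b.op (sec J _ _ (ψ u V ≫ (u.sheafPullback (Type u) K J).map z))}
  map := by
    rintro U W i _ ⟨V, b, z, rfl⟩
    refine ⟨V, i.unop ≫ b, z, ?_⟩
    show _ = _
    rw [op_comp, Functor.map_comp]
    rfl

/-- The inverse image is locally generated by the sections coming from `Z`. -/
theorem exists_gen (Z : Sheaf K (Type u)) {W : C} (x : hS J W ⟶ (u.sheafPullback (Type u) K J).obj Z) :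
    ∃ S ∈ J W, ∀ ⦃W' : C⦄ (g : W' ⟶ W), S g → ∃ (V : D) (b : W' ⟶ u.obj V) (z : hS K V ⟶ Z),
      hSm J g ≫ x = hSm J b ≫ ψ u V ≫ (u.sheafPullback (Type u) K J).map z := by
  let Y := (u.sheafPullback (Type u) K J).obj Z
  let G := (genSub (J := J) u Z).sheafify J
  let Gs : Sheaf J (Type u) := ⟨G.toFunctor, (isSheaf_iff_isSheaf_of_type J _).2
    ((genSub (J := J) u Z).sheafify_isSheaf ((isSheaf_iff_isSheaf_of_type J _).1 Y.property))⟩
  let ι : Gs ⟶ Y := ⟨G.ι⟩
  have hη : ∀ (V : Dᵒᵖ) (s : Z.obj.obj V), (η u Z).hom.app V s ∈ G.obj (op (u.obj V.unop)) := fun V s =>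
    (genSub u Z).le_sheafify J _ ⟨V.unop, 𝟙 _, (sec K Z V.unop).symm s, by
      rw [sec_ψ_comp, Equiv.apply_symm_apply]
      exact (ConcreteCategory.congr_hom (((u.sheafPullback (Type u) K J).obj Z).obj.map_id _) _).symm⟩
  let η' : Z ⟶ (u.sheafPushforwardContinuous (Type u) K J).obj Gs :=
    ⟨{ app := fun V => ↾fun s => ⟨_, hη V s⟩
       naturality := fun V V' i => by
        ext s
        exact Subtype.ext (ConcreteCategory.congr_hom ((η (J := J) u Z).hom.naturality i) s :) }⟩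
  let s := ((adj u).homEquiv _ _).symm η'
  have hs : s ≫ ι = 𝟙 _ := by
    refine ((adj u).homEquiv _ _).injective ?_
    rw [Adjunction.homEquiv_naturality_right, Equiv.apply_symm_apply, Adjunction.homEquiv_id]
    rfl
  have hmem : sec J Y W x ∈ G.obj (op W) := by
    have h := sec_comp J (x ≫ s) ι
    rw [Category.assoc, hs, Category.comp_id] at h
    rw [h]
    exact (sec J Gs W (x ≫ s)).2
  refine ⟨_, hmem, fun W' g hg => ?_⟩
  obtain ⟨V, b, z, hz⟩ := hg
  refine ⟨V, b, z, (sec J Y W').injective ?_⟩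
  rw [sec_hSm, sec_hSm]
  exact hz

variable [PreservesFiniteLimits (u.sheafPullback (Type u) K J)]

variable (K J) in
/-- Exactness of the inverse image gives covering flatness. -/
theorem covFlat : CovFlat K J u := by
  have hcover : ∀ {V : D} (R : Sieve V), R ∈ K V → ∀ {W : C} (a : W ⟶ u.obj V), ∃ S ∈ J W, ∀ ⦃W' : C⦄ (g : W' ⟶ W), S g →
      ∃ (V' : D) (r : V' ⟶ V) (b : W' ⟶ u.obj V'), R r ∧ g ≫ a = b ≫ u.map r := by
    intro V R hR W a
    let Q : Subfunctor (hS J (u.obj V)).obj :=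
      { obj := fun W => {x | ∃ (V' : D) (r : V' ⟶ V) (b : W.unop ⟶ u.obj V'), R r ∧
          x = sec J (hS J (u.obj V)) W.unop (hSm J (b ≫ u.map r))}
        map := by
          rintro U W i _ ⟨V', r, b, hr, rfl⟩
          refine ⟨V', r, i.unop ≫ b, hr, ?_⟩
          rw [Category.assoc, show hSm J (i.unop ≫ b ≫ u.map r) = hSm J i.unop ≫ hSm J (b ≫ u.map r) by
            rw [← Functor.map_comp, ← Functor.map_comp], sec_hSm]
          rfl }
    let P := (u.sheafPushforwardContinuous (Type u) K J).obj (hS J (u.obj V))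
    have hG := Q.sheafify_isSheaf ((isSheaf_iff_isSheaf_of_type J _).1 (hS J (u.obj V)).property)
    let Gs : Sheaf J (Type u) := ⟨(Q.sheafify J).toFunctor, (isSheaf_iff_isSheaf_of_type J _).2 hG⟩
    let P' := (u.sheafPushforwardContinuous (Type u) K J).obj Gs
    have hP' := (isSheaf_iff_isSheaf_of_type K _).1 P'.property
    let fam : Presieve.FamilyOfElements P'.obj R.arrows := fun V' r hr =>
      ⟨sec J (hS J (u.obj V)) (u.obj V') (hSm J (u.map r)),
        Q.le_sheafify J _ ⟨V', r, 𝟙 _, hr, by rw [Category.id_comp]; rfl⟩⟩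
    have hfam : fam.Compatible := fun Y₁ Y₂ Z g₁ g₂ f₁ f₂ h₁ h₂ hh => by
      refine Subtype.ext ?_
      show (hS J (u.obj V)).obj.map (u.map g₁).op _ = (hS J (u.obj V)).obj.map (u.map g₂).op _
      rw [← sec_hSm, ← sec_hSm]
      simp only [← Functor.map_comp]
      rw [hh]
    obtain ⟨t, ht, -⟩ := hP' R hR fam hfam
    have htid : (t.1 : (hS J (u.obj V)).obj.obj (op (u.obj V))) = sec J (hS J (u.obj V)) (u.obj V) (𝟙 _) := by
      refine ((isSheaf_iff_isSheaf_of_type K _).1 P.property R hR).isSeparatedFor.ext fun V' r hr => ?_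
      show (hS J (u.obj V)).obj.map (u.map r).op _ = (hS J (u.obj V)).obj.map (u.map r).op _
      rw [← sec_hSm, Category.comp_id]
      exact congrArg Subtype.val (ht r hr)
    have hmem : sec J (hS J (u.obj V)) W (hSm J a) ∈ (Q.sheafify J).obj (op W) := by
      rw [← Category.comp_id (hSm J a), sec_hSm, ← htid]
      exact (Q.sheafify J).map a.op t.2
    refine exists_cover_bind _ hmem fun W' g hg => ?_
    obtain ⟨V', r, b, hr, hb⟩ := hg
    have hb' : hSm J (g ≫ a) = hSm J (b ≫ u.map r) := (sec J (hS J (u.obj V)) W').injective (by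
      rw [← hb, show hSm J (g ≫ a) = hSm J g ≫ hSm J a by rw [← Functor.map_comp, ← Functor.map_comp], sec_hSm])
    obtain ⟨T, hT, hTe⟩ := exists_eq J _ _ hb'
    exact ⟨T, hT, fun W'' g' hg' => ⟨V', r, g' ≫ b, hr, by rw [Category.assoc, Category.assoc]; exact hTe g' hg'⟩⟩
  refine ⟨hcover, fun W => ?_, fun {W V₁ V₂} a₁ a₂ => ?_, fun {W V V'} p q a hpq => ?_⟩
  · have hT : IsTerminal ((u.sheafPullback (Type u) K J).obj (⊤_ (Sheaf K (Type u)))) :=
      IsTerminal.isTerminalObj _ _ terminalIsTerminal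
    obtain ⟨S, hS', hS''⟩ := exists_gen (J := J) u _ (hT.from (hS J W))
    exact ⟨S, hS', fun W' g hg => by
      obtain ⟨V, b, -, -⟩ := hS'' g hg
      exact ⟨V, ⟨b⟩⟩⟩
  · let e := PreservesLimitPair.iso (u.sheafPullback (Type u) K J) (hS K V₁) (hS K V₂)
    obtain ⟨S, hS', hS''⟩ := exists_gen (J := J) u _ (prod.lift (hSm J a₁ ≫ ψ u V₁) (hSm J a₂ ≫ ψ u V₂) ≫ e.inv)
    refine exists_cover_bind _ hS' fun W₁ g hg => ?_
    obtain ⟨V, b, z, hz⟩ := hS'' g hg
    obtain ⟨R₁, hR₁, hR₁'⟩ := exists_rep K (z ≫ prod.fst)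
    obtain ⟨R₂, hR₂, hR₂'⟩ := exists_rep K (z ≫ prod.snd)
    obtain ⟨T, hT, hT'⟩ := hcover (R₁ ⊓ R₂) (K.intersection_covering hR₁ hR₂) b
    have he₁ : e.inv ≫ (u.sheafPullback (Type u) K J).map prod.fst = prod.fst :=
      PreservesLimitPair.iso_inv_fst _ _ _
    have he₂ : e.inv ≫ (u.sheafPullback (Type u) K J).map prod.snd = prod.snd :=
      PreservesLimitPair.iso_inv_snd _ _ _
    refine exists_cover_bind (fun W'' g'' => ∃ (V' : D) (q₁ : V' ⟶ V₁) (q₂ : V' ⟶ V₂) (b' : W'' ⟶ u.obj V'),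
      (g'' ≫ g) ≫ a₁ = b' ≫ u.map q₁ ∧ (g'' ≫ g) ≫ a₂ = b' ≫ u.map q₂) hT fun W₂ g₂ hg₂ => ?_
    obtain ⟨V', r, c, ⟨hr₁, hr₂⟩, hrc⟩ := hT' g₂ hg₂
    obtain ⟨q₁, hq₁⟩ := hR₁' r hr₁
    obtain ⟨q₂, hq₂⟩ := hR₂' r hr₂
    have key : ∀ {Vi : D} (qi : V' ⟶ Vi) (zi : hS K V ⟶ hS K Vi), hSm K r ≫ zi = hSm K qi →
        hSm J (g₂ ≫ b) ≫ ψ u V ≫ (u.sheafPullback (Type u) K J).map zi ≫ φ u Vi = hSm J (c ≫ u.map qi) := by
      intro Vi qi zi hzi
      rw [show hSm J (g₂ ≫ b) = hSm J c ≫ hSm J (u.map r) by rw [hrc, ← Functor.map_comp, ← Functor.map_comp],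
        Category.assoc, ← reassoc_of% (ψ_natural u r), ← reassoc_of% Functor.map_comp, hzi,
        reassoc_of% (ψ_natural u qi), ψ_φ, Category.comp_id]
      rw [← Functor.map_comp, ← Functor.map_comp]
    have h₁ : hSm J (g₂ ≫ g ≫ a₁) = hSm J (c ≫ u.map q₁) := by
      rw [← key q₁ _ hq₁]
      have h := congrArg (fun t => hSm J g₂ ≫ t ≫ (u.sheafPullback (Type u) K J).map prod.fst ≫ φ u V₁) hz
      simp only [Category.assoc, reassoc_of% he₁, prod.lift_fst_assoc, ψ_φ, Category.comp_id] at h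
      rw [show hSm J (g₂ ≫ g ≫ a₁) = hSm J g₂ ≫ hSm J g ≫ hSm J a₁ by
          simp only [← Functor.map_comp], h,
        show hSm J (g₂ ≫ b) = hSm J g₂ ≫ hSm J b by simp only [← Functor.map_comp]]
      simp only [Functor.map_comp, Category.assoc]
    have h₂ : hSm J (g₂ ≫ g ≫ a₂) = hSm J (c ≫ u.map q₂) := by
      rw [← key q₂ _ hq₂]
      have h := congrArg (fun t => hSm J g₂ ≫ t ≫ (u.sheafPullback (Type u) K J).map prod.snd ≫ φ u V₂) hz
      simp only [Category.assoc, reassoc_of% he₂, prod.lift_snd_assoc, ψ_φ, Category.comp_id] at h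
      rw [show hSm J (g₂ ≫ g ≫ a₂) = hSm J g₂ ≫ hSm J g ≫ hSm J a₂ by
          simp only [← Functor.map_comp], h,
        show hSm J (g₂ ≫ b) = hSm J g₂ ≫ hSm J b by simp only [← Functor.map_comp]]
      simp only [Functor.map_comp, Category.assoc]
    obtain ⟨E₁, hE₁, hE₁'⟩ := exists_eq J _ _ h₁
    obtain ⟨E₂, hE₂, hE₂'⟩ := exists_eq J _ _ h₂
    exact ⟨E₁ ⊓ E₂, J.intersection_covering hE₁ hE₂, fun W₃ g₃ hg₃ =>
      ⟨V', q₁, q₂, g₃ ≫ c, by simpa using hE₁' g₃ hg₃.1, by simpa using hE₂' g₃ hg₃.2⟩⟩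
  · let e := PreservesEqualizer.iso (u.sheafPullback (Type u) K J) (hSm K p) (hSm K q)
    have hh : (hSm J a ≫ ψ u V) ≫ (u.sheafPullback (Type u) K J).map (hSm K p) =
        (hSm J a ≫ ψ u V) ≫ (u.sheafPullback (Type u) K J).map (hSm K q) := by
      rw [Category.assoc, Category.assoc, ψ_natural, ψ_natural, ← Category.assoc, ← Category.assoc]
      simp only [← Functor.map_comp, hpq]
    obtain ⟨S, hS', hS''⟩ := exists_gen (J := J) u _ (equalizer.lift _ hh ≫ e.inv)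
    refine exists_cover_bind _ hS' fun W₁ g hg => ?_
    obtain ⟨V₀, b, z, hz⟩ := hS'' g hg
    obtain ⟨R₁, hR₁, hR₁'⟩ := exists_rep K (z ≫ equalizer.ι _ _)
    have hstep : ∀ ⦃V₁ : D⦄ (r : V₁ ⟶ V₀), R₁ r → ∃ q₀ : V₁ ⟶ V,
        hSm K r ≫ z ≫ equalizer.ι _ _ = hSm K q₀ ∧
        ∃ E ∈ K V₁, ∀ ⦃V₂ : D⦄ (s : V₂ ⟶ V₁), E s → (s ≫ q₀) ≫ p = (s ≫ q₀) ≫ q := fun V₁ r hr => by
      obtain ⟨q₀, hq₀⟩ := hR₁' r hr
      have hh' : hSm K (q₀ ≫ p) = hSm K (q₀ ≫ q) := by
        rw [show hSm K (q₀ ≫ p) = hSm K q₀ ≫ hSm K p by simp only [← Functor.map_comp],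
          show hSm K (q₀ ≫ q) = hSm K q₀ ≫ hSm K q by simp only [← Functor.map_comp], ← hq₀]
        simp only [Category.assoc]
        rw [equalizer.condition (hSm K p) (hSm K q)]
      obtain ⟨E, hE, hE'⟩ := exists_eq K _ _ hh'
      exact ⟨q₀, hq₀, E, hE, fun V₂ s hs => by simpa only [Category.assoc] using hE' s hs⟩
    choose Q hQ E hE hE' using hstep
    let R : Sieve V₀ := Sieve.bind R₁.arrows fun V₁ r hr => E r hr
    have hR : R ∈ K V₀ := K.bind_covering hR₁ fun V₁ r hr => hE r hr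
    obtain ⟨T, hT, hT'⟩ := hcover R hR b
    refine exists_cover_bind (fun W'' g'' => ∃ (V'' : D) (e' : V'' ⟶ V) (b' : W'' ⟶ u.obj V''),
      e' ≫ p = e' ≫ q ∧ (g'' ≫ g) ≫ a = b' ≫ u.map e') hT fun W₂ g₂ hg₂ => ?_
    obtain ⟨V', r', c, ⟨V₁, s, r, hr, hs, rfl⟩, hrc⟩ := hT' g₂ hg₂
    set q₀ := Q r hr
    have hq₀ := hQ r hr
    have hse : (s ≫ q₀) ≫ p = (s ≫ q₀) ≫ q := hE' r hr s hs
    have hei : e.inv ≫ (u.sheafPullback (Type u) K J).map (equalizer.ι _ _) = equalizer.ι _ _ :=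
      PreservesEqualizer.iso_inv_ι _ _ _
    have h₁ : hSm J (g₂ ≫ g ≫ a) = hSm J (c ≫ u.map (s ≫ q₀)) := by
      have h := congrArg (fun t => hSm J g₂ ≫ t ≫ (u.sheafPullback (Type u) K J).map (equalizer.ι _ _) ≫ φ u V) hz
      simp only [Category.assoc, reassoc_of% hei, equalizer.lift_ι_assoc, ψ_φ, Category.comp_id] at h
      rw [show hSm J (g₂ ≫ g ≫ a) = hSm J g₂ ≫ hSm J g ≫ hSm J a by
          simp only [← Functor.map_comp], h, ← reassoc_of% Functor.map_comp (u.sheafPullback (Type u) K J) z,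
        ← Category.assoc (hSm J g₂),
        show hSm J g₂ ≫ hSm J b = hSm J c ≫ hSm J (u.map (s ≫ r)) by simp only [← Functor.map_comp, hrc],
        Category.assoc, ← reassoc_of% (ψ_natural u (s ≫ r)), ← reassoc_of% Functor.map_comp (u.sheafPullback (Type u) K J),
        show hSm K (s ≫ r) = hSm K s ≫ hSm K r by simp only [← Functor.map_comp], Category.assoc, hq₀,
        show hSm K s ≫ hSm K q₀ = hSm K (s ≫ q₀) by simp only [← Functor.map_comp],
        reassoc_of% (ψ_natural u (s ≫ q₀)), ψ_φ, Category.comp_id]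
      simp only [← Functor.map_comp]
    obtain ⟨E₁, hE₁, hE₁'⟩ := exists_eq J _ _ h₁
    exact ⟨E₁, hE₁, fun W₃ g₃ hg₃ => ⟨V', s ≫ q₀, g₃ ≫ c, hse, by simpa using hE₁' g₃ hg₃⟩⟩

end Groth.Agent.PullFlat
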