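import Groth.Agent.PullFlat.Exact
import Mathlib.Algebra.Category.ModuleCat.Sheaf.PullbackFree

/-!
# The inverse image of the structure sheaf and of free modules
-/

set_option autoImplicit false
set_option linter.style.haveILetI false

universe u

open CategoryTheory CategoryTheory.Limits Opposite ModSite

namespace Groth.Agent.PullFlat

open Groth.Agent.ModFlat (rs map_val_smul)

variable {C D : Type u} [SmallCategory C] [SmallCategory D] {J : GrothendieckTopology C}
  {K : GrothendieckTopology D} {O_C : Sheaf J CommRingCat.{u}} {O_D : Sheaf K CommRingCat.{u}}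

variable (f : RMor O_C O_D)

/-- The comparison `f^* O_D ⟶ O_C`. -/
noncomputable def κ : f.pull.obj (ModSite.unit O_D) ⟶ ModSite.unit O_C :=
  SheafOfModules.pullbackObjUnitToUnit.{u} f.sharpR

theorem κ_etaS (V : D) (r : O_D.obj.obj (op V)) :
    appS (κ f) (f.fn.obj V) (etaS f (ModSite.unit O_D) V r) = sh f V r := by
  have h := f.adj.homEquiv_unit (X := ModSite.unit O_D) (Y := ModSite.unit O_C) (f := κ f)
  rw [show f.adj.homEquiv _ _ (κ f) = SheafOfModules.unitToPushforwardObjUnit f.sharpR from
    SheafOfModules.pullbackPushforwardAdjunction_homEquiv_pullbackObjUnitToUnit f.sharpR] at h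
  exact (congrArg (fun t : ModSite.unit O_D ⟶ f.push.obj (ModSite.unit O_C) => t.val.app (op V) r) h).symm

theorem κ_genVal {W : C} {V : D} (a : W ⟶ f.fn.obj V) (r : O_D.obj.obj (op V)) :
    appS (κ f) W (genVal f (ModSite.unit O_D) ⟨V, a, r⟩) = pl f a r := by
  refine (appS_res (κ f) a _).trans ?_
  exact congrArg (O_C.obj.map a.op).hom (κ_etaS f V r)

/-- The section `1` of `unit`. -/
noncomputable def oneS {C : Type u} [SmallCategory C] {J : GrothendieckTopology C}
    (O : Sheaf J CommRingCat.{u}) (V : C) : sect (ModSite.unit O) V := (1 : O.obj.obj (op V))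

theorem genVal_unit {W : C} {V : D} (a : W ⟶ f.fn.obj V) (r : O_D.obj.obj (op V)) :
    genVal f (ModSite.unit O_D) ⟨V, a, r⟩ = pl f a r • genVal f (ModSite.unit O_D) ⟨V, a, oneS O_D V⟩ := by
  have h : etaS f (ModSite.unit O_D) V r = sh f V r • etaS f (ModSite.unit O_D) V (oneS O_D V) := by
    rw [← etaS_smul]
    exact congrArg _ (mul_one r).symm
  show rs (f.pull.obj (ModSite.unit O_D)) a (etaS f (ModSite.unit O_D) V r) = _
  rw [h, map_val_smul]
  rfl

instance isIso_κ : IsIso (κ f) := by
  have : Mono (κ f) := mono_of_appS_injective _ fun W x hx => by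
    obtain ⟨T, hT, hT'⟩ := exists_common_repr (fun _ : Fin 1 => x)
    refine eq_zero_of_locally _ hT x fun W₁ g hg => ?_
    obtain ⟨V', b, n, k, d, hd⟩ := hT' g hg
    have h0 := congrArg (appS (κ f) W₁) (hd 0)
    rw [appS_res, hx, map_zero, map_sum] at h0
    have h1 : (∑ i, d 0 i * pl f b (k i)) = (0 : O_C.obj.obj (op W₁)) :=
      Eq.trans (Finset.sum_congr rfl fun i _ => by rw [map_smul, κ_genVal]; rfl) h0.symm
    rw [hd 0]
    simp only [fun i => genVal_unit f b (k i), smul_smul, ← Finset.sum_smul]
    rw [h1, zero_smul]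
  have : Epi (κ f) := Preadditive.epi_of_cancel_zero _ fun {N} t ht =>
    SheafOfModules.hom_ext (PresheafOfModules.hom_ext fun W => ModuleCat.hom_ext (LinearMap.ext fun c => by
      obtain ⟨S, hS, hS'⟩ := (covFlat_rmor f).some W.unop
      refine eq_zero_of_locally N hS (appS t W.unop c) fun W' g hg => ?_
      obtain ⟨V, ⟨a⟩⟩ := hS' g hg
      rw [← appS_res]
      have hc : rs (ModSite.unit O_C) g c =
          appS (κ f) W' ((O_C.obj.map g.op).hom c • genVal f (ModSite.unit O_D) ⟨V, a, oneS O_D V⟩) := by
        rw [map_smul, κ_genVal, oneS, map_one]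
        exact (mul_one ((O_C.obj.map g.op).hom c)).symm
      rw [hc, ← appS_comp, ht, appS_zero]))
  exact isIso_of_mono_of_epi _

/-- The inverse image of the structure sheaf is the structure sheaf. -/
noncomputable def pullUnitIso : f.pull.obj (ModSite.unit O_D) ≅ ModSite.unit O_C := asIso (κ f)

/-- The inverse image of a free module is free. -/
noncomputable def pullFreeIso (ι : Type u) :
    f.pull.obj (SheafOfModules.free (R := ringSh O_D) ι) ≅ SheafOfModules.free (R := ringSh O_C) ι :=
  haveI : f.pull.IsLeftAdjoint := f.adj.isLeftAdjoint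
  PreservesCoproduct.iso f.pull (fun _ : ι => ModSite.unit O_D) ≪≫ Sigma.mapIso fun _ => pullUnitIso f

end Groth.Agent.PullFlat
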