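import Groth.Agent.PullFlat.Crit
import Groth.Agent.KFlat.Tensor

/-!
# The inverse image commutes with tensor products
-/

set_option autoImplicit false
set_option linter.style.haveILetI false

universe u

open CategoryTheory CategoryTheory.Limits MonoidalCategory Opposite ModSite

namespace Groth.Agent.PullFlat

open Groth.Agent.ModFlat (rs map_val_smul map_val_comp map_ring_comp)
open Groth.Agent.KFlat (preAdj)

section Tmul

variable {C : Type u} [SmallCategory C] {J : GrothendieckTopology C} {O : Sheaf J CommRingCat.{u}}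

/-- The tensor product of two sheaves of modules. -/
noncomputable abbrev tens₂ (M N : Mod O) : Mod O := ((tensorBi O).obj M).obj N

/-- The presheaf tensor product of two sheaves of modules. -/
noncomputable abbrev pt₂ (M N : Mod O) : preMod O := (toPre O).obj M ⊗ (toPre O).obj N

/-- The product of two sections. -/
noncomputable def tmulS {M N : Mod O} {U : C} (m : sect M U) (n : sect N U) : sect (tens₂ M N) U :=
  ((preAdj O).unit.app (pt₂ M N)).app (op U)
    (m ⊗ₜ[O.obj.obj (op U)] n : TensorProduct (O.obj.obj (op U)) (sect M U) (sect N U))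

theorem tmulS_add_left {M N : Mod O} {U : C} (m m' : sect M U) (n : sect N U) :
    tmulS (m + m') n = tmulS m n + tmulS m' n :=
  (congrArg (((preAdj O).unit.app (pt₂ M N)).app (op U)) (TensorProduct.add_tmul (R := O.obj.obj (op U)) m m' n)).trans
    (map_add (((preAdj O).unit.app (pt₂ M N)).app (op U)).hom _ _)

theorem tmulS_add_right {M N : Mod O} {U : C} (m : sect M U) (n n' : sect N U) :
    tmulS m (n + n') = tmulS m n + tmulS m n' :=
  (congrArg (((preAdj O).unit.app (pt₂ M N)).app (op U)) (TensorProduct.tmul_add (R := O.obj.obj (op U)) m n n')).trans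
    (map_add (((preAdj O).unit.app (pt₂ M N)).app (op U)).hom _ _)

theorem tmulS_smul_left {M N : Mod O} {U : C} (r : O.obj.obj (op U)) (m : sect M U) (n : sect N U) :
    tmulS (r • m) n = r • tmulS m n :=
  (congrArg (((preAdj O).unit.app (pt₂ M N)).app (op U)) (TensorProduct.smul_tmul' (R := O.obj.obj (op U)) r m n).symm).trans
    (map_smul (((preAdj O).unit.app (pt₂ M N)).app (op U)).hom r _)

theorem tmulS_smul_right {M N : Mod O} {U : C} (r : O.obj.obj (op U)) (m : sect M U) (n : sect N U) :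
    tmulS m (r • n) = r • tmulS m n :=
  (congrArg (((preAdj O).unit.app (pt₂ M N)).app (op U)) (TensorProduct.tmul_smul (R := O.obj.obj (op U)) r m n)).trans
    (map_smul (((preAdj O).unit.app (pt₂ M N)).app (op U)).hom r _)

theorem tmulS_res {M N : Mod O} {U U' : C} (g : U' ⟶ U) (m : sect M U) (n : sect N U) :
    rs (tens₂ M N) g (tmulS m n) = tmulS (rs M g m) (rs N g n) :=
  (PresheafOfModules.naturality_apply ((preAdj O).unit.app (pt₂ M N)) g.op _).symm

theorem tmulS_sum_left {M N : Mod O} {U : C} {k : ℕ} (r : Fin k → O.obj.obj (op U)) (y : Fin k → sect M U)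
    (n : sect N U) : tmulS (∑ j, r j • y j) n = ∑ j, r j • tmulS (y j) n :=
  (map_sum (AddMonoidHom.mk' (fun m => tmulS m n) fun a b => tmulS_add_left a b n) _ _).trans
    (Finset.sum_congr rfl fun j _ => tmulS_smul_left (r j) (y j) n)

theorem tmulS_sum_right {M N : Mod O} {U : C} {k : ℕ} (r : Fin k → O.obj.obj (op U)) (y : Fin k → sect N U)
    (m : sect M U) : tmulS m (∑ j, r j • y j) = ∑ j, r j • tmulS m (y j) :=
  (map_sum (AddMonoidHom.mk' (fun n => tmulS m n) fun a b => tmulS_add_right m a b) _ _).trans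
    (Finset.sum_congr rfl fun j _ => tmulS_smul_right (r j) m (y j))

/-- Sections agreeing locally are equal. -/
theorem eq_of_locally (F : Mod O) {W : C} {S : Sieve W} (hS : S ∈ J W) (x y : sect F W)
    (h : ∀ ⦃W' : C⦄ (g : W' ⟶ W), S g → rs F g x = rs F g y) : x = y :=
  sub_eq_zero.1 (eq_zero_of_locally F hS (x - y) fun W' g hg => by rw [map_sub, h g hg, sub_self])

end Tmul

variable {C D : Type u} [SmallCategory C] [SmallCategory D] {J : GrothendieckTopology C}
  {K : GrothendieckTopology D} {O_C : Sheaf J CommRingCat.{u}} {O_D : Sheaf K CommRingCat.{u}}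

variable {f : RMor O_C O_D} {M N : Mod O_D}

/-- The product of two generators refined to one object. -/
noncomputable def prodGen {W : C} {V : D} (b : W ⟶ f.fn.obj V) {V₁ V₂ : D} (q₁ : V ⟶ V₁) (q₂ : V ⟶ V₂)
    (m : sect M V₁) (n : sect N V₂) : sect (f.pull.obj (tens₂ M N)) W :=
  genVal f (tens₂ M N) ⟨V, b, tmulS (rs M q₁ m) (rs N q₂ n)⟩

theorem prodGen_res {W W' : C} (g : W' ⟶ W) {V : D} (b : W ⟶ f.fn.obj V) {V₁ V₂ : D} (q₁ : V ⟶ V₁)
    (q₂ : V ⟶ V₂) (m : sect M V₁) (n : sect N V₂) :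
    rs (f.pull.obj (tens₂ M N)) g (prodGen b q₁ q₂ m n) = prodGen (g ≫ b) q₁ q₂ m n :=
  (genVal_res f (tens₂ M N) g _).symm

theorem prodGen_map {W : C} {V V' : D} (b : W ⟶ f.fn.obj V') (e : V' ⟶ V) {V₁ V₂ : D} (q₁ : V ⟶ V₁)
    (q₂ : V ⟶ V₂) (m : sect M V₁) (n : sect N V₂) :
    prodGen (b ≫ f.fn.map e) q₁ q₂ m n = prodGen b (e ≫ q₁) (e ≫ q₂) m n := by
  rw [prodGen, genVal_map, tmulS_res, ← map_val_comp, ← map_val_comp]
  rfl

theorem prodGen_indep {W : C} {V₁ V₂ : D} (m : sect M V₁) (n : sect N V₂) {V V' : D} (b : W ⟶ f.fn.obj V)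
    (b' : W ⟶ f.fn.obj V') (q₁ : V ⟶ V₁) (q₂ : V ⟶ V₂) (p₁ : V' ⟶ V₁) (p₂ : V' ⟶ V₂)
    (h₁ : b ≫ f.fn.map q₁ = b' ≫ f.fn.map p₁) (h₂ : b ≫ f.fn.map q₂ = b' ≫ f.fn.map p₂) :
    prodGen b q₁ q₂ m n = prodGen b' p₁ p₂ m n := by
  obtain ⟨S, hS, hS'⟩ := (covFlat_rmor f).pair b b'
  refine eq_of_locally _ hS _ _ fun W₁ g hg => ?_
  obtain ⟨V'', e, e', c, he, he'⟩ := hS' g hg
  rw [prodGen_res, prodGen_res, he, he', prodGen_map, prodGen_map]
  have hc₁ : c ≫ f.fn.map (e ≫ q₁) = c ≫ f.fn.map (e' ≫ p₁) := by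
    rw [f.fn.map_comp, f.fn.map_comp, ← Category.assoc, ← Category.assoc, ← he, ← he', Category.assoc,
      Category.assoc, h₁]
  have hc₂ : c ≫ f.fn.map (e ≫ q₂) = c ≫ f.fn.map (e' ≫ p₂) := by
    rw [f.fn.map_comp, f.fn.map_comp, ← Category.assoc, ← Category.assoc, ← he, ← he', Category.assoc,
      Category.assoc, h₂]
  obtain ⟨T, hT, hT'⟩ := (covFlat_rmor f).eq _ _ c hc₁
  refine eq_of_locally _ hT _ _ fun W₂ g₂ hg₂ => ?_
  obtain ⟨V₃, d, c₃, hd, hd'⟩ := hT' g₂ hg₂
  rw [prodGen_res, prodGen_res, hd', prodGen_map, prodGen_map, hd]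
  have hc₃ : c₃ ≫ f.fn.map (d ≫ e ≫ q₂) = c₃ ≫ f.fn.map (d ≫ e' ≫ p₂) := by
    rw [f.fn.map_comp d, f.fn.map_comp d, ← Category.assoc, ← Category.assoc, ← hd', Category.assoc,
      Category.assoc, hc₂]
  obtain ⟨T', hT₁, hT₁'⟩ := (covFlat_rmor f).eq _ _ c₃ hc₃
  refine eq_of_locally _ hT₁ _ _ fun W₃ g₃ hg₃ => ?_
  obtain ⟨V₄, d', c₄, hd₄, hd₄'⟩ := hT₁' g₃ hg₃
  rw [prodGen_res, prodGen_res, hd₄', prodGen_map, prodGen_map, hd₄]

/-- The defining property of the product of two generators. -/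
def IsProd {W : C} (x : Gen f M W) (y : Gen f N W) (z : sect (f.pull.obj (tens₂ M N)) W) : Prop :=
  ∀ ⦃W' : C⦄ (g : W' ⟶ W) (V : D) (b : W' ⟶ f.fn.obj V) (q₁ : V ⟶ x.1) (q₂ : V ⟶ y.1),
    g ≫ x.2.1 = b ≫ f.fn.map q₁ → g ≫ y.2.1 = b ≫ f.fn.map q₂ →
      rs (f.pull.obj (tens₂ M N)) g z = prodGen b q₁ q₂ x.2.2 y.2.2

theorem exists_isProd {W : C} (x : Gen f M W) (y : Gen f N W) : ∃ z, IsProd x y z := by
  obtain ⟨S, hS, hS'⟩ := (covFlat_rmor f).pair x.2.1 y.2.1
  choose V q₁ q₂ b h₁ h₂ using hS'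
  let T := f.pull.obj (tens₂ M N)
  let fam : Presieve.FamilyOfElements (T.val.presheaf ⋙ forget AddCommGrpCat.{u}) S.arrows :=
    fun W' g hg => prodGen (b g hg) (q₁ g hg) (q₂ g hg) x.2.2 y.2.2
  have hfam : fam.Compatible := fun Y₁ Y₂ Z g₁ g₂ f₁ f₂ hf₁ hf₂ hh => by
    show rs T g₁ (fam f₁ hf₁) = rs T g₂ (fam f₂ hf₂)
    refine (prodGen_res g₁ _ _ _ _ _).trans ((prodGen_indep _ _ _ _ _ _ _ _ ?_ ?_).trans
      (prodGen_res g₂ _ _ _ _ _).symm)
    · rw [Category.assoc, Category.assoc, ← h₁ f₁ hf₁, ← h₁ f₂ hf₂, ← Category.assoc, ← Category.assoc, hh]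
    · rw [Category.assoc, Category.assoc, ← h₂ f₁ hf₁, ← h₂ f₂ hf₂, ← Category.assoc, ← Category.assoc, hh]
  obtain ⟨z, hz, -⟩ := ((isSheaf_iff_isSheaf_of_type J _).1
    (Presheaf.isSheaf_comp_of_isSheaf J T.val.presheaf (forget AddCommGrpCat.{u}) T.isSheaf)) S hS fam hfam
  refine ⟨z, fun W' g V' b' p₁ p₂ hp₁ hp₂ => ?_⟩
  refine eq_of_locally _ (J.pullback_stable g hS) _ _ fun W'' g' hg' => ?_
  rw [← map_val_comp, prodGen_res]
  refine Eq.trans (hz (g' ≫ g) hg') (prodGen_indep _ _ _ _ _ _ _ _ ?_ ?_)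
  · rw [← h₁ _ hg', Category.assoc, hp₁, Category.assoc]
  · rw [← h₂ _ hg', Category.assoc, hp₂, Category.assoc]

/-- The product of two generators. -/
noncomputable def prodVal {W : C} (x : Gen f M W) (y : Gen f N W) : sect (f.pull.obj (tens₂ M N)) W :=
  (exists_isProd x y).choose

theorem isProd_prodVal {W : C} (x : Gen f M W) (y : Gen f N W) : IsProd x y (prodVal x y) :=
  (exists_isProd x y).choose_spec

theorem IsProd.unique {W : C} {x : Gen f M W} {y : Gen f N W} {z z' : sect (f.pull.obj (tens₂ M N)) W}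
    (h : IsProd x y z) (h' : IsProd x y z') : z = z' := by
  obtain ⟨S, hS, hS'⟩ := (covFlat_rmor f).pair x.2.1 y.2.1
  refine eq_of_locally _ hS _ _ fun W' g hg => ?_
  obtain ⟨V, q₁, q₂, b, h₁, h₂⟩ := hS' g hg
  rw [h g V b q₁ q₂ h₁ h₂, h' g V b q₁ q₂ h₁ h₂]

theorem prodVal_res {W W' : C} (g : W' ⟶ W) (x : Gen f M W) (y : Gen f N W) :
    rs (f.pull.obj (tens₂ M N)) g (prodVal x y) = prodVal (x.res g) (y.res g) := by
  refine IsProd.unique ?_ (isProd_prodVal _ _)
  intro W'' g' V b q₁ q₂ h₁ h₂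
  rw [← map_val_comp]
  exact isProd_prodVal x y (g' ≫ g) V b q₁ q₂ ((Category.assoc _ _ _).trans h₁) ((Category.assoc _ _ _).trans h₂)

/-- The bilinear extension of the product. -/
noncomputable def prodLin (W : C) : (Gen f M W →₀ O_C.obj.obj (op W)) →ₗ[O_C.obj.obj (op W)]
    (Gen f N W →₀ O_C.obj.obj (op W)) →ₗ[O_C.obj.obj (op W)] sect (f.pull.obj (tens₂ M N)) W :=
  Finsupp.linearCombination _ fun x => Finsupp.linearCombination _ fun y => prodVal x y

theorem prodLin_single {W : C} (x : Gen f M W) (y : Gen f N W) (r s : O_C.obj.obj (op W)) :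
    prodLin W (Finsupp.single x r) (Finsupp.single y s) = r • s • prodVal x y := by
  simp [prodLin]

theorem prodVal_sum_left {W : C} {n : ℕ} {G : Fin n → Gen f M W} {c : Fin n → O_C.obj.obj (op W)}
    (h : LNull G c) (y : Gen f N W) : ∑ i, c i • prodVal (G i) y = 0 := by
  obtain ⟨S, hS, hS'⟩ := h
  refine eq_zero_of_locally _ hS _ fun W₁ g hg => ?_
  obtain ⟨V', a, k, Y, A, hA, hA'⟩ := hS' g hg
  obtain ⟨T, hT, hT'⟩ := (covFlat_rmor f).pair a (g ≫ y.2.1)
  refine eq_zero_of_locally _ hT _ fun W₂ g₂ hg₂ => ?_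
  obtain ⟨V, p₁, p₂, b, hp₁, hp₂⟩ := hT' g₂ hg₂
  rw [← map_val_comp, map_sum]
  choose q hq hqv using hA
  have key : ∀ i, rs (f.pull.obj (tens₂ M N)) (g₂ ≫ g) (prodVal (G i) y) =
      ∑ j, pl f b ((O_D.obj.map p₁.op).hom (A i j)) •
        genVal f (tens₂ M N) ⟨V, b, tmulS (rs M p₁ (Y j)) (rs N p₂ y.2.2)⟩ := fun i => by
    have hqi := hq i
    change g ≫ (G i).2.1 = a ≫ f.fn.map (q i) at hqi
    rw [isProd_prodVal (G i) y (g₂ ≫ g) V b (p₁ ≫ q i) p₂
      ((Category.assoc _ _ _).trans ((congrArg (g₂ ≫ ·) hqi).trans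
        (((reassoc_of% hp₁) _).trans (congrArg (b ≫ ·) (f.fn.map_comp _ _).symm))))
      (by rw [Category.assoc]; exact hp₂)]
    have hv : rs M (p₁ ≫ q i) (G i).2.2 = ∑ j, (O_D.obj.map p₁.op).hom (A i j) • rs M p₁ (Y j) := by
      refine (map_val_comp p₁ (q i) _).trans ((congrArg (rs M p₁) (hqv i)).trans ((map_sum _ _ _).trans ?_))
      exact Finset.sum_congr rfl fun j _ => map_val_smul p₁ _ _
    exact (congrArg (fun t => genVal f (tens₂ M N) ⟨V, b, t⟩)
      ((congrArg (fun t => tmulS t (rs N p₂ y.2.2)) hv).trans (tmulS_sum_left _ _ _))).trans (genVal_sum _ _ _)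
  simp only [map_val_smul, key, Finset.smul_sum, smul_smul]
  rw [Finset.sum_comm]
  refine Finset.sum_eq_zero fun j _ => ?_
  rw [← Finset.sum_smul]
  refine smul_eq_zero_of_left ?_ _
  simp only [map_ring_comp, pl_map, ← hp₁, ← pl_res, ← map_mul, ← map_sum, hA' j, map_zero]

theorem prodVal_sum_right {W : C} {n : ℕ} {G : Fin n → Gen f N W} {c : Fin n → O_C.obj.obj (op W)}
    (h : LNull G c) (x : Gen f M W) : ∑ i, c i • prodVal x (G i) = 0 := by
  obtain ⟨S, hS, hS'⟩ := h
  refine eq_zero_of_locally _ hS _ fun W₁ g hg => ?_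
  obtain ⟨V', a, k, Y, A, hA, hA'⟩ := hS' g hg
  obtain ⟨T, hT, hT'⟩ := (covFlat_rmor f).pair a (g ≫ x.2.1)
  refine eq_zero_of_locally _ hT _ fun W₂ g₂ hg₂ => ?_
  obtain ⟨V, p₁, p₂, b, hp₁, hp₂⟩ := hT' g₂ hg₂
  rw [← map_val_comp, map_sum]
  choose q hq hqv using hA
  have key : ∀ i, rs (f.pull.obj (tens₂ M N)) (g₂ ≫ g) (prodVal x (G i)) =
      ∑ j, pl f b ((O_D.obj.map p₁.op).hom (A i j)) •
        genVal f (tens₂ M N) ⟨V, b, tmulS (rs M p₂ x.2.2) (rs N p₁ (Y j))⟩ := fun i => by
    have hqi := hq i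
    change g ≫ (G i).2.1 = a ≫ f.fn.map (q i) at hqi
    rw [isProd_prodVal x (G i) (g₂ ≫ g) V b p₂ (p₁ ≫ q i)
      (by rw [Category.assoc]; exact hp₂)
      ((Category.assoc _ _ _).trans ((congrArg (g₂ ≫ ·) hqi).trans
        (((reassoc_of% hp₁) _).trans (congrArg (b ≫ ·) (f.fn.map_comp _ _).symm))))]
    have hv : rs N (p₁ ≫ q i) (G i).2.2 = ∑ j, (O_D.obj.map p₁.op).hom (A i j) • rs N p₁ (Y j) := by
      refine (map_val_comp p₁ (q i) _).trans ((congrArg (rs N p₁) (hqv i)).trans ((map_sum _ _ _).trans ?_))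
      exact Finset.sum_congr rfl fun j _ => map_val_smul p₁ _ _
    exact (congrArg (fun t => genVal f (tens₂ M N) ⟨V, b, t⟩)
      ((congrArg (fun t => tmulS (rs M p₂ x.2.2) t) hv).trans (tmulS_sum_right _ _ _))).trans (genVal_sum _ _ _)
  simp only [map_val_smul, key, Finset.smul_sum, smul_smul]
  rw [Finset.sum_comm]
  refine Finset.sum_eq_zero fun j _ => ?_
  rw [← Finset.sum_smul]
  refine smul_eq_zero_of_left ?_ _
  simp only [map_ring_comp, pl_map, ← hp₁, ← pl_res, ← map_mul, ← map_sum, hA' j, map_zero]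

theorem prodLin_null_left {W : C} (φ : Gen f M W →₀ O_C.obj.obj (op W)) (hφ : φ ∈ nullSub f M W) :
    prodLin (N := N) W φ = 0 := by
  obtain ⟨n, G, c, rfl, h⟩ := hφ
  refine Finsupp.lhom_ext fun y s => ?_
  simp only [comb, map_sum, LinearMap.sum_apply, prodLin_single, LinearMap.zero_apply]
  refine (Finset.sum_congr rfl fun i _ => smul_comm _ _ _).trans ?_
  rw [← Finset.smul_sum, prodVal_sum_left h y, smul_zero]

theorem prodLin_null_right {W : C} (φ : Gen f N W →₀ O_C.obj.obj (op W)) (hφ : φ ∈ nullSub f N W) :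
    (prodLin (M := M) W).flip φ = 0 := by
  obtain ⟨n, G, c, rfl, h⟩ := hφ
  refine Finsupp.lhom_ext fun x r => ?_
  simp only [comb, map_sum, LinearMap.sum_apply, LinearMap.flip_apply, prodLin_single, LinearMap.zero_apply]
  rw [← Finset.smul_sum, prodVal_sum_right h x, smul_zero]

/-- The product on classes. -/
noncomputable def prodQ (W : C) : QObj f M W →ₗ[O_C.obj.obj (op W)]
    QObj f N W →ₗ[O_C.obj.obj (op W)] sect (f.pull.obj (tens₂ M N)) W :=
  ((nullSub f N W).liftQ ((nullSub f M W).liftQ (prodLin W) fun φ hφ => prodLin_null_left φ hφ).flip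
    fun φ hφ => by
      refine LinearMap.ext fun z => ?_
      obtain ⟨ψ, rfl⟩ := Submodule.Quotient.mk_surjective _ z
      exact LinearMap.congr_fun (prodLin_null_right φ hφ) ψ).flip

theorem prodQ_mk {W : C} (φ : Gen f M W →₀ O_C.obj.obj (op W)) (ψ : Gen f N W →₀ O_C.obj.obj (op W)) :
    prodQ W (Submodule.Quotient.mk φ) (Submodule.Quotient.mk ψ) = prodLin W φ ψ := rfl

variable (f M N)

/-- The product as a map of presheaves. -/
noncomputable def prodPre : Q f M ⊗ Q f N ⟶ (toPre O_C).obj (f.pull.obj (tens₂ M N)) where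
  app W := ModuleCat.ofHom (TensorProduct.lift (prodQ W.unop))
  naturality {W W'} g := by
    refine ModuleCat.hom_ext (LinearMap.ext fun z => ?_)
    induction z using TensorProduct.induction_on with
    | zero => exact (map_zero _).trans (map_zero _).symm
    | add a b ha hb => exact (map_add _ a b).trans ((congrArg₂ (· + ·) ha hb).trans (map_add _ a b).symm)
    | tmul a b =>
      obtain ⟨φ, rfl⟩ := Submodule.Quotient.mk_surjective _ (a : QObj f M W.unop)
      obtain ⟨ψ, rfl⟩ := Submodule.Quotient.mk_surjective _ (b : QObj f N W.unop)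
      change prodLin W'.unop (fRes f M g.unop φ) (fRes f N g.unop ψ) =
        rs (f.pull.obj (tens₂ M N)) g.unop (prodLin W.unop φ ψ)
      induction φ using Finsupp.induction_linear with
      | zero => simp
      | add a b ha hb => simp only [map_add, LinearMap.add_apply, ha, hb]
      | single x r =>
        induction ψ using Finsupp.induction_linear with
        | zero => simp
        | add a b ha hb => simp only [map_add, ha, hb]
        | single y s =>
          rw [fRes_single, fRes_single, prodLin_single, prodLin_single, map_val_smul, map_val_smul, prodVal_res]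

/-- The comparison, on presheaves. -/
noncomputable def tensPullPre :
    pt₂ M N ⟶ (toPre O_D).obj (f.push.obj (tens₂ (f.pull.obj M) (f.pull.obj N))) where
  app V := ModuleCat.ofHom (Y := ((toPre O_D).obj (f.push.obj (tens₂ (f.pull.obj M) (f.pull.obj N)))).obj V)
    (TensorProduct.lift (LinearMap.mk₂ (O_D.obj.obj V)
      (fun (m : sect M V.unop) (n : sect N V.unop) =>
        show ((toPre O_D).obj (f.push.obj (tens₂ (f.pull.obj M) (f.pull.obj N)))).obj V from
          tmulS (etaS f M V.unop m) (etaS f N V.unop n))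
      (fun m m' n => (congrArg (fun t => tmulS t (etaS f N V.unop n)) (etaS_add f M V.unop m m')).trans
        (tmulS_add_left _ _ _))
      (fun r m n => (congrArg (fun t => tmulS t (etaS f N V.unop n)) (etaS_smul f M V.unop r m)).trans
        (tmulS_smul_left _ _ _))
      (fun m n n' => (congrArg (fun t => tmulS (etaS f M V.unop m) t) (etaS_add f N V.unop n n')).trans
        (tmulS_add_right _ _ _))
      (fun r m n => (congrArg (fun t => tmulS (etaS f M V.unop m) t) (etaS_smul f N V.unop r n)).trans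
        (tmulS_smul_right _ _ _))))
  naturality {V V'} q := by
    refine ModuleCat.hom_ext (LinearMap.ext fun z => ?_)
    induction z using TensorProduct.induction_on with
    | zero => exact (map_zero _).trans (map_zero _).symm
    | add a b ha hb => exact (map_add _ a b).trans ((congrArg₂ (· + ·) ha hb).trans (map_add _ a b).symm)
    | tmul m n =>
      exact (congrArg₂ tmulS (etaS_map f M q.unop m) (etaS_map f N q.unop n)).trans
        (tmulS_res (f.fn.map q.unop) _ _).symm

/-- The comparison `f^*(M ⊗ N) ⟶ f^*M ⊗ f^*N`. -/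
noncomputable def tensPull : f.pull.obj (tens₂ M N) ⟶ tens₂ (f.pull.obj M) (f.pull.obj N) :=
  (f.adj.homEquiv _ _).symm (((preAdj O_D).homEquiv _ _).symm (tensPullPre f M N))

theorem tensPull_etaS (V : D) (m : sect M V) (n : sect N V) :
    appS (tensPull f M N) (f.fn.obj V) (etaS f (tens₂ M N) V (tmulS m n)) =
      tmulS (etaS f M V m) (etaS f N V n) := by
  have h₁ := f.adj.homEquiv_unit (X := tens₂ M N) (f := tensPull f M N)
  rw [tensPull, Equiv.apply_symm_apply] at h₁
  have h₂ := (preAdj O_D).homEquiv_unit (pt₂ M N) (f.push.obj (tens₂ (f.pull.obj M) (f.pull.obj N)))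
    (((preAdj O_D).homEquiv _ _).symm (tensPullPre f M N))
  rw [Equiv.apply_symm_apply] at h₂
  exact (congrArg (fun t : tens₂ M N ⟶ f.push.obj (tens₂ (f.pull.obj M) (f.pull.obj N)) =>
    t.val.app (op V) (tmulS m n)) h₁).symm.trans (congrArg (fun t => t.app (op V)
      (m ⊗ₜ[O_D.obj.obj (op V)] n : TensorProduct (O_D.obj.obj (op V)) (sect M V) (sect N V))) h₂).symm

theorem tensPull_prodVal {W : C} (x : Gen f M W) (y : Gen f N W) :
    appS (tensPull f M N) W (prodVal x y) = tmulS (genVal f M x) (genVal f N y) := by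
  obtain ⟨S, hS, hS'⟩ := (covFlat_rmor f).pair x.2.1 y.2.1
  refine eq_of_locally _ hS _ _ fun W' g hg => ?_
  obtain ⟨V, q₁, q₂, b, h₁, h₂⟩ := hS' g hg
  rw [← appS_res, isProd_prodVal x y g V b q₁ q₂ h₁ h₂, prodGen, genVal, appS_res]
  rw [tensPull_etaS, tmulS_res, tmulS_res, ← genVal_res, ← genVal_res, etaS_map, etaS_map,
    ← map_val_comp, ← map_val_comp, ← h₁, ← h₂]
  rfl

/-- The comparison is an isomorphism. -/
theorem isIso_tensPull : IsIso (tensPull f M N) := by
  let χ : (shPre O_C).obj (Q f M ⊗ Q f N) ⟶ tens₂ (f.pull.obj M) (f.pull.obj N) :=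
    (shPre O_C).map (evalPre f M ⊗ₘ evalPre f N)
  have hχ : IsIso χ := by
    show IsIso ((shPre O_C).map (evalPre f M ⊗ₘ evalPre f N))
    rw [MonoidalCategory.tensorHom_def, Functor.map_comp]
    infer_instance
  let β : (shPre O_C).obj (Q f M ⊗ Q f N) ⟶ f.pull.obj (tens₂ M N) :=
    ((preAdj O_C).homEquiv _ _).symm (prodPre f M N)
  have hβ : ∀ {W : C} (a : QObj f M W) (b : QObj f N W),
      appS β W (((preAdj O_C).unit.app (Q f M ⊗ Q f N)).app (op W)
        (a ⊗ₜ[O_C.obj.obj (op W)] b : TensorProduct (O_C.obj.obj (op W)) (QObj f M W) (QObj f N W))) =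
        prodQ W a b := fun {W} a b => by
    have h := (preAdj O_C).homEquiv_unit (Q f M ⊗ Q f N) (f.pull.obj (tens₂ M N)) β
    rw [Equiv.apply_symm_apply] at h
    exact (congrArg (fun t => t.app (op W)
      (a ⊗ₜ[O_C.obj.obj (op W)] b : TensorProduct (O_C.obj.obj (op W)) (QObj f M W) (QObj f N W))) h).symm
  have hχ' : ∀ {W : C} (a : QObj f M W) (b : QObj f N W),
      appS χ W (((preAdj O_C).unit.app (Q f M ⊗ Q f N)).app (op W)
        (a ⊗ₜ[O_C.obj.obj (op W)] b : TensorProduct (O_C.obj.obj (op W)) (QObj f M W) (QObj f N W))) =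
        tmulS ((evalPre f M).app (op W) a) ((evalPre f N).app (op W) b) := fun {W} a b =>
    (congrArg (fun t => t.app (op W)
      (a ⊗ₜ[O_C.obj.obj (op W)] b : TensorProduct (O_C.obj.obj (op W)) (QObj f M W) (QObj f N W)))
      ((preAdj O_C).unit.naturality (evalPre f M ⊗ₘ evalPre f N))).symm
  have h₁ : β ≫ tensPull f M N = χ := by
    refine ((preAdj O_C).homEquiv _ _).injective ?_
    rw [Adjunction.homEquiv_unit, Adjunction.homEquiv_unit]
    refine PresheafOfModules.hom_ext fun W => ModuleCat.hom_ext (LinearMap.ext fun z => ?_)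
    induction z using TensorProduct.induction_on with
    | zero => exact (map_zero _).trans (map_zero _).symm
    | add a b ha hb => exact (map_add _ a b).trans ((congrArg₂ (· + ·) ha hb).trans (map_add _ a b).symm)
    | tmul a b =>
      refine (congrArg (appS (tensPull f M N) W.unop) (hβ (W := W.unop) a b)).trans
        (Eq.trans ?_ (hχ' (W := W.unop) a b).symm)
      obtain ⟨φ, rfl⟩ := Submodule.Quotient.mk_surjective _ (a : QObj f M W.unop)
      obtain ⟨ψ, rfl⟩ := Submodule.Quotient.mk_surjective _ (b : QObj f N W.unop)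
      change appS (tensPull f M N) W.unop (prodLin W.unop φ ψ) =
        tmulS (Finsupp.linearCombination _ (genVal f M) φ) (Finsupp.linearCombination _ (genVal f N) ψ)
      induction φ using Finsupp.induction_linear with
      | zero =>
        simp only [map_zero, LinearMap.zero_apply]
        exact (map_zero (AddMonoidHom.mk' (fun m => tmulS m _) fun a b => tmulS_add_left a b _)).symm
      | add a b ha hb => simp only [map_add, LinearMap.add_apply, ha, hb, tmulS_add_left]
      | single x r =>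
        induction ψ using Finsupp.induction_linear with
        | zero =>
          simp only [map_zero]
          exact (map_zero (AddMonoidHom.mk' (fun n => tmulS _ n) fun a b => tmulS_add_right _ a b)).symm
        | add a b ha hb => simp only [map_add, ha, hb, tmulS_add_right]
        | single y s =>
          rw [prodLin_single, map_smul, map_smul, tensPull_prodVal, Finsupp.linearCombination_single,
            Finsupp.linearCombination_single, tmulS_smul_left, tmulS_smul_right]
  have h₂ : tensPull f M N ≫ inv χ ≫ β = 𝟙 _ := by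
    refine (f.adj.homEquiv _ _).injective (((preAdj O_D).homEquiv _ _).injective ?_)
    refine PresheafOfModules.hom_ext fun V => ModuleCat.hom_ext (LinearMap.ext fun z => ?_)
    rw [Adjunction.homEquiv_unit, Adjunction.homEquiv_unit, Adjunction.homEquiv_unit, Adjunction.homEquiv_unit]
    induction z using TensorProduct.induction_on with
    | zero => exact (map_zero _).trans (map_zero _).symm
    | add a b ha hb => exact (map_add _ a b).trans ((congrArg₂ (· + ·) ha hb).trans (map_add _ a b).symm)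
    | tmul m n =>
      change appS β _ (appS (inv χ) _ (appS (tensPull f M N) (f.fn.obj V.unop)
        (etaS f (tens₂ M N) V.unop (tmulS m n)))) = etaS f (tens₂ M N) V.unop (tmulS m n)
      have e₁ : ∀ (M : Mod O_D) (m : sect M V.unop),
          (evalPre f M).app (op (f.fn.obj V.unop)) (cls f M ⟨V.unop, 𝟙 _, m⟩ 1) = etaS f M V.unop m :=
        fun M m => (θ_toSh f M _).symm.trans (θ_cl f M V.unop m)
      rw [tensPull_etaS, ← e₁ M m, ← e₁ N n,
        ← hχ' (W := f.fn.obj V.unop) (cls f M ⟨V.unop, 𝟙 _, m⟩ 1) (cls f N ⟨V.unop, 𝟙 _, n⟩ 1),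
        ← appS_comp χ (inv χ), IsIso.hom_inv_id]
      refine (hβ _ _).trans ((prodLin_single _ _ _ _).trans ?_)
      rw [one_smul, one_smul]
      refine ((rs_id _ _ _).symm.trans (isProd_prodVal _ _ (𝟙 _) V.unop (𝟙 _) (𝟙 _) (𝟙 _) (by simp) (by simp))).trans ?_
      rw [prodGen, rs_id, rs_id, genVal]
      exact rs_id _ _ _
  refine ⟨inv χ ≫ β, h₂, ?_⟩
  rw [Category.assoc, h₁, IsIso.inv_hom_id]

/-- The inverse image of a tensor product is the tensor product of the inverse images. -/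
theorem nonempty_pull_tensor_iso :
    Nonempty (tens₂ (f.pull.obj M) (f.pull.obj N) ≅ f.pull.obj (tens₂ M N)) := by
  haveI := isIso_tensPull f M N
  exact ⟨(asIso (tensPull f M N)).symm⟩

end Groth.Agent.PullFlat
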