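import Groth.Agent.PullFlat.Flat
import Groth.Agent.KFlat.Resolution
import Groth.Agent.KFlat.FlatQuot
import Groth.Agent.KFlat.Brutal
import Groth.Agent.KFlat.Shift
import Groth.Agent.KFlat.Homological
import Groth.Agent.KFlat.CxAdj
import Groth.Agent.ModFlat.KFlatCycles
import Groth.Agent.ModFlat.FreeRes
import Mathlib.Algebra.Homology.HomotopyCategory.MappingCone

/-!
# Inverse images of K-flat complexes of flat modules are K-flat
-/

set_option autoImplicit false
set_option linter.style.haveILetI false

universe u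

open CategoryTheory CategoryTheory.Limits Opposite ModSite
open Groth.Agent.KFlat

namespace Groth.Agent.PullFlat

section Trunc

variable {A : Type*} [Category A] [Abelian A] (M : CochainComplex A ℤ)

theorem isIso_ιTruncLE_f (c i : ℤ) (hi : i < c) : IsIso ((M.ιTruncLE c).f i) := by
  obtain ⟨k, hk⟩ : ∃ k : ℕ, i = c - k := ⟨(c - i).toNat, by omega⟩
  let e := ComplexShape.embeddingUpIntLE c
  have : IsIso ((HomologicalComplex.πTruncGE M.op e.op).f i) := by
    show IsIso ((e.op.liftExtend _ (M.op.restrictionToTruncGE'_hasLift e.op)).f i)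
    rw [e.op.isIso_liftExtend_f_iff _ _ (i := k) (show e.op.f k = i by simp [e, hk])]
    refine M.op.isIso_restrictionToTruncGE' e.op k ?_
    rw [ComplexShape.Embedding.op_boundaryGE_iff, ComplexShape.boundaryLE_embeddingUpIntLE_iff]
    omega
  exact inferInstanceAs (IsIso ((HomologicalComplex.πTruncGE M.op e.op).f i).unop)

end Trunc

variable {C D : Type u} [SmallCategory C] [SmallCategory D] {J : GrothendieckTopology C}
  {K : GrothendieckTopology D} {O_C : Sheaf J CommRingCat.{u}} {O_D : Sheaf K CommRingCat.{u}}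

variable (f : RMor O_C O_D)

theorem tensorMono_pull {M : Mod O_D} (h : TensorMono M) : TensorMono (f.pull.obj M) :=
  tensorMono_of_isFlat (isFlat_pull (isFlat_of_tensorMono h))

instance additive_pull : f.pull.Additive :=
  haveI : f.pull.IsLeftAdjoint := f.adj.isLeftAdjoint
  haveI := preservesBinaryBiproducts_of_preservesBinaryCoproducts f.pull
  Functor.additive_of_preservesBinaryBiproducts _

/-- The inverse image of complexes. -/
noncomputable abbrev pullCx : CochainComplex (Mod O_D) ℤ ⥤ CochainComplex (Mod O_C) ℤ :=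
  f.pull.mapHomologicalComplex (ComplexShape.up ℤ)

instance isLeftAdjoint_pullCx : (pullCx f).IsLeftAdjoint :=
  (CxAdj.mapCx f.adj (ComplexShape.up ℤ)).isLeftAdjoint

theorem isKFlat_pullCx_single {F : Mod O_D} (h : TensorMono F) (n : ℤ) :
    ModSite.IsKFlat ((pullCx f).obj ((HomologicalComplex.single (Mod O_D) (ComplexShape.up ℤ) n).obj F)) :=
  isKFlat_of_iso ((HomologicalComplex.singleMapHomologicalComplex f.pull (ComplexShape.up ℤ) n).app F).symm
    (isKFlat_single (tensorMono_pull f h) n)

theorem isKFlat_pullCx_disk (i : D × ℤ) : ModSite.IsKFlat ((pullCx f).obj (disk O_D i)) :=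
  isKFlat_middle (S := (cellSeq O_D i).map (pullCx f))
    (fun L _ => shortExact_tens (fun q => (cellSeqSplitting O_D i q).map f.pull) L)
    (isKFlat_pullCx_single f (tensorMono_freeU i.1) _) (isKFlat_pullCx_single f (tensorMono_freeU i.1) _)

theorem preservesColimitsOfSize_pullCx :
    PreservesColimitsOfSize.{u, u} (pullCx f) :=
  (CxAdj.mapCx f.adj (ComplexShape.up ℤ)).leftAdjoint_preservesColimits

set_option maxHeartbeats 1000000 in
theorem isKFlat_pullCx_of_isColimit {I : Type u} [Category.{u} I] [HasExactColimitsOfShape I (Mod O_C)]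
    {G : I ⥤ CochainComplex (Mod O_D) ℤ} {c : Cocone G} (hc : IsColimit c)
    (h : ∀ j, ModSite.IsKFlat ((pullCx f).obj (G.obj j))) : ModSite.IsKFlat ((pullCx f).obj c.pt) := by
  have := preservesColimitsOfSize_pullCx f
  have := isKFlat_of_isColimit (isColimitOfPreserves (pullCx f) hc) h
  exact this

theorem isKFlat_pullCx_sigma {ι : Type u} (F : ι → CochainComplex (Mod O_D) ℤ)
    (h : ∀ i, ModSite.IsKFlat ((pullCx f).obj (F i))) : ModSite.IsKFlat ((pullCx f).obj (∐ F)) :=
  isKFlat_pullCx_of_isColimit f (coproductIsCoproduct F) fun j => h j.as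

theorem isKFlat_pullCx_step {X S : CochainComplex (Mod O_D) ℤ} (π : X ⟶ S)
    (hX : ModSite.IsKFlat ((pullCx f).obj X)) :
    ModSite.IsKFlat ((pullCx f).obj (SmallObject.functorObj (cell O_D) π)) := by
  refine isKFlat_right (S := (stepSeq π).map (pullCx f))
    (fun L _ => shortExact_tens (fun q => (stepSeqSplitting π q).map f.pull) L)
    (isKFlat_pullCx_sigma f _ fun x => isKFlat_pullCx_single f (tensorMono_freeU x.i.1) _) ?_
  exact isKFlat_middle
    (S := (ShortComplex.mk (biprod.inl : X ⟶ X ⊞ (sigmaObj (SmallObject.functorObjTgtFamily (cell O_D) π)))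
      biprod.snd (by simp)).map (pullCx f))
    (fun L _ => shortExact_tens (fun q =>
      ((({ r := biprod.fst
           s := biprod.inr
           id := biprod.total } :
        (ShortComplex.mk (biprod.inl : X ⟶ X ⊞ (sigmaObj (SmallObject.functorObjTgtFamily (cell O_D) π)))
          biprod.snd (by simp)).Splitting).map
        (HomologicalComplex.eval (Mod O_D) (ComplexShape.up ℤ) q)).map f.pull)) L)
    hX (isKFlat_pullCx_sigma f _ fun x => isKFlat_pullCx_disk f x.i)

theorem isKFlat_pullCx_stage (G : CochainComplex (Mod O_D) ℤ) :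
    ∀ n, ModSite.IsKFlat ((pullCx f).obj ((stage O_D n).F.obj G))
  | 0 => (isKFlat_iff _).2 fun L _ =>
      acyclic_of_isZero (Functor.map_isZero _ (Functor.map_isZero (pullCx f) (isZero_zero _)))
  | n + 1 => isKFlat_pullCx_step f ((stage O_D n).φ.app G) (isKFlat_pullCx_stage G n)

theorem isKFlat_pullCx_res (G : CochainComplex (Mod O_D) ℤ) :
    ModSite.IsKFlat ((pullCx f).obj ((res O_D).obj G)) :=
  isKFlat_pullCx_of_isColimit f (colimit.isColimit ((stageSeq O_D).flip.obj G))
    fun j => isKFlat_pullCx_stage f G (AsSmall.down.obj j)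

/-- A complex is the colimit of its truncations. -/
noncomputable def truncSeq (G : CochainComplex (Mod O_D) ℤ) : ℕ ⥤ CochainComplex (Mod O_D) ℤ :=
  Functor.ofSequence (X := fun n : ℕ => G.truncLE (n : ℤ))
    (fun n => Groth.Agent.ModFlat.truncStep G (n : ℤ) ((n + 1 : ℕ) : ℤ) (by omega))

/-- The cocone of truncations. -/
noncomputable def truncCocone (G : CochainComplex (Mod O_D) ℤ) : Cocone (truncSeq G) where
  pt := G
  ι := NatTrans.ofSequence (G := (Functor.const ℕ).obj G) (fun n => G.ιTruncLE (n : ℤ)) (fun n => by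
    dsimp only [truncSeq]
    rw [Functor.ofSequence_map_homOfLE_succ]
    exact (Groth.Agent.ModFlat.truncStep_ι G _ _ _).trans (Category.comp_id _).symm)

/-- The cocone of truncations is colimit. -/
noncomputable def isColimitTruncCocone (G : CochainComplex (Mod O_D) ℤ) : IsColimit (truncCocone G) :=
  HomologicalComplex.isColimitOfEval _ _ fun q =>
    isColimitOfEventuallyIso _ (q + 1).toNat fun n hn => by
      change IsIso ((G.ιTruncLE (n : ℤ)).f q)
      exact isIso_ιTruncLE_f G n q (by omega)

/-- Inverse images of complexes of flat modules with flat cycles are K-flat. -/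
theorem isKFlat_pullCx_of_cycles (G : CochainComplex (Mod O_D) ℤ) (hX : ∀ i, TensorMono (G.X i))
    (hZ : ∀ i, TensorMono (G.cycles i)) : ModSite.IsKFlat ((pullCx f).obj G) := by
  refine isKFlat_pullCx_of_isColimit f (c := (truncCocone G).whisker AsSmall.down.{0, 0, u})
    ((isColimitTruncCocone G).whiskerEquivalence (AsSmall.equiv.{0, 0, u} (C := ℕ)).symm) fun j => ?_
  generalize hn : AsSmall.down.obj j = n
  change ModSite.IsKFlat ((pullCx f).obj (G.truncLE ((AsSmall.down.obj j : ℕ) : ℤ)))
  rw [hn]
  refine isKFlat_of_boundedAbove _ (n : ℤ) (fun q hq => Functor.map_isZero f.pull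
    ((G.truncLE (n : ℤ)).isZero_of_isStrictlyLE (n : ℤ) q hq)) fun q => tensorMono_pull f ?_
  change TensorMono ((G.truncLE (n : ℤ)).X q)
  rcases lt_trichotomy q (n : ℤ) with h | h | h
  · have := isIso_ιTruncLE_f G n q h
    exact tensorMono_of_retract ((G.ιTruncLE (n : ℤ)).f q) (inv ((G.ιTruncLE (n : ℤ)).f q))
      (IsIso.hom_inv_id _) (hX q)
  · subst h
    exact tensorMono_of_retract (G.truncLEXIsoCycles (n : ℤ)).hom (G.truncLEXIsoCycles (n : ℤ)).inv
      (Iso.hom_inv_id _) (hZ _)
  · exact tensorMono_of_isZero ((G.truncLE (n : ℤ)).isZero_of_isStrictlyLE (n : ℤ) q h)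

/-- The inverse image of a K-flat complex of flat modules is K-flat. -/
theorem isKFlat_pullCx_of_flat (L : CochainComplex (Mod O_D) ℤ) (hL : ModSite.IsKFlat L)
    (hfl : ∀ n, TensorMono (L.X n)) : ModSite.IsKFlat ((pullCx f).obj L) := by
  let q : (res O_D).obj L ⟶ L := (resπ O_D).app L
  have : QuasiIso q := quasiIso_resπ L
  let Cn := CochainComplex.mappingCone q
  have hac : Cn.Acyclic := acyclic_mappingCone_of_quasiIso q
  have hK : ModSite.IsKFlat Cn := isKFlat_mappingCone q (isKFlat_res L) hL
  have hX : ∀ i, TensorMono (Cn.X i) := fun i => by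
    let e := HomologicalComplex.homotopyCofiber.XIsoBiprod q i (i + 1) rfl
    exact tensorMono_of_retract e.hom e.inv (Iso.hom_inv_id _)
      (tensorMono_biprod (tensorMono_res L _) (hfl _))
  have h := isKFlat_pullCx_of_cycles f Cn hX (fun i => Groth.Agent.ModFlat.tensorMono_cycles hac
    (fun F p => Groth.Agent.ModFlat.exact_map_of_isKFlat hK hac F p) hX i)
  exact isKFlat_target_of_mappingCone ((pullCx f).map q) (isKFlat_pullCx_res f L)
    (isKFlat_of_iso (CochainComplex.mappingCone.mapHomologicalComplexIso q f.pull) h)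

end Groth.Agent.PullFlat
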