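import Groth.Agent.PullFlat.FreeLift

/-!
# Local morphisms of modules and their restriction
-/

set_option autoImplicit false
set_option linter.style.haveILetI false

universe u

open CategoryTheory CategoryTheory.Limits Opposite ModSite

namespace Groth.Agent.PullFlat

open Groth.Agent.ModFlat (rs map_val_smul map_val_comp)

variable {C : Type u} [SmallCategory C] {J : GrothendieckTopology C} {O : Sheaf J CommRingCat.{u}}
  {V W : C} {A B E : Mod O}

/-- A local morphism evaluated at an object over `V`. -/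
noncomputable def apL (φ : (restr O V).obj A ⟶ (restr O V).obj B) {T : C} (a : T ⟶ V) :
    sect A T →ₗ[O.obj.obj (op T)] sect B T :=
  (φ.val.app (op (CategoryTheory.Over.mk a))).hom

theorem apL_res (φ : (restr O V).obj A ⟶ (restr O V).obj B) {T T' : C} (h : T' ⟶ T) (a : T ⟶ V)
    (b : T' ⟶ V) (hb : h ≫ a = b) (x : sect A T) : apL φ b (rs A h x) = rs B h (apL φ a x) :=
  PresheafOfModules.naturality_apply φ.val
    (CategoryTheory.Over.homMk h hb : CategoryTheory.Over.mk b ⟶ CategoryTheory.Over.mk a).op x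

/-- Restriction of a local morphism. -/
noncomputable def resL (g : W ⟶ V) (φ : (restr O V).obj A ⟶ (restr O V).obj B) :
    (restr O W).obj A ⟶ (restr O W).obj B :=
  ⟨{ app := fun T => φ.val.app (op (CategoryTheory.Over.mk (T.unop.hom ≫ g)))
     naturality := fun {T T'} h => ModuleCat.hom_ext (LinearMap.ext fun x =>
      apL_res φ h.unop.left (T.unop.hom ≫ g) (T'.unop.hom ≫ g)
        (by rw [← Category.assoc, CategoryTheory.Over.w h.unop]) x) }⟩

theorem apL_resL (g : W ⟶ V) (φ : (restr O V).obj A ⟶ (restr O V).obj B) {T : C} (a : T ⟶ W) :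
    apL (resL g φ) a = apL φ (a ≫ g) := rfl

theorem hom_ext_apL {φ ψ : (restr O V).obj A ⟶ (restr O V).obj B}
    (h : ∀ {T : C} (a : T ⟶ V) (x : sect A T), apL φ a x = apL ψ a x) : φ = ψ :=
  SheafOfModules.hom_ext (PresheafOfModules.hom_ext fun T => ModuleCat.hom_ext (LinearMap.ext fun x =>
    h T.unop.hom x))

theorem resL_comp (g : W ⟶ V) (φ : (restr O V).obj A ⟶ (restr O V).obj B)
    (ψ : (restr O V).obj B ⟶ (restr O V).obj E) : resL g (φ ≫ ψ) = resL g φ ≫ resL g ψ :=
  hom_ext_apL fun _ _ => rfl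

theorem resL_add (g : W ⟶ V) (φ ψ : (restr O V).obj A ⟶ (restr O V).obj B) :
    resL g (φ + ψ) = resL g φ + resL g ψ :=
  hom_ext_apL fun _ _ => rfl

theorem resL_zero (g : W ⟶ V) : resL g (0 : (restr O V).obj A ⟶ (restr O V).obj B) = 0 :=
  hom_ext_apL fun _ _ => rfl

theorem resL_map (g : W ⟶ V) (p : A ⟶ B) : resL g ((restr O V).map p) = (restr O W).map p :=
  hom_ext_apL fun _ _ => rfl

theorem resL_resL {W' : C} (g' : W' ⟶ W) (g : W ⟶ V) (φ : (restr O V).obj A ⟶ (restr O V).obj B) :
    resL g' (resL g φ) = resL (g' ≫ g) φ :=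
  hom_ext_apL fun a x => by
    rw [apL_resL, apL_resL, apL_resL]
    exact congrArg (fun b => apL φ b x) (Category.assoc a g' g)

/-- Morphisms out of the restricted structure sheaf are determined by the value at `1`. -/
theorem unit_hom_ext {φ ψ : (restr O V).obj (ModSite.unit O) ⟶ (restr O V).obj B}
    (h : apL φ (𝟙 V) (1 : O.obj.obj (op V)) = apL ψ (𝟙 V) (1 : O.obj.obj (op V))) : φ = ψ := by
  refine hom_ext_apL fun {T} a r => ?_
  have key : ∀ χ : (restr O V).obj (ModSite.unit O) ⟶ (restr O V).obj B,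
      apL χ a r = (r : O.obj.obj (op T)) • rs B a (apL χ (𝟙 V) (1 : O.obj.obj (op V))) := fun χ => by
    rw [← apL_res χ a (𝟙 V) a (Category.comp_id a), ← map_smul]
    exact congrArg (apL χ a) (smul_res_one a r).symm
  rw [key φ, key ψ, h]

theorem apL_overMap {G : Mod O} (t : sect G V) :
    apL (overMap t) (𝟙 V) (1 : O.obj.obj (op V)) = t := by
  refine (overMap_app t (op (CategoryTheory.Over.mk (𝟙 V))) 1).trans ?_
  refine (one_smul (O.obj.obj (op V)) (rs G (𝟙 V) t)).trans ?_
  exact rs_id G V t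

/-- Local morphisms out of a finite free module are determined by the values at the basis. -/
theorem free_hom_ext {ι : Type u}
    {φ ψ : (restr O V).obj (SheafOfModules.free (R := ringSh O) ι) ⟶ (restr O V).obj B}
    (h : ∀ i, apL ((restr O V).map (SheafOfModules.ιFree i) ≫ φ) (𝟙 V) (1 : O.obj.obj (op V)) =
      apL ((restr O V).map (SheafOfModules.ιFree i) ≫ ψ) (𝟙 V) (1 : O.obj.obj (op V))) : φ = ψ :=
  (isColimitOfPreserves (restr O V) (SheafOfModules.isColimitFreeCofan (R := ringSh O) ι)).hom_ext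
    fun i => unit_hom_ext (h i.as)

/-- The local morphism out of a free module with prescribed values. -/
noncomputable def freeMapL {ι : Type u} (y : ι → sect B V) :
    (restr O V).obj (SheafOfModules.free (R := ringSh O) ι) ⟶ (restr O V).obj B :=
  (isColimitOfPreserves (restr O V) (SheafOfModules.isColimitFreeCofan (R := ringSh O) ι)).desc
    ⟨_, Discrete.natTrans fun i => overMap (y i.as)⟩

theorem ι_freeMapL {ι : Type u} (y : ι → sect B V) (i : ι) :
    (restr O V).map (SheafOfModules.ιFree i) ≫ freeMapL y = overMap (y i) :=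
  (isColimitOfPreserves (restr O V) (SheafOfModules.isColimitFreeCofan (R := ringSh O) ι)).fac _ ⟨i⟩

/-- A local cycle of an exact sequence is locally a boundary. -/
theorem exists_local_boundary (S : ShortComplex (Mod O)) (hS : S.Exact) {n : ℕ} (s : Fin n → sect S.X₂ V)
    (hs : ∀ i, appS S.g V (s i) = 0) : ∃ R ∈ J V, ∀ ⦃W : C⦄ (g : W ⟶ V), R g →
      ∃ y : Fin n → sect S.X₁ W, ∀ i, appS S.f W (y i) = rs S.X₂ g (s i) := by
  have : Epi (kernel.lift S.g S.f S.zero) := S.exact_iff_epi_kernel_lift.mp hS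
  have hk : ∀ i, ∃ z : sect (kernel S.g) V, appS (kernel.ι S.g) V z = s i := fun i => by
    have : PreservesLimit (parallelPair S.g 0) (SheafOfModules.forget (ringSh O) ⋙
        PresheafOfModules.evaluation (ringSh O).obj (op V)) := inferInstance
    let G := SheafOfModules.forget (ringSh O) ⋙ PresheafOfModules.evaluation (ringSh O).obj (op V)
    have he : (PreservesKernel.iso G S.g).inv ≫ G.map (kernel.ι S.g) = kernel.ι (G.map S.g) := by
      rw [Iso.inv_comp_eq, PreservesKernel.iso_hom, kernelComparison_comp_ι]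
    refine ⟨(PreservesKernel.iso G S.g).inv ((ModuleCat.kernelIsoKer (G.map S.g)).inv ⟨s i, hs i⟩), ?_⟩
    refine (congr($he ((ModuleCat.kernelIsoKer (G.map S.g)).inv ⟨s i, hs i⟩))).trans ?_
    exact congr($(ModuleCat.kernelIsoKer_inv_kernel_ι (G.map S.g)) ⟨s i, hs i⟩)
  choose z hz using hk
  obtain ⟨R, hR, hR'⟩ := exists_local_lifts (kernel.lift S.g S.f S.zero) z
  refine ⟨R, hR, fun W g hg => ?_⟩
  obtain ⟨y, hy⟩ := hR' g hg
  refine ⟨y, fun i => ?_⟩
  rw [← hz i, ← appS_res, ← hy i, ← appS_comp, kernel.lift_ι]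

end Groth.Agent.PullFlat
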