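import Groth.Agent.PullFlat.Tensor
import Groth.Agent.PullFlat.Unit
import Groth.Agent.ModFlat.Basic

/-!
# Invertible modules
-/

set_option autoImplicit false

universe u

open CategoryTheory CategoryTheory.Limits MonoidalCategory Opposite ModSite

namespace Groth.Agent.PullFlat

open Groth.Agent.KFlat

section

variable {C : Type u} [SmallCategory C] {J : GrothendieckTopology C} {O : Sheaf J CommRingCat.{u}}

/-- Tensoring with the structure sheaf, as functors. -/
noncomputable def tensorUnitNatIso : (tensorBi O).obj (ModSite.unit O) ≅ 𝟭 (Mod O) :=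
  (Functor.isoWhiskerLeft (toPre O) (Functor.isoWhiskerRight (leftUnitorNatIso (preMod O)) (shPre O)) :
    toPre O ⋙ tensorLeft (𝟙_ (preMod O)) ⋙ shPre O ≅ toPre O ⋙ 𝟭 (preMod O) ⋙ shPre O) ≪≫
    asIso (preAdj O).counit

/-- The symmetry of the tensor product. -/
noncomputable def commIso (L N : Mod O) : tens₂ L N ≅ tens₂ N L :=
  ((tensorBiFlipIso O).app N).app L

/-- `- ⊗ L` followed by `- ⊗ N` is the identity if `L ⊗ N` is trivial. -/
noncomputable def flipCompIso {L N : Mod O} (e : tens₂ L N ≅ ModSite.unit O) :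
    (tensorBi O).flip.obj L ⋙ (tensorBi O).flip.obj N ≅ 𝟭 (Mod O) :=
  Groth.Agent.ModFlat.tensorAssocIso L N ≪≫ (tensorBi O).flip.mapIso e ≪≫
    (tensorBiFlipIso O).app (ModSite.unit O) ≪≫ tensorUnitNatIso

theorem isEquivalence_of_iso_unit {L N : Mod O} (e : tens₂ L N ≅ ModSite.unit O) :
    ((tensorBi O).obj L).IsEquivalence := by
  let E : Mod O ≌ Mod O := CategoryTheory.Equivalence.mk ((tensorBi O).flip.obj L) ((tensorBi O).flip.obj N)
    (flipCompIso e).symm (flipCompIso ((commIso L N).symm ≪≫ e))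
  have : ((tensorBi O).flip.obj L).IsEquivalence := E.isEquivalence_functor
  exact Functor.isEquivalence_of_iso ((tensorBiFlipIso O).app L)

theorem exists_iso_unit {L : Mod O} (hL : ((tensorBi O).obj L).IsEquivalence) :
    ∃ N, Nonempty (tens₂ L N ≅ ModSite.unit O) :=
  ⟨((tensorBi O).obj L).objPreimage (ModSite.unit O), ⟨((tensorBi O).obj L).objObjPreimageIso (ModSite.unit O)⟩⟩

theorem isEquivalence_tens₂ {L N : Mod O} (hL : ((tensorBi O).obj L).IsEquivalence)
    (hN : ((tensorBi O).obj N).IsEquivalence) : ((tensorBi O).obj (tens₂ L N)).IsEquivalence := by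
  have h₁ : ((tensorBi O).flip.obj L).IsEquivalence :=
    Functor.isEquivalence_of_iso ((tensorBiFlipIso O).app L).symm
  have h₂ : ((tensorBi O).flip.obj N).IsEquivalence :=
    Functor.isEquivalence_of_iso ((tensorBiFlipIso O).app N).symm
  have : ((tensorBi O).flip.obj (tens₂ L N)).IsEquivalence :=
    Functor.isEquivalence_of_iso (Groth.Agent.ModFlat.tensorAssocIso L N)
  exact Functor.isEquivalence_of_iso ((tensorBiFlipIso O).app (tens₂ L N))

theorem dual_invertible (L : Mod O) (hL : ((tensorBi O).obj L).IsEquivalence) [HasSheafHom L] :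
    ((tensorBi O).obj ((sheafHom L).obj (ModSite.unit O))).IsEquivalence ∧
      IsIso ((sheafHomAdj L).counit.app (ModSite.unit O)) := by
  have : ((tensorBi O).flip.obj L).IsEquivalence :=
    Functor.isEquivalence_of_iso ((tensorBiFlipIso O).app L).symm
  have : (sheafHom L).IsEquivalence := (sheafHomAdj L).isEquivalence_right_of_isEquivalence_left
  have h : IsIso ((sheafHomAdj L).counit.app (ModSite.unit O)) := inferInstance
  exact ⟨isEquivalence_of_iso_unit
    (asIso ((sheafHomAdj L).counit.app (ModSite.unit O)) :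
      tens₂ ((sheafHom L).obj (ModSite.unit O)) L ≅ ModSite.unit O), h⟩

end

variable {C D : Type u} [SmallCategory C] [SmallCategory D] {J : GrothendieckTopology C}
  {K : GrothendieckTopology D} {O_C : Sheaf J CommRingCat.{u}} {O_D : Sheaf K CommRingCat.{u}}

theorem isEquivalence_pull (f : RMor O_C O_D) {L : Mod O_D} (hL : ((tensorBi O_D).obj L).IsEquivalence) :
    ((tensorBi O_C).obj (f.pull.obj L)).IsEquivalence := by
  obtain ⟨N, ⟨e⟩⟩ := exists_iso_unit hL
  obtain ⟨t⟩ := nonempty_pull_tensor_iso f L N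
  exact isEquivalence_of_iso_unit (t ≪≫ f.pull.mapIso e ≪≫ pullUnitIso f)

end Groth.Agent.PullFlat
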