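import Groth.Agent.PullFlat.Exact

/-!
# The inverse image is the sheaf of formal combinations modulo trivially zero ones
-/

set_option autoImplicit false
set_option linter.style.haveILetI false

universe u

open CategoryTheory CategoryTheory.Limits Opposite ModSite

namespace Groth.Agent.PullFlat

open Groth.Agent.ModFlat (rs map_val_smul map_val_comp)
open Groth.Agent.KFlat (preAdj)

variable {C D : Type u} [SmallCategory C] [SmallCategory D] {J : GrothendieckTopology C}
  {K : GrothendieckTopology D} {O_C : Sheaf J CommRingCat.{u}} {O_D : Sheaf K CommRingCat.{u}}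

variable (f : RMor O_C O_D) (M : Mod O_D)

theorem Ψ_genVal {W : C} (x : Gen f M W) :
    appS (Ψ f M) W (genVal f M x) = toSh f M (cls f M x 1) := by
  obtain ⟨V, a, m⟩ := x
  refine (appS_res (Ψ f M) a (etaS f M V m)).trans ?_
  refine (congrArg _ (Ψ_etaS f M V m)).trans ?_
  refine (PresheafOfModules.naturality_apply ((preAdj O_C).unit.app (Q f M)) a.op _).symm.trans
    (congrArg (toSh f M) ?_)
  refine congrArg Submodule.Quotient.mk ((fRes_single f M _ _ _).trans ?_)
  simp [Gen.res]

theorem θ_Ψ : θ f M ≫ Ψ f M = 𝟙 _ := by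
  refine ((preAdj O_C).homEquiv _ _).injective ?_
  rw [Adjunction.homEquiv_id, Adjunction.homEquiv_unit]
  refine PresheafOfModules.hom_ext fun W => ModuleCat.hom_ext (LinearMap.ext fun z => ?_)
  obtain ⟨φ, rfl⟩ := Submodule.Quotient.mk_surjective _ z
  change appS (Ψ f M) W.unop (appS (θ f M) W.unop (toSh f M (Submodule.Quotient.mk φ : QObj f M W.unop))) =
    toSh f M (Submodule.Quotient.mk φ : QObj f M W.unop)
  rw [show appS (θ f M) W.unop (toSh f M (Submodule.Quotient.mk φ : QObj f M W.unop)) =
    Finsupp.linearCombination _ (genVal f M) φ from θ_toSh f M _]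
  induction φ using Finsupp.induction_linear with
  | zero =>
    rw [map_zero, map_zero]
    exact (map_zero (((preAdj O_C).unit.app (Q f M)).app (op W.unop)).hom).symm
  | add a b ha hb =>
    rw [map_add, map_add, ha, hb]
    exact (map_add (((preAdj O_C).unit.app (Q f M)).app (op W.unop)).hom _ _).symm
  | single x r =>
    rw [Finsupp.linearCombination_single, map_smul, Ψ_genVal]
    refine (map_smul (((preAdj O_C).unit.app (Q f M)).app (op W.unop)).hom r _).symm.trans ?_
    refine congrArg (toSh f M) ((cls_smul f M x r 1).trans ?_)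
    rw [mul_one]
    rfl

instance isIso_θ : IsIso (θ f M) := ⟨⟨Ψ f M, θ_Ψ f M, Ψ_θ f M⟩⟩

instance isIso_shPre_map_evalPre : IsIso ((shPre O_C).map (evalPre f M)) := by
  have h : evalPre f M = (preAdj O_C).unit.app (Q f M) ≫ (toPre O_C).map (θ f M) := by
    have h := (preAdj O_C).homEquiv_unit (Q f M) (f.pull.obj M) (θ f M)
    rw [θ, Equiv.apply_symm_apply] at h
    exact h
  rw [h, Functor.map_comp]
  infer_instance

variable {f M}

/-- Pulled-back sections depend only on the refined data. -/
theorem genVal_map {W : C} {V V' : D} (b : W ⟶ f.fn.obj V') (q : V' ⟶ V) (m : sect M V) :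
    genVal f M ⟨V, b ≫ f.fn.map q, m⟩ = genVal f M ⟨V', b, rs M q m⟩ := by
  show rs (f.pull.obj M) (b ≫ f.fn.map q) (etaS f M V m) = rs (f.pull.obj M) b (etaS f M V' (rs M q m))
  rw [map_val_comp, etaS_map]

theorem genVal_sum {W : C} {V : D} (a : W ⟶ f.fn.obj V) {k : ℕ} (r : Fin k → O_D.obj.obj (op V))
    (y : Fin k → sect M V) :
    genVal f M ⟨V, a, ∑ j, r j • y j⟩ = ∑ j, pl f a (r j) • genVal f M ⟨V, a, y j⟩ :=
  Ref.eval (x := (⟨V, a, ∑ j, r j • y j⟩ : Gen f M W)) ⟨𝟙 V, by simp, rs_id M V _⟩

/-- A vanishing combination agrees locally, as a formal combination, with a trivially vanishing one. -/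
theorem exists_lnull_of_eq_zero {W : C} {n : ℕ} (G : Fin n → Gen f M W)
    (c : Fin n → O_C.obj.obj (op W)) (h : ∑ i, c i • genVal f M (G i) = 0) :
    ∃ S ∈ J W, ∀ ⦃W' : C⦄ (g : W' ⟶ W), S g → ∃ (n' : ℕ) (G' : Fin n' → Gen f M W')
      (c' : Fin n' → O_C.obj.obj (op W')),
      comb G' c' = comb (fun i => (G i).res g) (fun i => (O_C.obj.map g.op).hom (c i)) ∧ LNull G' c' := by
  let η := (preAdj O_C).unit.app (Q f M)
  have := ((Groth.Agent.KFlat.isIso_shPre_map_iff η).1 inferInstance).1
  have h₀ : toSh f M (Submodule.Quotient.mk (comb G c) : QObj f M W) =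
      toSh f M (Submodule.Quotient.mk 0 : QObj f M W) := by
    have h' := congrArg (appS (Ψ f M) W) h
    simp only [map_sum, map_zero, map_smul, Ψ_genVal] at h'
    refine Eq.trans ?_ (h'.trans ?_)
    · refine Eq.trans ?_ (Finset.sum_congr rfl fun i _ => map_smul (η.app (op W)).hom (c i) _)
      refine Eq.trans (congrArg (toSh f M) ?_) (map_sum (η.app (op W)).hom _ _)
      refine (map_sum (nullSub f M W).mkQ _ _).trans (Finset.sum_congr rfl fun i _ => ?_)
      exact ((cls_smul f M (G i) (c i) 1).trans (by rw [mul_one]; rfl)).symm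
    · exact (map_zero (η.app (op W)).hom).symm
  refine ⟨_, Presheaf.equalizerSieve_mem J ((PresheafOfModules.toPresheaf _).map η) (X := op W)
    (Submodule.Quotient.mk (comb G c) : QObj f M W) (Submodule.Quotient.mk 0 : QObj f M W) h₀,
    fun W' g hg => ?_⟩
  have hg' : (Submodule.Quotient.mk (fRes f M g (comb G c)) : QObj f M W') = 0 :=
    hg.trans (map_zero (qRes f M g))
  rw [Submodule.Quotient.mk_eq_zero, fRes_comb] at hg'
  exact hg'

end Groth.Agent.PullFlat
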