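import Groth.Agent.PullFlat.Exact
import Groth.Agent.ModFlat.Over

/-!
# Maps out of restricted free modules
-/

set_option autoImplicit false

universe u

open CategoryTheory CategoryTheory.Limits Opposite ModSite

namespace Groth.Agent.PullFlat

open Groth.Agent.ModFlat (rs map_val_smul map_val_comp)

variable {C : Type u} [SmallCategory C] {J : GrothendieckTopology C} {O : Sheaf J CommRingCat.{u}} {W : C}

/-- The section of the restriction given by a section over `W`. -/
noncomputable def overSec {G : Mod O} (t : sect G W) : ((restr O W).obj G).sections :=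
  PresheafOfModules.sectionsMk (fun T => rs G T.unop.hom t) fun A B h => by
    show rs G h.unop.left (rs G A.unop.hom t) = rs G B.unop.hom t
    rw [← map_val_comp]
    exact congrArg (fun a => rs G a t) (CategoryTheory.Over.w h.unop)

/-- The map `O_W ⟶ G|_W` given by a section over `W`. -/
noncomputable def overMap {G : Mod O} (t : sect G W) :
    (restr O W).obj (ModSite.unit O) ⟶ (restr O W).obj G :=
  ((restr O W).obj G).unitHomEquiv.symm (overSec t)

theorem overMap_app {G : Mod O} (t : sect G W) (T : (CategoryTheory.Over W)ᵒᵖ) (r : O.obj.obj (op T.unop.left)) :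
    (overMap t).val.app T r = r • rs G T.unop.hom t := rfl

theorem overMap_comp {G F : Mod O} (t : sect G W) (p : G ⟶ F) :
    overMap t ≫ (restr O W).map p = overMap (appS p W t) := by
  refine SheafOfModules.hom_ext (PresheafOfModules.hom_ext fun T => ModuleCat.hom_ext (LinearMap.ext fun r => ?_))
  show appS p T.unop.left ((overMap t).val.app T r) = (overMap (appS p W t)).val.app T r
  rw [overMap_app, overMap_app, map_smul, appS_res]

theorem smul_res_one {U U' : C} (g : U' ⟶ U) (r : O.obj.obj (op U')) :
    r • rs (ModSite.unit O) g (1 : O.obj.obj (op U)) = r := by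
  show r * (O.obj.map g.op).hom 1 = r
  rw [map_one, mul_one]

theorem restr_map_eq_overMap {F : Mod O} (φ : ModSite.unit O ⟶ F) :
    (restr O W).map φ = overMap (appS φ W (1 : O.obj.obj (op W))) := by
  refine SheafOfModules.hom_ext (PresheafOfModules.hom_ext fun T => ModuleCat.hom_ext (LinearMap.ext fun r => ?_))
  show appS φ T.unop.left r = (overMap (appS φ W (1 : O.obj.obj (op W)))).val.app T r
  rw [overMap_app, ← appS_res, ← map_smul]
  refine congrArg (appS φ T.unop.left) ?_
  exact (smul_res_one T.unop.hom _).symm

/-- A map out of a finite free module lifts locally through an epimorphism. -/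
theorem exists_lift_free {F G : Mod O} (p : G ⟶ F) [Epi p] {n : ℕ}
    (φ : SheafOfModules.free (R := ringSh O) (ULift.{u} (Fin n)) ⟶ F) (V : C) :
    ∃ R ∈ J V, ∀ ⦃W : C⦄ (g : W ⟶ V), R g →
      ∃ l : (restr O W).obj (SheafOfModules.free (R := ringSh O) (ULift.{u} (Fin n))) ⟶ (restr O W).obj G,
        l ≫ (restr O W).map p = (restr O W).map φ := by
  let s : Fin n → sect F V := fun i =>
    appS (SheafOfModules.ιFree (ULift.up i) ≫ φ) V (1 : O.obj.obj (op V))
  obtain ⟨R, hR, hR'⟩ := exists_local_lifts p s
  refine ⟨R, hR, fun W g hg => ?_⟩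
  obtain ⟨y, hy⟩ := hR' g hg
  have hc := isColimitOfPreserves (restr O W)
    (SheafOfModules.isColimitFreeCofan (R := ringSh O) (ULift.{u} (Fin n)))
  refine ⟨hc.desc ⟨_, Discrete.natTrans fun i => overMap (y i.as.down)⟩, hc.hom_ext fun i => ?_⟩
  refine (Category.assoc _ _ _).symm.trans ?_
  refine (congrArg (· ≫ (restr O W).map p) (hc.fac _ i)).trans ?_
  refine (overMap_comp (y i.as.down) p).trans (Eq.trans ?_ ((restr O W).map_comp _ φ))
  refine Eq.trans ?_ (restr_map_eq_overMap _).symm
  refine congrArg overMap ((hy i.as.down).trans ?_)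
  refine (appS_res _ g _).symm.trans (congrArg (appS _ W) ?_)
  exact map_one (O.obj.map g.op).hom

end Groth.Agent.PullFlat
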