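import Groth.Agent.PullFlat.LocalHom
import Mathlib.RingTheory.Finiteness.Projective
import Groth.Prelude.Def_AlgSpPerf

/-!
# Summands of finite free modules on a site with a final object
-/

set_option autoImplicit false
set_option linter.style.haveILetI false

universe u

open CategoryTheory CategoryTheory.Limits Opposite ModSite

namespace Groth.Agent.PullFlat

open Groth.Agent.ModFlat (rs map_val_smul map_val_comp)

variable {C : Type u} [SmallCategory C] {J : GrothendieckTopology C} {O : Sheaf J CommRingCat.{u}}
  {X : C} (hX : IsTerminal X) {E E' : Mod O} {n : ℕ}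

/-- The finite free module. -/
noncomputable abbrev finFree (O : Sheaf J CommRingCat.{u}) (n : ℕ) : Mod O :=
  SheafOfModules.free (R := ringSh O) (ULift.{u} (Fin n))

/-- The global section given by a section over the final object. -/
noncomputable def globSec (m : sect E X) : E.sections :=
  PresheafOfModules.sectionsMk (fun T => rs E (hX.from T.unop) m) fun A B h => by
    show rs E h.unop (rs E (hX.from A.unop) m) = rs E (hX.from B.unop) m
    rw [← map_val_comp]
    exact congrArg (fun a => rs E a m) (hX.hom_ext _ _)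

include hX in
/-- Morphisms out of the structure sheaf are determined at the final object. -/
theorem unit_ext {φ ψ : ModSite.unit O ⟶ E}
    (h : appS φ X (1 : O.obj.obj (op X)) = appS ψ X (1 : O.obj.obj (op X))) : φ = ψ := by
  refine E.unitHomEquiv.injective (PresheafOfModules.sections_ext _ _ fun T => ?_)
  refine ((E.unitHomEquiv φ).2 (hX.from T.unop).op).symm.trans
    (Eq.trans ?_ ((E.unitHomEquiv ψ).2 (hX.from T.unop).op))
  exact congrArg (rs E (hX.from T.unop)) h

include hX in
/-- Morphisms out of a free module are determined at the final object. -/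
theorem finFree_ext {φ ψ : finFree O n ⟶ E}
    (h : ∀ i, appS (SheafOfModules.ιFree i ≫ φ) X (1 : O.obj.obj (op X)) =
      appS (SheafOfModules.ιFree i ≫ ψ) X (1 : O.obj.obj (op X))) : φ = ψ :=
  Cofan.IsColimit.hom_ext (SheafOfModules.isColimitFreeCofan (R := ringSh O) _) _ _ fun i => unit_ext hX (h i)

/-- The morphism out of a free module with prescribed values. -/
noncomputable def glMap (y : Fin n → sect E X) : finFree O n ⟶ E :=
  E.freeHomEquiv.symm fun i => globSec hX (y i.down)

/-- The basis of the sections of the free module. -/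
noncomputable def bas (i : ULift.{u} (Fin n)) : sect (finFree O n) X :=
  appS (SheafOfModules.ιFree i) X (1 : O.obj.obj (op X))

theorem glMap_bas (y : Fin n → sect E X) (i : ULift.{u} (Fin n)) :
    appS (glMap hX y) X (bas i) = y i.down := by
  have h := congrFun ((E.freeHomEquiv).apply_symm_apply fun i => globSec hX (y i.down)) i
  refine (congrArg (fun s : E.sections => s.val (op X)) h).trans ?_
  show rs E (hX.from X) (y i.down) = y i.down
  rw [hX.hom_ext (hX.from X) (𝟙 X), rs_id]

/-- The coordinates of a free module. -/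
noncomputable def coord (i : ULift.{u} (Fin n)) : finFree O n ⟶ ModSite.unit O :=
  Cofan.IsColimit.desc (SheafOfModules.isColimitFreeCofan (R := ringSh O) _)
    fun j => if i = j then 𝟙 _ else 0

theorem ι_coord (i j : ULift.{u} (Fin n)) :
    SheafOfModules.ιFree j ≫ coord (O := O) i = if i = j then 𝟙 _ else 0 :=
  Cofan.IsColimit.fac (SheafOfModules.isColimitFreeCofan (R := ringSh O) _) _ j

theorem sum_coord : ∑ i, coord (O := O) i ≫ SheafOfModules.ιFree i = 𝟙 (finFree O n) :=
  Cofan.IsColimit.hom_ext (SheafOfModules.isColimitFreeCofan (R := ringSh O) _) _ _ fun j => by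
    change SheafOfModules.ιFree j ≫ _ = SheafOfModules.ιFree j ≫ 𝟙 _
    rw [Preadditive.comp_sum, Category.comp_id, Finset.sum_eq_single j]
    · rw [← Category.assoc, ι_coord, if_pos rfl]; exact Category.id_comp _
    · intro i _ hij
      rw [← Category.assoc, ι_coord, if_neg hij, zero_comp]
    · exact fun h => absurd (Finset.mem_univ j) h

variable (O X) in
/-- Coordinates of global sections of the free module. -/
noncomputable def coeff (n : ℕ) : sect (finFree O n) X →ₗ[O.obj.obj (op X)] (ULift.{u} (Fin n) → O.obj.obj (op X)) :=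
  LinearMap.pi fun i => appS (coord i) X

theorem eq_sum_coeff (x : sect (finFree O n) X) : x = ∑ i, coeff O X n x i • bas i := by
  have h : ∀ (s : Finset (ULift.{u} (Fin n))) (F : ULift.{u} (Fin n) → (finFree O n ⟶ finFree O n)),
      appS (∑ i ∈ s, F i) X x = ∑ i ∈ s, appS (F i) X x := fun s F =>
    map_sum (AddMonoidHom.mk' (fun φ : finFree O n ⟶ finFree O n => appS φ X x) fun _ _ => rfl) _ _
  calc x = appS (∑ i, coord (O := O) i ≫ SheafOfModules.ιFree i) X x := by rw [sum_coord]; rfl
    _ = _ := by
      rw [h]
      refine Finset.sum_congr rfl fun i _ => ?_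
      rw [appS_comp, bas, ← map_smul]
      exact congrArg (appS (SheafOfModules.ιFree i) X) (mul_one (show O.obj.obj (op X) from appS (coord i) X x)).symm

theorem bijective_app (hE : DCoh.IsFinFreeSummandMod (ModSite.ringSh O) E) (hX : IsTerminal X) :
    Function.Bijective (fun φ : E ⟶ E' => φ.val.app (op X)) := by
  obtain ⟨n, s, r, hsr⟩ := hE
  refine ⟨fun φ ψ h => ?_, fun h => ?_⟩
  · have e : r ≫ φ = r ≫ ψ := finFree_ext hX fun i => by
      rw [appS_comp, appS_comp, appS_comp, appS_comp]
      exact congrArg (fun t => t (appS r X (bas i))) h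
    calc φ = s ≫ r ≫ φ := by rw [← Category.assoc, hsr]; exact (Category.id_comp _).symm
      _ = s ≫ r ≫ ψ := by rw [e]
      _ = ψ := by rw [← Category.assoc, hsr]; exact Category.id_comp _
  · refine ⟨s ≫ glMap hX (fun i => h (appS r X (bas ⟨i⟩))), ModuleCat.hom_ext (LinearMap.ext fun x => ?_)⟩
    show appS (glMap hX fun i => h (appS r X (bas ⟨i⟩))) X (appS s X x) = h x
    have hx : appS r X (appS s X x) = x := congrArg (fun t => appS t X x) hsr
    conv_rhs => rw [← hx]
    rw [eq_sum_coeff (appS s X x), map_sum, map_sum, map_sum]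
    refine Finset.sum_congr rfl fun i _ => ?_
    rw [map_smul, map_smul, glMap_bas]
    exact (map_smul h.hom _ _).symm

theorem finite_projective (hE : DCoh.IsFinFreeSummandMod (ModSite.ringSh O) E) :
    Module.Finite (O.obj.obj (op X)) (sect E X) ∧ Module.Projective (O.obj.obj (op X)) (sect E X) := by
  obtain ⟨n, s, r, hsr⟩ := hE
  let p : (ULift.{u} (Fin n) → O.obj.obj (op X)) →ₗ[O.obj.obj (op X)] sect E X :=
    Fintype.linearCombination (O.obj.obj (op X)) (fun i => appS r X (bas i))
  have hp : p.comp ((coeff O X n).comp (appS s X)) = LinearMap.id := LinearMap.ext fun x => by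
    have hx : appS r X (appS s X x) = x := congrArg (fun t => appS t X x) hsr
    refine Eq.trans ?_ hx
    conv_rhs => rw [eq_sum_coeff (appS s X x), map_sum]
    show Fintype.linearCombination (O.obj.obj (op X)) (fun i => appS r X (bas i)) (coeff O X n (appS s X x)) = _
    rw [Fintype.linearCombination_apply]
    exact Finset.sum_congr rfl fun i _ => (map_smul (appS r X) _ _).symm
  refine ⟨Module.Finite.of_surjective p fun x => ⟨_, LinearMap.congr_fun hp x⟩, ?_⟩
  exact Module.Projective.of_split _ _ hp

theorem exists_summand (hX : IsTerminal X) (M : Type u) [AddCommGroup M] [Module (O.obj.obj (op X)) M]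
    [Module.Finite (O.obj.obj (op X)) M] [Module.Projective (O.obj.obj (op X)) M] :
    ∃ E : Mod O, DCoh.IsFinFreeSummandMod (ModSite.ringSh O) E ∧
      Nonempty (sect E X ≃ₗ[O.obj.obj (op X)] M) := by
  obtain ⟨n, π, σ, -, -, hπσ⟩ := Module.Finite.exists_comp_eq_id_of_projective (O.obj.obj (op X)) M
  let e : sect (finFree O n) X →ₗ[O.obj.obj (op X)] M :=
    π.comp ((LinearMap.funLeft _ _ ULift.up).comp (coeff O X n))
  let j : M →ₗ[O.obj.obj (op X)] sect (finFree O n) X :=
    (Fintype.linearCombination (O.obj.obj (op X)) (fun i : Fin n => bas ⟨i⟩)).comp σ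
  have hcoeff : ∀ i : ULift.{u} (Fin n), coeff O X n (bas i) = Pi.single i 1 := fun i => by
    funext k
    show appS (coord k) X (appS (SheafOfModules.ιFree i) X _) = _
    rw [← appS_comp, ι_coord]
    by_cases hk : k = i
    · subst hk; rw [if_pos rfl, Pi.single_eq_same]; rfl
    · rw [if_neg hk, Pi.single_eq_of_ne hk]; rfl
  have hej : ∀ m, e (j m) = m := fun m => by
    refine Eq.trans (congrArg π ?_) (LinearMap.congr_fun hπσ m)
    funext k
    show coeff O X n (∑ i, σ m i • bas ⟨i⟩) ⟨k⟩ = σ m k
    rw [map_sum, Finset.sum_apply]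
    simp [hcoeff, Pi.single_apply, ULift.ext_iff]
  let P : finFree O n ⟶ finFree O n := glMap hX fun i => j (e (bas ⟨i⟩))
  have hP : ∀ x, appS P X x = j (e x) := fun x => by
    conv_rhs => rw [eq_sum_coeff x, map_sum, map_sum]
    conv_lhs => rw [eq_sum_coeff x, map_sum]
    exact Finset.sum_congr rfl fun i _ => by rw [map_smul, map_smul, map_smul, glMap_bas]
  have hPP : P ≫ P = P := finFree_ext hX fun i => by
    rw [appS_comp, appS_comp, appS_comp, hP, hP, hej]
  obtain ⟨E, s, r, hsr, hrs⟩ := IsIdempotentComplete.idempotents_split _ P hPP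
  refine ⟨E, ⟨n, s, r, hsr⟩, ⟨LinearEquiv.ofLinearMap (e.comp (appS s X)) ((appS r X).comp j) ?_ ?_⟩⟩
  · refine LinearMap.ext fun m => ?_
    show e (appS s X (appS r X (j m))) = m
    rw [← appS_comp, hrs, hP, hej, hej]
  · refine LinearMap.ext fun x => ?_
    show appS r X (j (e (appS s X x))) = x
    rw [← hP, ← appS_comp, ← appS_comp, ← hrs]
    exact (congrArg (fun t => appS t X x) (show (s ≫ (r ≫ s)) ≫ r = 𝟙 E from by
      simp [reassoc_of% hsr, hsr])).trans rfl

end Groth.Agent.PullFlat
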