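import Groth.Agent.PullFlat.Site
import Groth.Agent.ModFlat.Relations
import Groth.Prelude.Def_ModSite2

/-!
Locally trivially vanishing formal combinations of pulled-back sections.
-/

set_option autoImplicit false
set_option linter.style.haveILetI false

universe u

open CategoryTheory CategoryTheory.Limits Opposite ModSite

attribute [local instance] Classical.propDecidable

namespace Groth.Agent.PullFlat

open Groth.Agent.ModFlat (rs map_val_smul map_val_comp map_ring_comp LocTriv)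

variable {C D : Type u} [SmallCategory C] [SmallCategory D] {J : GrothendieckTopology C}
  {K : GrothendieckTopology D} {O_C : Sheaf J CommRingCat.{u}} {O_D : Sheaf K CommRingCat.{u}}

theorem covFlat_rmor (f : RMor O_C O_D) : CovFlat K J f.fn := covFlat (K := K) (J := J) f.fn

variable (f : RMor O_C O_D) (M : Mod O_D)

/-- Pull back a function on `V` along `a : W ⟶ f V`. -/
noncomputable def pl {W : C} {V : D} (a : W ⟶ f.fn.obj V) : O_D.obj.obj (op V) →+* O_C.obj.obj (op W) :=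
  (O_C.obj.map a.op).hom.comp (f.sharp.hom.app (op V)).hom

theorem pl_res {W W' : C} {V : D} (a : W ⟶ f.fn.obj V) (g : W' ⟶ W) (r : O_D.obj.obj (op V)) :
    (O_C.obj.map g.op).hom (pl f a r) = pl f (g ≫ a) r :=
  (map_ring_comp g a _).symm

theorem pl_map {W : C} {V V' : D} (a : W ⟶ f.fn.obj V') (q : V' ⟶ V) (r : O_D.obj.obj (op V)) :
    pl f a ((O_D.obj.map q.op).hom r) = pl f (a ≫ f.fn.map q) r := by
  show (O_C.obj.map a.op).hom ((f.sharp.hom.app (op V')).hom ((O_D.obj.map q.op).hom r)) = _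
  have h := ConcreteCategory.congr_hom (f.sharp.hom.naturality q.op) r
  refine (congrArg (O_C.obj.map a.op).hom h).trans ?_
  exact (map_ring_comp (O := O_C) a (f.fn.map q) _).symm

/-- Formal generators of the inverse image over `W`. -/
def Gen (W : C) : Type u := Σ V : D, (W ⟶ f.fn.obj V) × sect M V

variable {f M}

/-- Restriction of generators. -/
def Gen.res {W W' : C} (g : W' ⟶ W) (x : Gen f M W) : Gen f M W' := ⟨x.1, g ≫ x.2.1, x.2.2⟩

theorem Gen.res_id {W : C} (x : Gen f M W) : Gen.res (𝟙 W) x = x := by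
  obtain ⟨V, a, m⟩ := x; simp [Gen.res]

theorem Gen.res_comp {W W' W'' : C} (h : W'' ⟶ W') (g : W' ⟶ W) (x : Gen f M W) :
    Gen.res (h ≫ g) x = Gen.res h (Gen.res g x) := by
  obtain ⟨V, a, m⟩ := x; simp [Gen.res]

/-- `x` refines along `a` to a generator with coordinates `r` in `y`. -/
def Ref {W : C} {V' : D} (a : W ⟶ f.fn.obj V') {k : ℕ} (y : Fin k → sect M V')
    (r : Fin k → O_D.obj.obj (op V')) (x : Gen f M W) : Prop :=
  ∃ q : V' ⟶ x.1, x.2.1 = a ≫ f.fn.map q ∧ rs M q x.2.2 = ∑ j, r j • y j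

theorem Ref.res {W W' : C} {V' : D} {a : W ⟶ f.fn.obj V'} {k : ℕ} {y : Fin k → sect M V'}
    {r : Fin k → O_D.obj.obj (op V')} {x : Gen f M W} (h : Ref a y r x) (g : W' ⟶ W) :
    Ref (g ≫ a) y r (x.res g) := by
  obtain ⟨q, hq, hq'⟩ := h
  refine ⟨q, ?_, hq'⟩
  show g ≫ x.2.1 = _
  rw [hq, Category.assoc]
  rfl

/-- A common refinement of the generators, over which the combination is trivially zero. -/
def Null {W : C} {n : ℕ} (G : Fin n → Gen f M W) (c : Fin n → O_C.obj.obj (op W)) : Prop :=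
  ∃ (V' : D) (a : W ⟶ f.fn.obj V') (k : ℕ) (y : Fin k → sect M V') (A : Fin n → Fin k → O_D.obj.obj (op V')),
    (∀ i, Ref a y (A i) (G i)) ∧ ∀ j, ∑ i, c i * pl f a (A i j) = 0

/-- Locally trivially zero combinations. -/
def LNull {W : C} {n : ℕ} (G : Fin n → Gen f M W) (c : Fin n → O_C.obj.obj (op W)) : Prop :=
  ∃ S ∈ J W, ∀ ⦃W' : C⦄ (g : W' ⟶ W), S g →
    Null (fun i => (G i).res g) (fun i => (O_C.obj.map g.op).hom (c i))

theorem Null.pull {W W' : C} {n : ℕ} {G : Fin n → Gen f M W} {c : Fin n → O_C.obj.obj (op W)}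
    (h : Null G c) (g : W' ⟶ W) : Null (fun i => (G i).res g) (fun i => (O_C.obj.map g.op).hom (c i)) := by
  obtain ⟨V', a, k, y, A, hA, hA'⟩ := h
  refine ⟨V', g ≫ a, k, y, A, fun i => (hA i).res g, fun j => ?_⟩
  simp only [← pl_res, ← map_mul, ← map_sum, hA' j, map_zero]

theorem Null.lnull {W : C} {n : ℕ} {G : Fin n → Gen f M W} {c : Fin n → O_C.obj.obj (op W)}
    (h : Null G c) : LNull G c :=
  ⟨⊤, J.top_mem W, fun _ g _ => h.pull g⟩

theorem LNull.of_cover {W : C} {n : ℕ} {G : Fin n → Gen f M W} {c : Fin n → O_C.obj.obj (op W)}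
    {S : Sieve W} (hS : S ∈ J W)
    (h : ∀ ⦃W' : C⦄ (g : W' ⟶ W), S g → LNull (fun i => (G i).res g) (fun i => (O_C.obj.map g.op).hom (c i))) :
    LNull G c := by
  refine exists_cover_bind _ hS fun W' g hg => ?_
  obtain ⟨T, hT, hT'⟩ := h g hg
  refine ⟨T, hT, fun W'' g' hg' => ?_⟩
  simp only [Gen.res_comp, map_ring_comp]
  exact hT' g' hg'

theorem LNull.pull {W W' : C} {n : ℕ} {G : Fin n → Gen f M W} {c : Fin n → O_C.obj.obj (op W)}
    (h : LNull G c) (g : W' ⟶ W) : LNull (fun i => (G i).res g) (fun i => (O_C.obj.map g.op).hom (c i)) := by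
  obtain ⟨S, hS, hS'⟩ := h
  refine ⟨S.pullback g, J.pullback_stable g hS, fun W'' g' hg' => ?_⟩
  simp only [← Gen.res_comp, ← map_ring_comp]
  exact hS' _ hg'

variable (f) in
/-- Locally, finitely many maps to objects `f V` factor through one of them. -/
theorem exists_common : ∀ {n : ℕ} {W : C} (V : Fin n → D) (a : ∀ i, W ⟶ f.fn.obj (V i)),
    ∃ S ∈ J W, ∀ ⦃W' : C⦄ (g : W' ⟶ W), S g → ∃ (V' : D) (b : W' ⟶ f.fn.obj V') (q : ∀ i, V' ⟶ V i),
      ∀ i, g ≫ a i = b ≫ f.fn.map (q i) := by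
  intro n
  induction n with
  | zero =>
    intro W V a
    obtain ⟨S, hS, hS'⟩ := (covFlat_rmor f).some W
    exact ⟨S, hS, fun W' g hg => by
      obtain ⟨V', ⟨b⟩⟩ := hS' g hg
      exact ⟨V', b, fun i => i.elim0, fun i => i.elim0⟩⟩
  | succ n ih =>
    intro W V a
    obtain ⟨S, hS, hS'⟩ := ih (fun i => V i.succ) (fun i => a i.succ)
    refine exists_cover_bind _ hS fun W₁ g hg => ?_
    obtain ⟨V₁, b, q, hq⟩ := hS' g hg
    obtain ⟨T, hT, hT'⟩ := (covFlat_rmor f).pair b (g ≫ a 0)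
    refine ⟨T, hT, fun W₂ g₂ hg₂ => ?_⟩
    obtain ⟨V', p, q₀, b', hp, hq₀⟩ := hT' g₂ hg₂
    refine ⟨V', b', Fin.cases q₀ (fun i => p ≫ q i), fun i => ?_⟩
    induction i using Fin.cases with
    | zero => simpa using hq₀
    | succ i => simp [hq i, reassoc_of% hp]

variable (f) in
/-- Locally, finitely many parallel pairs are equalized. -/
theorem exists_equalize : ∀ {n : ℕ} {W : C} {V' : D} (V : Fin n → D) (p q : ∀ i, V' ⟶ V i) (a : W ⟶ f.fn.obj V'),
    (∀ i, a ≫ f.fn.map (p i) = a ≫ f.fn.map (q i)) →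
    ∃ S ∈ J W, ∀ ⦃W' : C⦄ (g : W' ⟶ W), S g → ∃ (V'' : D) (e : V'' ⟶ V') (b : W' ⟶ f.fn.obj V''),
      (∀ i, e ≫ p i = e ≫ q i) ∧ g ≫ a = b ≫ f.fn.map e := by
  intro n
  induction n with
  | zero =>
    intro W V' V p q a _
    exact ⟨⊤, J.top_mem W, fun W' g _ => ⟨V', 𝟙 V', g ≫ a, fun i => i.elim0, by simp⟩⟩
  | succ n ih =>
    intro W V' V p q a h
    obtain ⟨S, hS, hS'⟩ := ih (fun i => V i.succ) (fun i => p i.succ) (fun i => q i.succ) a (fun i => h i.succ)
    refine exists_cover_bind _ hS fun W₁ g hg => ?_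
    obtain ⟨V₁, e, b, he, hb⟩ := hS' g hg
    obtain ⟨T, hT, hT'⟩ := (covFlat_rmor f).eq (e ≫ p 0) (e ≫ q 0) b (by
      rw [f.fn.map_comp, f.fn.map_comp, ← Category.assoc, ← Category.assoc, ← hb, Category.assoc, h 0, Category.assoc])
    refine ⟨T, hT, fun W₂ g₂ hg₂ => ?_⟩
    obtain ⟨V'', e', b', he', hb'⟩ := hT' g₂ hg₂
    refine ⟨V'', e' ≫ e, b', fun i => ?_, by rw [Category.assoc, hb, reassoc_of% hb', f.fn.map_comp]⟩
    induction i using Fin.cases with
    | zero => simpa using he'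
    | succ i => rw [Category.assoc, Category.assoc, he i]

theorem Ref.comp {W : C} {V' V'' : D} {a : W ⟶ f.fn.obj V'} {b : W ⟶ f.fn.obj V''} (p : V'' ⟶ V')
    (hp : a = b ≫ f.fn.map p) {k : ℕ} {y : Fin k → sect M V'}
    {r : Fin k → O_D.obj.obj (op V')} {x : Gen f M W} (h : Ref a y r x) :
    Ref b (fun j => rs M p (y j)) (fun j => (O_D.obj.map p.op).hom (r j)) x := by
  obtain ⟨q, hq, hq'⟩ := h
  refine ⟨p ≫ q, by rw [hq, hp, f.fn.map_comp, Category.assoc], ?_⟩
  rw [map_val_comp, hq', map_sum]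
  simp only [map_val_smul]

theorem Ref.left {W : C} {V' : D} {a : W ⟶ f.fn.obj V'} {k l : ℕ} {y : Fin k → sect M V'} (z : Fin l → sect M V')
    {r : Fin k → O_D.obj.obj (op V')} {x : Gen f M W} (h : Ref a y r x) :
    Ref a (Fin.append y z) (Fin.append r (fun _ => 0)) x := by
  obtain ⟨q, hq, hq'⟩ := h
  exact ⟨q, hq, by rw [hq', Fin.sum_univ_add]; simp⟩

theorem Ref.right {W : C} {V' : D} {a : W ⟶ f.fn.obj V'} {k l : ℕ} (y : Fin k → sect M V') {z : Fin l → sect M V'}
    {r : Fin l → O_D.obj.obj (op V')} {x : Gen f M W} (h : Ref a z r x) :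
    Ref a (Fin.append y z) (Fin.append (fun _ => 0) r) x := by
  obtain ⟨q, hq, hq'⟩ := h
  exact ⟨q, hq, by rw [hq', Fin.sum_univ_add]; simp⟩

theorem Null.append {W : C} {n m : ℕ} {G : Fin n → Gen f M W} {c : Fin n → O_C.obj.obj (op W)}
    {H : Fin m → Gen f M W} {d : Fin m → O_C.obj.obj (op W)} (h : Null G c) (h' : Null H d) :
    LNull (Fin.append G H) (Fin.append c d) := by
  obtain ⟨V₁, a₁, k₁, y₁, A₁, hA₁, hA₁'⟩ := h
  obtain ⟨V₂, a₂, k₂, y₂, A₂, hA₂, hA₂'⟩ := h'
  obtain ⟨T, hT, hT'⟩ := (covFlat_rmor f).pair a₁ a₂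
  refine ⟨T, hT, fun W' g hg => ?_⟩
  obtain ⟨V', p₁, p₂, b, hp₁, hp₂⟩ := hT' g hg
  refine ⟨V', b, _, Fin.append (fun j => rs M p₁ (y₁ j)) (fun j => rs M p₂ (y₂ j)),
    Fin.append (fun i => Fin.append (fun j => (O_D.obj.map p₁.op).hom (A₁ i j)) (fun _ => 0))
      (fun i => Fin.append (fun _ => 0) (fun j => (O_D.obj.map p₂.op).hom (A₂ i j))), fun i => ?_, fun j => ?_⟩
  · induction i using Fin.addCases with
    | left i => simp only [Fin.append_left]; exact (((hA₁ i).res g).comp p₁ hp₁).left _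
    | right i => simp only [Fin.append_right]; exact (((hA₂ i).res g).comp p₂ hp₂).right _
  rw [Fin.sum_univ_add]
  induction j using Fin.addCases with
  | left j =>
    simp only [Fin.append_left, Fin.append_right, map_zero, mul_zero, Finset.sum_const_zero, add_zero, pl_map, ← hp₁,
      ← pl_res, ← map_mul, ← map_sum, hA₁' j]
  | right j =>
    simp only [Fin.append_left, Fin.append_right, map_zero, mul_zero, Finset.sum_const_zero, zero_add, pl_map, ← hp₂,
      ← pl_res, ← map_mul, ← map_sum, hA₂' j]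

theorem LNull.append {W : C} {n m : ℕ} {G : Fin n → Gen f M W} {c : Fin n → O_C.obj.obj (op W)}
    {H : Fin m → Gen f M W} {d : Fin m → O_C.obj.obj (op W)} (h : LNull G c) (h' : LNull H d) :
    LNull (Fin.append G H) (Fin.append c d) := by
  obtain ⟨S, hS, hS'⟩ := h
  obtain ⟨T, hT, hT'⟩ := h'
  refine LNull.of_cover (J.intersection_covering hS hT) fun W' g hg => ?_
  have h1 : (fun i => (Fin.append G H i).res g) = Fin.append (fun i => (G i).res g) (fun i => (H i).res g) := by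
    funext i; induction i using Fin.addCases <;> simp
  have h2 : (fun i => (O_C.obj.map g.op).hom (Fin.append c d i)) =
      Fin.append (fun i => (O_C.obj.map g.op).hom (c i)) (fun i => (O_C.obj.map g.op).hom (d i)) := by
    funext i; induction i using Fin.addCases <;> simp
  rw [h1, h2]
  exact (hS' g hg.1).append (hT' g hg.2)

/-- Formal combinations. -/
noncomputable def comb {W : C} {n : ℕ} (G : Fin n → Gen f M W) (c : Fin n → O_C.obj.obj (op W)) :
    Gen f M W →₀ O_C.obj.obj (op W) :=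
  ∑ i, Finsupp.single (G i) (c i)

theorem comb_append {W : C} {n m : ℕ} (G : Fin n → Gen f M W) (c : Fin n → O_C.obj.obj (op W))
    (H : Fin m → Gen f M W) (d : Fin m → O_C.obj.obj (op W)) :
    comb (Fin.append G H) (Fin.append c d) = comb G c + comb H d := by
  simp [comb, Fin.sum_univ_add]

theorem rs_eqToHom {V V₁ V₂ : D} (x y : Σ V : D, sect M V) (h : x = y) (q : V ⟶ y.1) :
    rs M (q ≫ eqToHom (congrArg Sigma.fst h).symm) x.2 = rs M q y.2 := by
  subst h
  simp

theorem Ref.eqToHom {W : C} {V' : D} {a : W ⟶ f.fn.obj V'} {k : ℕ} {y : Fin k → sect M V'}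
    {r : Fin k → O_D.obj.obj (op V')} {x z : Gen f M W} (h : Ref a y r x) (hxz : x = z) : Ref a y r z := hxz ▸ h

/-- For flat `M`, local vanishing only depends on the formal combination (one list). -/
theorem Null.congr (hM : LocTriv M) {W : C} {n : ℕ} {L : Fin n → Gen f M W} {d d' : Fin n → O_C.obj.obj (op W)}
    (h : Null L d') (he : comb L d' = comb L d) : LNull L d := by
  obtain ⟨V', a, k, y, A, hA, hA'⟩ := h
  let σ : Fin n → Fin n := fun t => (show ∃ t', L t' = L t from ⟨t, rfl⟩).choose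
  have hσ : ∀ t, L (σ t) = L t := fun t => (show ∃ t', L t' = L t from ⟨t, rfl⟩).choose_spec
  choose q hq hqv using hA
  choose q' hq' hqv' using fun t => (show Ref a y (A (σ t)) (L t) from
    Ref.eqToHom ⟨q (σ t), hq (σ t), hqv (σ t)⟩ (hσ t))
  have haq : ∀ t, a ≫ f.fn.map (q t) = a ≫ f.fn.map (q' t) := fun t => (hq t).symm.trans (hq' t)
  obtain ⟨S, hS, hS'⟩ := exists_equalize f (fun t => (L t).1) q q' a haq
  refine LNull.of_cover hS fun W₁ g hg => ?_
  obtain ⟨V₁, e, b, he₁, hb⟩ := hS' g hg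
  have hrel : ∀ t, ∑ j, (O_D.obj.map e.op).hom (A t j - A (σ t) j) • rs M e (y j) = 0 := fun t => by
    simp only [← map_val_smul, sub_smul, ← map_sum, Finset.sum_sub_distrib, map_sub]
    rw [← hqv t, ← hqv' t, ← map_val_comp, ← map_val_comp, he₁ t, sub_self]
  obtain ⟨R, hR, hR'⟩ := hM V₁ k n (fun j => rs M e (y j)) (fun t j => (O_D.obj.map e.op).hom (A t j - A (σ t) j)) hrel
  obtain ⟨T, hT, hT'⟩ := (covFlat_rmor f).cover R hR b
  refine LNull.of_cover hT fun W₂ g₂ hg₂ => Null.lnull ?_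
  obtain ⟨V₂, r, b', hr, hb'⟩ := hT' g₂ hg₂
  obtain ⟨k', z, w, hw₁, hw₂⟩ := hR' r hr
  let B : Fin n → Fin k' → O_D.obj.obj (op V₂) := fun t l =>
    ∑ j, (O_D.obj.map r.op).hom ((O_D.obj.map e.op).hom (A t j)) * w j l
  have hBσ : ∀ t l, B t l = B (σ t) l := fun t l => by
    refine sub_eq_zero.1 ?_
    refine Eq.trans ?_ (hw₂ t l)
    simp only [B, ← Finset.sum_sub_distrib, map_sub]
    exact Finset.sum_congr rfl fun j _ => by ring
  have hb'' : g₂ ≫ g ≫ a = b' ≫ f.fn.map (r ≫ e) := by rw [hb, reassoc_of% hb', f.fn.map_comp]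
  refine ⟨V₂, b', k', z, B, fun t => ⟨(r ≫ e) ≫ q t, ?_, ?_⟩, fun l => ?_⟩
  · show g₂ ≫ g ≫ (L t).2.1 = _
    rw [hq t, f.fn.map_comp, ← reassoc_of% hb'']
    rfl
  · show rs M ((r ≫ e) ≫ q t) (L t).2.2 = _
    rw [map_val_comp, map_val_comp, hqv t]
    simp only [map_sum, map_val_smul, hw₁, Finset.smul_sum, smul_smul, B, Finset.sum_smul]
    rw [Finset.sum_comm]
  · let F : Gen f M W → O_C.obj.obj (op W₂) := fun x =>
      if hx : ∃ t, L t = x then pl f b' (B hx.choose l) else 0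
    have hF : ∀ t, F (L t) = pl f b' (B t l) := fun t => by
      simp only [F]
      rw [dif_pos ⟨t, rfl⟩, hBσ t l]
    let φ := (O_C.obj.map g₂.op).hom.comp (O_C.obj.map g.op).hom
    have hev : ∀ c : Fin n → O_C.obj.obj (op W),
        ∑ t, φ (c t) * pl f b' (B t l) = (comb L c).sum (fun x r => φ r * F x) := fun c => by
      rw [comb, ← Finsupp.sum_finsetSum_index (by simp) (by intros; rw [map_add, add_mul])]
      exact Finset.sum_congr rfl fun t _ => by rw [Finsupp.sum_single_index (by simp), hF]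
    show ∑ t, φ (d t) * pl f b' (B t l) = 0
    rw [hev, ← he, ← hev]
    simp only [B, map_sum, map_mul, pl_map, Category.assoc, ← f.fn.map_comp, ← hb'', Finset.mul_sum]
    rw [Finset.sum_comm]
    refine Finset.sum_eq_zero fun j _ => ?_
    simp only [← mul_assoc, ← Finset.sum_mul]
    refine mul_eq_zero_of_left ?_ _
    simp only [← pl_res, φ, RingHom.comp_apply, ← map_mul, ← map_sum, hA' j, map_zero]

theorem comb_res {W W' : C} (g : W' ⟶ W) {n : ℕ} (G : Fin n → Gen f M W) (c : Fin n → O_C.obj.obj (op W)) :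
    comb (fun i => (G i).res g) (fun i => (O_C.obj.map g.op).hom (c i)) =
      ((comb G c).mapRange (O_C.obj.map g.op).hom (map_zero _)).mapDomain (Gen.res g) := by
  show _ = Finsupp.mapDomain.addMonoidHom (Gen.res g)
    (Finsupp.mapRange.addMonoidHom (O_C.obj.map g.op).hom.toAddMonoidHom (comb G c))
  simp only [comb, map_sum]
  exact Finset.sum_congr rfl fun i _ => by simp

/-- For flat `M`, local vanishing only depends on the formal combination. -/
theorem LNull.congr (hM : LocTriv M) {W : C} {n n' : ℕ} {G : Fin n → Gen f M W} {c : Fin n → O_C.obj.obj (op W)}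
    {G' : Fin n' → Gen f M W} {c' : Fin n' → O_C.obj.obj (op W)} (h : LNull G' c') (he : comb G' c' = comb G c) :
    LNull G c := by
  obtain ⟨S, hS, hS'⟩ := h
  refine LNull.of_cover hS fun W₁ g hg => ?_
  replace he := congrArg (fun φ => (Finsupp.mapRange (O_C.obj.map g.op).hom (map_zero _) φ).mapDomain (Gen.res g)) he
  simp only [← comb_res] at he
  have hN := hS' g hg
  revert hN he
  generalize (fun i => (G i).res g) = L₀
  generalize (fun i => (O_C.obj.map g.op).hom (c i)) = d₀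
  generalize (fun i => (G' i).res g) = L₁
  generalize (fun i => (O_C.obj.map g.op).hom (c' i)) = d₁
  intro he hN
  obtain ⟨V', a, k, y, A, hA, hA'⟩ := hN
  obtain ⟨T₀, hT₀, hT₀'⟩ := exists_common f (fun i => (L₀ i).1) (fun i => (L₀ i).2.1)
  refine LNull.of_cover hT₀ fun W₀ g₀ hg₀ => ?_
  obtain ⟨V₀, b₀, p', hp'⟩ := hT₀' g₀ hg₀
  obtain ⟨T, hT, hT'⟩ := (covFlat_rmor f).pair (g₀ ≫ a) b₀
  refine LNull.of_cover hT fun W₂ g' hg' => ?_
  obtain ⟨V₂, p₁, p₀', b, hpa, hpb⟩ := hT' g' hg'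
  simp only [← Gen.res_comp, ← map_ring_comp]
  let g₂ := g' ≫ g₀
  have hp₁ : g₂ ≫ a = b ≫ f.fn.map p₁ := by rw [Category.assoc, hpa]
  let p₀ : ∀ i, V₂ ⟶ (L₀ i).1 := fun i => p₀' ≫ p' i
  have hp₀ : ∀ i, g₂ ≫ (L₀ i).2.1 = b ≫ f.fn.map (p₀ i) := fun i => by
    rw [Category.assoc, hp' i, reassoc_of% hpb, f.fn.map_comp]
  let d₁' := fun i => (O_C.obj.map g₂.op).hom (d₁ i)
  let d₀' := fun i => (O_C.obj.map g₂.op).hom (d₀ i)
  let L := Fin.append (fun i => (L₁ i).res g₂) (fun i => (L₀ i).res g₂)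
  have hnull : Null L (Fin.append d₁' (fun _ => 0)) := by
    refine ⟨V₂, b, _, Fin.append (fun j => rs M p₁ (y j)) (fun j => rs M (p₀ j) (L₀ j).2.2),
      Fin.append (fun i => Fin.append (fun j => (O_D.obj.map p₁.op).hom (A i j)) (fun _ => 0))
        (fun i => Fin.append (fun _ => 0) (fun j => if j = i then 1 else 0)), fun i => ?_, fun j => ?_⟩
    · induction i using Fin.addCases with
      | left i => simp only [L, Fin.append_left]; exact (((hA i).res g₂).comp p₁ hp₁).left _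
      | right i =>
        simp only [L, Fin.append_right]
        refine Ref.right _ ⟨p₀ i, hp₀ i, ?_⟩
        simp
        rfl
    rw [Fin.sum_univ_add]
    induction j using Fin.addCases with
    | left j =>
      simp only [Fin.append_left, Fin.append_right, map_zero, mul_zero, Finset.sum_const_zero, add_zero, pl_map,
        ← hp₁, d₁', ← pl_res, ← map_mul, ← map_sum, hA' j]
    | right j => simp
  have hc : comb L (Fin.append d₁' (fun _ => 0)) = comb L (Fin.append (fun _ => 0) d₀') := by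
    simp only [L, comb_append, d₁', d₀', comb_res, ← he]
    simp [comb]
  obtain ⟨R, hR, hR'⟩ := hnull.congr hM hc
  refine ⟨R, hR, fun W₃ g₃ hg₃ => ?_⟩
  obtain ⟨V₃, b₃, k₃, y₃, A₃, hA₃, hA₃'⟩ := hR' g₃ hg₃
  refine ⟨V₃, b₃, k₃, y₃, fun i => A₃ (Fin.natAdd _ i), fun i => ?_, fun j => ?_⟩
  · exact (hA₃ (Fin.natAdd _ i)).eqToHom (congrArg (Gen.res g₃) (Fin.append_right _ _ i))
  have := hA₃' j
  rw [Fin.sum_univ_add] at this
  simp [d₀'] at this
  exact this

end Groth.Agent.PullFlat
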