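import Groth.Agent.PullFlat.LocalHom
import Groth.Prelude.Def_AlgSpPerf

/-!
# Maps from strictly perfect complexes into complexes acyclic in high degrees are locally nullhomotopic
-/

set_option autoImplicit false
set_option linter.style.haveILetI false

universe u

open CategoryTheory CategoryTheory.Limits Opposite ModSite

namespace Groth.Agent.PullFlat

open Groth.Agent.ModFlat (rs)

variable {C : Type u} [SmallCategory C] {J : GrothendieckTopology C} {O : Sheaf J CommRingCat.{u}}

/-- Restriction of a complex to `C/V`. -/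
noncomputable abbrev resCx (O : Sheaf J CommRingCat.{u}) (V : C) :
    CochainComplex (Mod O) ℤ ⥤ CochainComplex (Mod (O.over V)) ℤ :=
  (restr O V).mapHomologicalComplex (ComplexShape.up ℤ)

variable {V W : C} {E F : CochainComplex (Mod O) ℤ}

/-- Restriction of a local morphism of complexes. -/
noncomputable def resCxHom (g : W ⟶ V) (α : (resCx O V).obj E ⟶ (resCx O V).obj F) :
    (resCx O W).obj E ⟶ (resCx O W).obj F where
  f i := resL g (α.f i)
  comm' i j _ := by
    show resL g (α.f i) ≫ (restr O W).map (F.d i j) = (restr O W).map (E.d i j) ≫ resL g (α.f j)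
    rw [← resL_map g (F.d i j), ← resL_map g (E.d i j)]
    exact ((resL_comp g (α.f i) _).symm.trans (congrArg (resL g) (α.comm i j))).trans (resL_comp g _ (α.f j))

theorem resCxHom_map (g : W ⟶ V) (α : E ⟶ F) : resCxHom g ((resCx O V).map α) = (resCx O W).map α :=
  HomologicalComplex.hom_ext _ _ fun i => resL_map g (α.f i)

theorem resCxHom_comp {W' : C} (g' : W' ⟶ W) (g : W ⟶ V) (α : (resCx O V).obj E ⟶ (resCx O V).obj F) :
    resCxHom g' (resCxHom g α) = resCxHom (g' ≫ g) α :=
  HomologicalComplex.hom_ext _ _ fun i => resL_resL g' g (α.f i)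

theorem resCxHom_zero (g : W ⟶ V) : resCxHom g (0 : (resCx O V).obj E ⟶ (resCx O V).obj F) = 0 :=
  HomologicalComplex.hom_ext _ _ fun _ => resL_zero g

/-- Homotopies restrict. -/
noncomputable def resHomotopy (g : W ⟶ V) {α β : (resCx O V).obj E ⟶ (resCx O V).obj F} (H : Homotopy α β) :
    Homotopy (resCxHom g α) (resCxHom g β) where
  hom i j := resL g (H.hom i j)
  zero i j hij := (congrArg (resL g) (H.zero i j hij)).trans (resL_zero g)
  comm i := by
    show resL g (α.f i) = _
    refine ((congrArg (resL g) (H.comm i)).trans ((resL_add g _ _).trans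
      (congrArg (· + resL g (β.f i)) (resL_add g _ _)))).trans ?_
    refine congrArg₂ (· + ·) (congrArg₂ (· + ·) ?_ ?_) rfl
    · rw [dNext_eq _ (show (ComplexShape.up ℤ).Rel i (i + 1) from rfl),
        dNext_eq _ (show (ComplexShape.up ℤ).Rel i (i + 1) from rfl)]
      exact (resL_comp g _ _).trans (congrArg (· ≫ _) (resL_map g _))
    · rw [prevD_eq _ (show (ComplexShape.up ℤ).Rel (i - 1) i by simp),
        prevD_eq _ (show (ComplexShape.up ℤ).Rel (i - 1) i by simp)]
      exact (resL_comp g _ _).trans (congrArg (_ ≫ ·) (resL_map g _))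

/-- Summands of finite free modules lift local cycles to local boundaries. -/
theorem exists_local_boundary_hom (S : ShortComplex (Mod O)) (hS : S.Exact) {M : Mod O}
    (hM : DCoh.IsFinFreeSummandMod (ModSite.ringSh O) M)
    (φ : (restr O V).obj M ⟶ (restr O V).obj S.X₂) (hφ : φ ≫ (restr O V).map S.g = 0) :
    ∃ R ∈ J V, ∀ ⦃W : C⦄ (g : W ⟶ V), R g →
      ∃ l : (restr O W).obj M ⟶ (restr O W).obj S.X₁, l ≫ (restr O W).map S.f = resL g φ := by
  obtain ⟨n, ι, r, hιr⟩ := hM
  let s : Fin n → sect S.X₂ V := fun i =>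
    apL ((restr O V).map (SheafOfModules.ιFree (ULift.up i) ≫ r) ≫ φ) (𝟙 V) (1 : O.obj.obj (op V))
  have hs : ∀ i, appS S.g V (s i) = 0 := fun i =>
    (congrArg (fun t : (restr O V).obj M ⟶ (restr O V).obj S.X₃ =>
      apL ((restr O V).map (SheafOfModules.ιFree (ULift.up i) ≫ r) ≫ t) (𝟙 V) (1 : O.obj.obj (op V))) hφ).trans
      (by rw [comp_zero]; rfl)
  obtain ⟨R, hR, hR'⟩ := exists_local_boundary S hS s hs
  refine ⟨R, hR, fun W g hg => ?_⟩
  obtain ⟨y, hy⟩ := hR' g hg
  refine ⟨(restr O W).map ι ≫ freeMapL (fun i => y i.down), ?_⟩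
  have key : freeMapL (fun i => y i.down) ≫ (restr O W).map S.f = (restr O W).map r ≫ resL g φ := by
    refine free_hom_ext fun i => ?_
    rw [← Category.assoc, ι_freeMapL, overMap_comp, apL_overMap, ← Category.assoc, ← Functor.map_comp,
      ← resL_map g, ← resL_comp, apL_resL]
    refine (hy i.down).trans ?_
    refine (apL_res _ g (𝟙 V) _ (by simp) _).symm.trans (congrArg (apL _ _) ?_)
    exact map_one (O.obj.map g.op).hom
  rw [Category.assoc, key, ← Category.assoc, ← Functor.map_comp, hιr, CategoryTheory.Functor.map_id,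
    Category.id_comp]

theorem exists_nullhomotopy (a : ℤ) (hE : ∀ i, DCoh.IsFinFreeSummandMod (ModSite.ringSh O) (E.X i))
    (hEa : ∀ i : ℤ, i < a → IsZero (E.X i)) (hF : ∀ i : ℤ, a ≤ i → IsZero (F.homology i)) (k : ℕ) :
    ∀ {V : C} (α : (resCx O V).obj E ⟶ (resCx O V).obj F), (∀ i : ℤ, a + k ≤ i → α.f i = 0) →
      ∃ R ∈ J V, ∀ ⦃W : C⦄ (g : W ⟶ V), R g → Nonempty (Homotopy (resCxHom g α) 0) := by
  induction k with
  | zero =>
    intro V α hα
    have h0 : α = 0 := by
      refine HomologicalComplex.hom_ext _ _ fun i => ?_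
      by_cases hi : i < a
      · exact ((restr O V).map_isZero (hEa i hi)).eq_of_src _ _
      · rw [hα i (by omega)]; rfl
    exact ⟨⊤, J.top_mem V, fun W g _ => ⟨Homotopy.ofEq (by rw [h0, resCxHom_zero])⟩⟩
  | succ k ih =>
    intro V α hα
    let m : ℤ := a + k
    have hex : (F.sc' (m - 1) m (m + 1)).Exact :=
      (F.exactAt_iff' (m - 1) m (m + 1) (by simp) (by simp)).mp
        ((F.exactAt_iff_isZero_homology m).mpr (hF m (by omega)))
    have hz : α.f m ≫ (restr O V).map (F.d m (m + 1)) = 0 := by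
      refine (α.comm m (m + 1)).trans ?_
      rw [hα (m + 1) (by omega), comp_zero]
      rfl
    obtain ⟨R, hR, hR'⟩ := exists_local_boundary_hom (F.sc' (m - 1) m (m + 1)) hex (hE m) (α.f m) hz
    refine exists_cover_bind _ hR fun W g hg => ?_
    obtain ⟨l, hl⟩ := hR' g hg
    let P := (resCx O W).obj E
    let Q := (resCx O W).obj F
    let h : ∀ i i', (ComplexShape.up ℤ).Rel i' i → (P.X i ⟶ Q.X i') := fun i i' _ =>
      if hh : i = m ∧ i' = m - 1 then
        eqToHom (by rw [hh.1]; rfl) ≫ l ≫ eqToHom (by rw [hh.2]; rfl) else 0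
    let α' : P ⟶ Q := resCxHom g α - Homotopy.nullHomotopicMap' h
    have hα' : ∀ i : ℤ, a + k ≤ i → α'.f i = 0 := by
      intro i hi
      rw [HomologicalComplex.sub_f_apply, Homotopy.nullHomotopicMap'_f
        (show (ComplexShape.up ℤ).Rel (i - 1) i by simp) (show (ComplexShape.up ℤ).Rel i (i + 1) by simp)]
      have e1 : h (i + 1) i (by simp) = 0 := dif_neg (by omega)
      rw [e1, comp_zero, zero_add]
      by_cases him : i = m
      · subst him
        have e2 : h m (m - 1) (by simp) = l := by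
          refine (dif_pos ⟨rfl, rfl⟩).trans ?_
          exact (Category.id_comp _).trans (Category.comp_id _)
        rw [e2]
        exact sub_eq_zero.mpr hl.symm
      · rw [show h i (i - 1) (by simp) = 0 from dif_neg (by omega), zero_comp, sub_zero]
        show resL g (α.f i) = 0
        exact (congrArg (resL g) (hα i (by omega))).trans (resL_zero g)
    obtain ⟨T, hT, hT'⟩ := ih α' hα'
    refine ⟨T, hT, fun W' g' hg' => ?_⟩
    obtain ⟨H⟩ := hT' g' hg'
    have H1 : Homotopy (resCxHom g α) α' :=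
      (Homotopy.ofEq (by simp [α'])).trans
        (((Homotopy.nullHomotopy' h).add (Homotopy.refl α')).trans (Homotopy.ofEq (zero_add α')))
    exact ⟨(Homotopy.ofEq (resCxHom_comp g' g α).symm).trans ((resHomotopy g' H1).trans H)⟩

end Groth.Agent.PullFlat
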