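import Groth.Agent.PullFlat.Null
import Groth.Agent.KFlat.Tensor
import Mathlib.LinearAlgebra.Finsupp.LinearCombination

/-!
# Sections of the inverse image of a flat module

The inverse image of a flat module `M` is the sheafification of formal combinations of pulled-back
sections of `M`, modulo those which are locally trivially zero.
-/

set_option autoImplicit false
set_option linter.style.haveILetI false

universe u

open CategoryTheory CategoryTheory.Limits Opposite ModSite

attribute [local instance] Classical.propDecidable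

namespace Groth.Agent.PullFlat

open Groth.Agent.ModFlat (rs map_val_smul map_val_comp map_ring_comp LocTriv)
open Groth.Agent.KFlat (preAdj)

variable {C D : Type u} [SmallCategory C] [SmallCategory D] {J : GrothendieckTopology C}
  {K : GrothendieckTopology D} {O_C : Sheaf J CommRingCat.{u}} {O_D : Sheaf K CommRingCat.{u}}

variable (f : RMor O_C O_D) (M : Mod O_D)

/-- The structure map on sections. -/
noncomputable def sh (V : D) : O_D.obj.obj (op V) →+* O_C.obj.obj (op (f.fn.obj V)) :=
  (f.sharp.hom.app (op V)).hom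

theorem rs_id {C : Type u} [SmallCategory C] {J : GrothendieckTopology C} {O : Sheaf J CommRingCat.{u}}
    (F : Mod O) (V : C) (m : sect F V) : rs F (𝟙 V) m = m := by
  show (F.val.map (𝟙 (op V))).hom m = m
  rw [F.val.map_id]
  rfl

/-- The tautological section of the inverse image. -/
noncomputable def etaS (V : D) (m : sect M V) : sect (f.pull.obj M) (f.fn.obj V) :=
  (f.adj.unit.app M).val.app (op V) m

theorem etaS_add (V : D) (m m' : sect M V) : etaS f M V (m + m') = etaS f M V m + etaS f M V m' :=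
  map_add ((f.adj.unit.app M).val.app (op V)).hom m m'

theorem etaS_smul (V : D) (r : O_D.obj.obj (op V)) (m : sect M V) :
    etaS f M V (r • m) = sh f V r • etaS f M V m :=
  map_smul ((f.adj.unit.app M).val.app (op V)).hom r m

theorem etaS_map {V V' : D} (q : V' ⟶ V) (m : sect M V) :
    etaS f M V' (rs M q m) = rs (f.pull.obj M) (f.fn.map q) (etaS f M V m) :=
  PresheafOfModules.naturality_apply (f.adj.unit.app M).val q.op m

/-- Evaluation of formal generators. -/
noncomputable def genVal {W : C} (x : Gen f M W) : sect (f.pull.obj M) W :=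
  rs (f.pull.obj M) x.2.1 (etaS f M x.1 x.2.2)

theorem genVal_res {W W' : C} (g : W' ⟶ W) (x : Gen f M W) :
    genVal f M (x.res g) = rs (f.pull.obj M) g (genVal f M x) :=
  map_val_comp g x.2.1 _

variable {f M}

theorem Ref.eval {W : C} {V' : D} {a : W ⟶ f.fn.obj V'} {k : ℕ} {y : Fin k → sect M V'}
    {r : Fin k → O_D.obj.obj (op V')} {x : Gen f M W} (h : Ref a y r x) :
    genVal f M x = ∑ j, pl f a (r j) • rs (f.pull.obj M) a (etaS f M V' (y j)) := by
  obtain ⟨q, hq, hqv⟩ := h
  rw [genVal, hq, map_val_comp, ← etaS_map, hqv]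
  have hη : etaS f M V' (∑ j, r j • y j) = ∑ j, sh f V' (r j) • etaS f M V' (y j) :=
    (map_sum ((f.adj.unit.app M).val.app (op V')).hom _ _).trans
      (Finset.sum_congr rfl fun j _ => etaS_smul _ _ V' _ _)
  rw [hη, map_sum]
  exact Finset.sum_congr rfl fun j _ => map_val_smul a _ _

theorem Null.eval {W : C} {n : ℕ} {G : Fin n → Gen f M W} {c : Fin n → O_C.obj.obj (op W)} (h : Null G c) :
    ∑ i, c i • genVal f M (G i) = 0 := by
  obtain ⟨V', a, k, y, A, hA, hA'⟩ := h
  simp only [fun i => (hA i).eval, Finset.smul_sum, smul_smul]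
  rw [Finset.sum_comm]
  exact Finset.sum_eq_zero fun j _ => by rw [← Finset.sum_smul, hA' j, zero_smul]

/-- Vanishing is local. -/
theorem eq_zero_of_locally (F : Mod O_C) {W : C} {S : Sieve W} (hS : S ∈ J W) (x : sect F W)
    (h : ∀ ⦃W' : C⦄ (g : W' ⟶ W), S g → rs F g x = 0) : x = 0 := by
  refine (((isSheaf_iff_isSheaf_of_type J _).1
    (Presheaf.isSheaf_comp_of_isSheaf J F.val.presheaf (forget AddCommGrpCat.{u}) F.isSheaf)) S hS).isSeparatedFor.ext
    fun W' g hg => ?_
  exact (h g hg).trans (map_zero (rs F g)).symm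

theorem LNull.eval {W : C} {n : ℕ} {G : Fin n → Gen f M W} {c : Fin n → O_C.obj.obj (op W)} (h : LNull G c) :
    ∑ i, c i • genVal f M (G i) = 0 := by
  obtain ⟨S, hS, hS'⟩ := h
  refine eq_zero_of_locally _ hS _ fun W' g hg => ?_
  rw [map_sum]
  refine Eq.trans (Finset.sum_congr rfl fun i _ => ?_) (hS' g hg).eval
  rw [map_val_smul, genVal_res]

theorem null_zero {W : C} (G : Fin 0 → Gen f M W) (c : Fin 0 → O_C.obj.obj (op W)) : LNull G c := by
  obtain ⟨S, hS, hS'⟩ := (covFlat_rmor f).some W
  refine ⟨S, hS, fun W' g hg => ?_⟩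
  obtain ⟨V, ⟨a⟩⟩ := hS' g hg
  exact ⟨V, a, 0, fun j => j.elim0, fun i => i.elim0, fun i => i.elim0, fun j => j.elim0⟩

theorem LNull.smul {W : C} {n : ℕ} {G : Fin n → Gen f M W} {c : Fin n → O_C.obj.obj (op W)} (h : LNull G c)
    (r : O_C.obj.obj (op W)) : LNull G (fun i => r * c i) := by
  obtain ⟨S, hS, hS'⟩ := h
  refine ⟨S, hS, fun W' g hg => ?_⟩
  obtain ⟨V, a, k, y, A, hA, hA'⟩ := hS' g hg
  refine ⟨V, a, k, y, A, hA, fun j => ?_⟩
  simp only [map_mul, mul_assoc, ← Finset.mul_sum, hA' j, mul_zero]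

variable (f M)

/-- Formal combinations which are locally trivially zero. -/
noncomputable def nullSub (W : C) : Submodule (O_C.obj.obj (op W)) (Gen f M W →₀ O_C.obj.obj (op W)) where
  carrier := {φ | ∃ (n : ℕ) (G : Fin n → Gen f M W) (c : Fin n → O_C.obj.obj (op W)), comb G c = φ ∧ LNull G c}
  add_mem' := by
    rintro _ _ ⟨n, G, c, rfl, h⟩ ⟨m, H, d, rfl, h'⟩
    exact ⟨n + m, _, _, comb_append G c H d, h.append h'⟩
  zero_mem' := ⟨0, fun i => i.elim0, fun i => i.elim0, by simp [comb], null_zero _ _⟩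
  smul_mem' := by
    rintro r _ ⟨n, G, c, rfl, h⟩
    exact ⟨n, G, fun i => r * c i, by simp [comb, Finset.smul_sum, Finsupp.smul_single], h.smul r⟩

/-- Formal combinations modulo the locally trivially zero ones. -/
abbrev QObj (W : C) : Type u := (Gen f M W →₀ O_C.obj.obj (op W)) ⧸ nullSub f M W

/-- Restriction of formal combinations. -/
noncomputable def fRes {W W' : C} (g : W' ⟶ W) :
    (Gen f M W →₀ O_C.obj.obj (op W)) →ₛₗ[(O_C.obj.map g.op).hom] (Gen f M W' →₀ O_C.obj.obj (op W')) where
  toFun φ := (φ.mapRange (O_C.obj.map g.op).hom (map_zero _)).mapDomain (Gen.res g)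
  map_add' φ ψ := by rw [Finsupp.mapRange_add (map_add _), Finsupp.mapDomain_add]
  map_smul' r φ := by
    rw [← Finsupp.mapDomain_smul]
    exact congrArg _ (Finsupp.ext fun x => by simp)

theorem fRes_single {W W' : C} (g : W' ⟶ W) (x : Gen f M W) (r : O_C.obj.obj (op W)) :
    fRes f M g (Finsupp.single x r) = Finsupp.single (x.res g) ((O_C.obj.map g.op).hom r) := by
  simp [fRes]

theorem fRes_comb {W W' : C} (g : W' ⟶ W) {n : ℕ} (G : Fin n → Gen f M W) (c : Fin n → O_C.obj.obj (op W)) :
    fRes f M g (comb G c) = comb (fun i => (G i).res g) (fun i => (O_C.obj.map g.op).hom (c i)) :=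
  (comb_res g G c).symm

/-- Restriction of classes. -/
noncomputable def qRes {W W' : C} (g : W' ⟶ W) : QObj f M W →ₛₗ[(O_C.obj.map g.op).hom] QObj f M W' :=
  (nullSub f M W).mapQ (nullSub f M W') (fRes f M g) (by
    rintro _ ⟨n, G, c, rfl, h⟩
    exact ⟨n, _, _, (fRes_comb f M g G c).symm, h.pull g⟩)

theorem qRes_mk {W W' : C} (g : W' ⟶ W) (φ : Gen f M W →₀ O_C.obj.obj (op W)) :
    qRes f M g (Submodule.Quotient.mk φ) = Submodule.Quotient.mk (fRes f M g φ) := rfl

/-- The presheaf of abelian groups of classes. -/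
noncomputable def qPre : Cᵒᵖ ⥤ AddCommGrpCat.{u} where
  obj W := .of (QObj f M W.unop)
  map g := AddCommGrpCat.ofHom (qRes f M g.unop).toAddMonoidHom
  map_id W := by
    refine AddCommGrpCat.hom_ext (AddMonoidHom.ext fun x => ?_)
    obtain ⟨φ, rfl⟩ := Submodule.Quotient.mk_surjective _ x
    refine (qRes_mk f M _ φ).trans (congrArg Submodule.Quotient.mk ?_)
    induction φ using Finsupp.induction_linear with
    | zero => rw [map_zero]
    | add a b ha hb => rw [map_add, ha, hb]
    | single x r => rw [fRes_single]; simp [Gen.res_id]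
  map_comp {W W' W''} g h := by
    refine AddCommGrpCat.hom_ext (AddMonoidHom.ext fun x => ?_)
    obtain ⟨φ, rfl⟩ := Submodule.Quotient.mk_surjective _ x
    refine congrArg Submodule.Quotient.mk (show fRes f M _ φ = fRes f M h.unop (fRes f M g.unop φ) from ?_)
    induction φ using Finsupp.induction_linear with
    | zero => rw [map_zero, map_zero, map_zero]
    | add a b ha hb => rw [map_add, map_add, map_add, ha, hb]
    | single x r => rw [fRes_single, fRes_single, fRes_single]; simp [Gen.res_comp, map_ring_comp]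

noncomputable instance qModule (W : Cᵒᵖ) :
    Module ((O_C.obj ⋙ forget₂ CommRingCat.{u} RingCat.{u}).obj W) ((qPre f M).obj W) :=
  inferInstanceAs (Module (O_C.obj.obj W) (QObj f M W.unop))

/-- The presheaf of modules of classes. -/
noncomputable def Q : preMod O_C :=
  PresheafOfModules.ofPresheaf (qPre f M) (fun _ _ g r m => (qRes f M g.unop).map_smulₛₗ r m)

/-- The class of a generator with a coefficient. -/
noncomputable def cls {W : C} (x : Gen f M W) (r : O_C.obj.obj (op W)) : (Q f M).obj (op W) :=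
  Submodule.Quotient.mk (Finsupp.single x r)

/-- Evaluation, sectionwise. -/
noncomputable def evalLin (W : C) : QObj f M W →ₗ[O_C.obj.obj (op W)] sect (f.pull.obj M) W :=
  (nullSub f M W).liftQ (Finsupp.linearCombination _ (genVal f M)) (by
    rintro _ ⟨n, G, c, rfl, h⟩
    rw [LinearMap.mem_ker, comb, map_sum]
    simpa [Finsupp.linearCombination_single] using h.eval)

/-- Evaluation. -/
noncomputable def evalPre : Q f M ⟶ (toPre O_C).obj (f.pull.obj M) where
  app W := ModuleCat.ofHom (evalLin f M W.unop)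
  naturality {W W'} g := by
    refine ModuleCat.hom_ext (LinearMap.ext fun x => ?_)
    obtain ⟨φ, rfl⟩ := Submodule.Quotient.mk_surjective _ x
    show Finsupp.linearCombination _ (genVal f M) (fRes f M g.unop φ) =
      rs (f.pull.obj M) g.unop (Finsupp.linearCombination _ (genVal f M) φ)
    induction φ using Finsupp.induction_linear with
    | zero => rw [map_zero, map_zero, map_zero, map_zero]
    | add a b ha hb => rw [map_add, map_add, ha, hb, map_add, map_add]
    | single x r =>
      rw [fRes_single, Finsupp.linearCombination_single, Finsupp.linearCombination_single, map_val_smul, genVal_res]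

/-- The sheaf of classes. -/
noncomputable abbrev shQ : Mod O_C := (shPre O_C).obj (Q f M)

/-- The class in the sheaf. -/
noncomputable def toSh {W : C} (x : (Q f M).obj (op W)) : sect (shQ f M) W :=
  ((preAdj O_C).unit.app (Q f M)).app (op W) x

/-- Evaluation on the sheaf of classes. -/
noncomputable def θ : shQ f M ⟶ f.pull.obj M := ((preAdj O_C).homEquiv _ _).symm (evalPre f M)

theorem θ_toSh {W : C} (x : (Q f M).obj (op W)) :
    (θ f M).val.app (op W) (toSh f M x) = (evalPre f M).app (op W) x := by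
  have h := (preAdj O_C).homEquiv_unit (Q f M) (f.pull.obj M) (θ f M)
  rw [θ, Equiv.apply_symm_apply] at h
  exact (congrArg (fun t => t.app (op W) x) h).symm

/-- The section of `shQ` given by a section of `M`. -/
noncomputable def cl {V : D} (m : sect M V) : sect (shQ f M) (f.fn.obj V) :=
  toSh f M (cls f M ⟨V, 𝟙 _, m⟩ 1)

theorem cls_rel {W : C} {n : ℕ} {G : Fin n → Gen f M W} {c : Fin n → O_C.obj.obj (op W)} (h : LNull G c) :
    ∑ i, cls f M (G i) (c i) = 0 := by
  refine (map_sum (nullSub f M W).mkQ _ _).symm.trans ?_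
  exact (Submodule.Quotient.mk_eq_zero _).2 ⟨n, G, c, rfl, h⟩

theorem cls_smul {W : C} (x : Gen f M W) (r s : O_C.obj.obj (op W)) :
    (r • (Submodule.Quotient.mk (Finsupp.single x s) : QObj f M W)) = cls f M x (r * s) :=
  (Submodule.Quotient.mk_smul _ r _).symm.trans (congrArg Submodule.Quotient.mk (Finsupp.smul_single' _ _ _))

theorem cl_add {V : D} (m m' : sect M V) : cl f M (m + m') = cl f M m + cl f M m' := by
  refine Eq.trans (congrArg (toSh f M) ?_) (map_add (((preAdj O_C).unit.app (Q f M)).app (op (f.fn.obj V))).hom _ _)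
  have h := cls_rel f M (G := ![⟨V, 𝟙 _, m + m'⟩, ⟨V, 𝟙 _, m⟩, ⟨V, 𝟙 _, m'⟩]) (c := ![1, -1, -1])
    (Null.lnull ⟨V, 𝟙 _, 2, ![m, m'], ![![1, 1], ![1, 0], ![0, 1]],
      fun i => by fin_cases i <;> exact ⟨𝟙 V, by simp, (rs_id M _ _).trans (by simp)⟩,
      fun j => by fin_cases j <;> simp [Fin.sum_univ_three]⟩)
  rw [Fin.sum_univ_three] at h
  have hneg : ∀ x : Gen f M (f.fn.obj V), cls f M x (-1) = - cls f M x 1 := fun x => by
    show Submodule.Quotient.mk _ = - (Submodule.Quotient.mk _ : QObj f M _)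
    rw [Finsupp.single_neg, Submodule.Quotient.mk_neg]
  simp only [Matrix.cons_val_zero, Matrix.cons_val_one, Matrix.cons_val_two, Matrix.tail_cons, Matrix.head_cons,
    hneg] at h
  rw [← sub_eq_zero]
  refine Eq.trans ?_ h
  rw [sub_eq_add_neg, neg_add, add_assoc]

theorem cl_smul {V : D} (r : O_D.obj.obj (op V)) (m : sect M V) :
    cl f M (r • m) = sh f V r • cl f M m := by
  refine Eq.trans (congrArg (toSh f M) ?_) (map_smul (((preAdj O_C).unit.app (Q f M)).app (op (f.fn.obj V))).hom _ _)
  have h := cls_rel f M (G := ![⟨V, 𝟙 _, r • m⟩, ⟨V, 𝟙 _, m⟩]) (c := ![1, - sh f V r])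
    (Null.lnull ⟨V, 𝟙 _, 1, ![m], ![![r], ![1]],
      fun i => by fin_cases i <;> exact ⟨𝟙 V, by simp, (rs_id M _ _).trans (by simp)⟩,
      fun j => by fin_cases j; simp [pl, sh]⟩)
  rw [Fin.sum_univ_two] at h
  refine Eq.trans ?_ (cls_smul f M _ _ _).symm
  have hneg : ∀ (x : Gen f M (f.fn.obj V)) s, cls f M x (-s) = - cls f M x s := fun x s => by
    show Submodule.Quotient.mk _ = - (Submodule.Quotient.mk _ : QObj f M _)
    rw [Finsupp.single_neg, Submodule.Quotient.mk_neg]
  simp only [Matrix.cons_val_zero, Matrix.cons_val_one, hneg] at h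
  rw [mul_one, ← sub_eq_zero]
  refine Eq.trans ?_ h
  abel

theorem cl_map {V V' : D} (q : V' ⟶ V) (m : sect M V) :
    cl f M (rs M q m) = rs (shQ f M) (f.fn.map q) (cl f M m) := by
  refine Eq.trans (congrArg (toSh f M) ?_)
    (PresheafOfModules.naturality_apply ((preAdj O_C).unit.app (Q f M)) (f.fn.map q).op _)
  have h := cls_rel f M (G := ![⟨V', 𝟙 _, rs M q m⟩, ⟨V, f.fn.map q, m⟩]) (c := ![1, -1])
    (Null.lnull ⟨V', 𝟙 _, 1, ![rs M q m], ![![1], ![1]],
      fun i => by
        fin_cases i
        · exact ⟨𝟙 V', by simp, (rs_id M _ _).trans (by simp)⟩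
        · exact ⟨q, by simp, by simp; rfl⟩,
      fun j => by fin_cases j; simp⟩)
  rw [Fin.sum_univ_two] at h
  have hq : (Q f M).map (f.fn.map q).op (cls f M ⟨V, 𝟙 _, m⟩ 1) = cls f M ⟨V, f.fn.map q, m⟩ 1 := by
    refine congrArg Submodule.Quotient.mk ((fRes_single f M _ _ _).trans ?_)
    simp [Gen.res]
  refine Eq.trans ?_ hq.symm
  have hneg : ∀ (x : Gen f M (f.fn.obj V')) s, cls f M x (-s) = - cls f M x s := fun x s => by
    show Submodule.Quotient.mk _ = - (Submodule.Quotient.mk _ : QObj f M _)
    rw [Finsupp.single_neg, Submodule.Quotient.mk_neg]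
  simp only [Matrix.cons_val_zero, Matrix.cons_val_one, hneg] at h
  rw [← sub_eq_zero]
  refine Eq.trans ?_ h
  abel

/-- The map `M ⟶ f_* shQ`. -/
noncomputable def clHom : M ⟶ f.push.obj (shQ f M) :=
  ⟨{ app := fun V => ModuleCat.ofHom (Y := (f.push.obj (shQ f M)).val.obj V)
      { toFun := fun m => cl f M (V := V.unop) m
        map_add' := cl_add f M
        map_smul' := cl_smul f M }
     naturality := fun {V V'} q => ModuleCat.hom_ext (LinearMap.ext fun m => cl_map f M q.unop m) }⟩

/-- The inverse of evaluation. -/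
noncomputable def Ψ : f.pull.obj M ⟶ shQ f M := (f.adj.homEquiv _ _).symm (clHom f M)

theorem Ψ_etaS (V : D) (m : sect M V) : (Ψ f M).val.app (op (f.fn.obj V)) (etaS f M V m) = cl f M m := by
  have h := f.adj.homEquiv_unit (X := M) (Y := shQ f M) (f := Ψ f M)
  rw [Ψ, Equiv.apply_symm_apply] at h
  exact (congrArg (fun t : M ⟶ f.push.obj (shQ f M) => t.val.app (op V) m) h).symm

theorem θ_cl (V : D) (m : sect M V) : (θ f M).val.app (op (f.fn.obj V)) (cl f M m) = etaS f M V m := by
  refine (θ_toSh f M _).trans ?_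
  refine (Finsupp.linearCombination_single _ _ _).trans ?_
  rw [one_smul, genVal, ← f.fn.map_id, ← etaS_map]
  simp [rs_id]

theorem Ψ_θ : Ψ f M ≫ θ f M = 𝟙 _ := by
  refine (f.adj.homEquiv _ _).injective ?_
  rw [Adjunction.homEquiv_id, Adjunction.homEquiv_unit]
  apply SheafOfModules.hom_ext
  refine PresheafOfModules.hom_ext fun V => ModuleCat.hom_ext (LinearMap.ext fun m => ?_)
  show (θ f M).val.app _ ((Ψ f M).val.app _ (etaS f M V.unop m)) = etaS f M V.unop m
  rw [Ψ_etaS]
  exact θ_cl f M _ _

/-- Every section of the inverse image is locally a combination of pulled-back sections. -/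
theorem exists_local_repr {W : C} (x : sect (f.pull.obj M) W) :
    ∃ S ∈ J W, ∀ ⦃W' : C⦄ (g : W' ⟶ W), S g → ∃ (n : ℕ) (G : Fin n → Gen f M W')
      (c : Fin n → O_C.obj.obj (op W')), rs (f.pull.obj M) g x = ∑ i, c i • genVal f M (G i) := by
  let η := (preAdj O_C).unit.app (Q f M)
  have := ((Groth.Agent.KFlat.isIso_shPre_map_iff η).1 inferInstance).2
  let y := (Ψ f M).val.app (op W) x
  refine ⟨_, Presheaf.imageSieve_mem J ((PresheafOfModules.toPresheaf _).map η) y, fun W' g hg => ?_⟩
  obtain ⟨t, ht⟩ := hg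
  obtain ⟨φ, rfl⟩ := Submodule.Quotient.mk_surjective _ (t : QObj f M W')
  refine ⟨φ.support.card, fun i => (φ.support.equivFin.symm i : Gen f M W'),
    fun i => φ (φ.support.equivFin.symm i : Gen f M W'), ?_⟩
  have h := congrArg (fun x => (θ f M).val.app (op W') x) ht
  have e₁ : (θ f M).val.app (op W') (η.app (op W') (Submodule.Quotient.mk φ : QObj f M W')) =
      Finsupp.linearCombination _ (genVal f M) φ := θ_toSh f M _
  have e₂ : (θ f M).val.app (op W') ((shQ f M).val.map g.op y) = rs (f.pull.obj M) g x := by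
    refine (PresheafOfModules.naturality_apply (θ f M).val g.op y).trans ?_
    exact congrArg _ (congrArg (fun t : f.pull.obj M ⟶ f.pull.obj M => t.val.app (op W) x) (Ψ_θ f M))
  refine e₂.symm.trans (h.symm.trans (e₁.trans ?_))
  rw [Finsupp.linearCombination_apply, Finsupp.sum, ← Finset.sum_coe_sort]
  exact Fintype.sum_equiv φ.support.equivFin _ _ (fun i => by simp)

/-- A vanishing combination is locally trivially zero. -/
theorem lnull_of_eq_zero (hM : LocTriv M) {W : C} {n : ℕ} (G : Fin n → Gen f M W)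
    (c : Fin n → O_C.obj.obj (op W)) (h : ∑ i, c i • genVal f M (G i) = 0) : LNull G c := by
  let η := (preAdj O_C).unit.app (Q f M)
  have := ((Groth.Agent.KFlat.isIso_shPre_map_iff η).1 inferInstance).1
  have hΨ : ∀ x : Gen f M W, (Ψ f M).val.app (op W) (genVal f M x) = toSh f M (cls f M x 1) := by
    rintro ⟨V, a, m⟩
    refine (PresheafOfModules.naturality_apply (Ψ f M).val a.op (etaS f M V m)).trans ?_
    refine (congrArg _ (Ψ_etaS f M V m)).trans ?_
    refine (PresheafOfModules.naturality_apply η a.op _).symm.trans (congrArg (toSh f M) ?_)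
    refine congrArg Submodule.Quotient.mk ((fRes_single f M _ _ _).trans ?_)
    simp [Gen.res]
  have h₀ : toSh f M (Submodule.Quotient.mk (comb G c) : QObj f M W) =
      toSh f M (Submodule.Quotient.mk 0 : QObj f M W) := by
    have h' := congrArg (fun x => (Ψ f M).val.app (op W) x) h
    simp only [map_sum, map_zero, map_smul, hΨ] at h'
    refine Eq.trans ?_ (h'.trans ?_)
    · refine Eq.trans ?_ (Finset.sum_congr rfl fun i _ => map_smul (η.app (op W)).hom (c i) _)
      refine Eq.trans (congrArg (toSh f M) ?_) (map_sum (η.app (op W)).hom _ _)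
      refine (map_sum (nullSub f M W).mkQ _ _).trans (Finset.sum_congr rfl fun i _ => ?_)
      exact ((cls_smul f M (G i) (c i) 1).trans (by rw [mul_one]; rfl)).symm
    · exact (map_zero (η.app (op W)).hom).symm
  have hmem := Presheaf.equalizerSieve_mem J ((PresheafOfModules.toPresheaf _).map η) (X := op W)
    (Submodule.Quotient.mk (comb G c) : QObj f M W) (Submodule.Quotient.mk 0 : QObj f M W) h₀
  refine LNull.of_cover hmem fun W' g hg => ?_
  have hg' : (Submodule.Quotient.mk (fRes f M g (comb G c)) : QObj f M W') = 0 :=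
    hg.trans (map_zero (qRes f M g))
  rw [Submodule.Quotient.mk_eq_zero, fRes_comb] at hg'
  obtain ⟨n', G', c', he, hL⟩ := hg'
  exact hL.congr hM he

end Groth.Agent.PullFlat
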