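import Groth.Agent.PullFlat.TensOver
import Groth.Agent.ModFlat.PointGerm
import Groth.Agent.ModFlat.Relations

/-!
# Flatness over the base from stalkwise flatness
-/

set_option autoImplicit false
set_option linter.style.haveILetI false

universe u

open CategoryTheory CategoryTheory.Limits Opposite ModSite

namespace Groth.Agent.TensOver

variable {C D : Type u} [SmallCategory C] [SmallCategory D] {J : GrothendieckTopology C}
  {K : GrothendieckTopology D} {O_C : Sheaf J CommRingCat.{u}} {O_D : Sheaf K CommRingCat.{u}}
  (f : RMor O_C O_D) (F : Mod O_C) (p : GrothendieckTopology.Point.{u} J)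

/-- The action of the pulled-back ring on stalks. -/
theorem stalk_smul_baseOf (r : stalkRing p f.invRing) (m : stalkAb p (baseOf f F)) :
    (show stalkAb p F from r • m) =
      ((p.sheafFiber (A := CommRingCat.{u})).map f.invSharp).hom r • (show stalkAb p F from m) := by
  obtain ⟨X, x, r0, rfl⟩ := p.toPresheafFiber_jointly_surjective (P := f.invRing.obj) r
  obtain ⟨Y, y, m0, rfl⟩ := p.toPresheafFiber_jointly_surjective (P := (toAb (baseOf f F)).obj) m
  let W := IsCofiltered.min (Functor.elementsMk p.fiber X x) (Functor.elementsMk p.fiber Y y)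
  let gX := IsCofiltered.minToLeft (Functor.elementsMk p.fiber X x) (Functor.elementsMk p.fiber Y y)
  let gY := IsCofiltered.minToRight (Functor.elementsMk p.fiber X x) (Functor.elementsMk p.fiber Y y)
  have hX : (p.toPresheafFiber X x f.invRing.obj).hom r0 =
      germRing p W.1 W.2 ((f.invRing.obj.map gX.1.op).hom r0) :=
    ((congrArg (fun t => (p.toPresheafFiber X t f.invRing.obj).hom r0) gX.2).symm).trans
      (p.toPresheafFiber_w_apply gX.1 W.2 f.invRing.obj r0).symm
  have hY : (p.toPresheafFiber Y y (toAb (baseOf f F)).obj).hom m0 =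
      germ p (baseOf f F) W.1 W.2 (((toAb (baseOf f F)).obj.map gY.1.op).hom m0) :=
    ((congrArg (fun t => (p.toPresheafFiber Y t (toAb (baseOf f F)).obj).hom m0) gY.2).symm).trans
      (p.toPresheafFiber_w_apply gY.1 W.2 (toAb (baseOf f F)).obj m0).symm
  rw [hX, hY]
  have nat : ∀ s, ((p.sheafFiber (A := CommRingCat.{u})).map f.invSharp).hom (germRing p W.1 W.2 s) =
      germRing p W.1 W.2 ((f.invSharp.hom.app (op W.1)).hom s) :=
    fun s => p.toPresheafFiber_naturality_apply f.invSharp.hom W.1 W.2 s
  refine Eq.trans (germ_smul p (baseOf f F) W.1 W.2 _ _).symm ?_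
  rw [nat]
  exact germ_smul p F W.1 W.2 _ _

/-- Stalkwise flatness over the base, in the two spellings. -/
theorem flat_stalkMod_baseOf
    (h : @Module.Flat (stalkRing p f.invRing) (stalkAb p F) _ _
      (Module.compHom (stalkAb p F) ((p.sheafFiber (A := CommRingCat.{u})).map f.invSharp).hom)) :
    Module.Flat (stalkRing p f.invRing) (stalkMod p (baseOf f F)) := by
  letI := Module.compHom (stalkAb p F) ((p.sheafFiber (A := CommRingCat.{u})).map f.invSharp).hom
  haveI := h
  exact Module.Flat.of_linearEquiv
    ({ toFun := fun m => (show stalkAb p F from m)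
       invFun := fun m => (show stalkAb p (baseOf f F) from m)
       map_add' := fun _ _ => rfl
       map_smul' := stalk_smul_baseOf f F p
       left_inv := fun _ => rfl
       right_inv := fun _ => rfl } : stalkAb p (baseOf f F) ≃ₗ[stalkRing p f.invRing] stalkAb p F)

/-- Flatness over the base is checked on a conservative family of points. -/
theorem locTrivOver_of_stalks (P : ObjectProperty (GrothendieckTopology.Point.{u} J))
    (hP : P.IsConservativeFamilyOfPoints)
    (h : ∀ q, P q → @Module.Flat (stalkRing q f.invRing) (stalkAb q F) _ _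
      (Module.compHom (stalkAb q F) ((q.sheafFiber (A := CommRingCat.{u})).map f.invSharp).hom)) :
    LocTrivOver f F :=
  locTrivOver_of_locTriv f F (Groth.Agent.ModFlat.locTriv_of_locTriv₁
    (Groth.Agent.ModFlat.locTriv₁_of_stalks P hP fun q hq => flat_stalkMod_baseOf f F q (h q hq)))

end Groth.Agent.TensOver
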