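import Groth.Agent.PullFlat.Flat
import Groth.Agent.PullFlat.Invertible
import Groth.Agent.LocPres.FlatHom
import Groth.Agent.LocPres.Pull
import Groth.Agent.InvRing.Basic
import Groth.Agent.KFlat.Hom
import Mathlib.Algebra.Category.ModuleCat.Sheaf.ChangeOfRings

/-!
# `G ↦ f^*G ⊗ F` is exact for `F` flat over the base

`TQ` is the sheaf of formal combinations `∑ (V, a, n) ⊗ x` with `n` a section of `N` and `x` a section of `F`, modulo
those which vanish in some `N(V') ⊗_{O_D(V')} F(W')` after refining.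
-/

set_option autoImplicit false
set_option linter.style.haveILetI false
set_option linter.dupNamespace false

universe u

open CategoryTheory CategoryTheory.Limits MonoidalCategory Opposite ModSite
open scoped TensorProduct

attribute [local instance] Classical.propDecidable

namespace Groth.Agent.TensOver

open Groth.Agent.ModFlat (rs map_val_smul map_val_comp map_ring_comp LocTriv LocTriv₁ exists_relation_data)
open Groth.Agent.PullFlat
open Groth.Agent.KFlat (preAdj)
open Groth.Agent.LocPres (exists_cover_finite toLoc toLoc_bijective toLoc_res apL_toLoc ev appS_flip_map exists_tens_repr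
  apL_toLoc_add apL_toLoc_smul)

variable {C D : Type u} [SmallCategory C] [SmallCategory D] {J : GrothendieckTopology C}
  {K : GrothendieckTopology D} {O_C : Sheaf J CommRingCat.{u}} {O_D : Sheaf K CommRingCat.{u}}
  (f : RMor O_C O_D) (F : Mod O_C)

/-- `F` is flat over the base: one relation at a time, with coefficients from `O_D`. -/
def LocTrivOver₁ : Prop :=
  ∀ ⦃W : C⦄ ⦃V : D⦄ (b : W ⟶ f.fn.obj V) (n : ℕ) (r : Fin n → O_D.obj.obj (op V)) (x : Fin n → sect F W),
    ∑ i, pl f b (r i) • x i = 0 →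
    ∃ S ∈ J W, ∀ ⦃W' : C⦄ (g : W' ⟶ W), S g → ∃ (V' : D) (q : V' ⟶ V) (b' : W' ⟶ f.fn.obj V') (k : ℕ)
      (t : Fin k → sect F W') (a : Fin n → Fin k → O_D.obj.obj (op V')),
      g ≫ b = b' ≫ f.fn.map q ∧ (∀ i, rs F g (x i) = ∑ j, pl f b' (a i j) • t j) ∧
        ∀ j, ∑ i, a i j * (O_D.obj.map q.op).hom (r i) = 0

/-- `F` is flat over the base. -/
def LocTrivOver : Prop :=
  ∀ ⦃W : C⦄ ⦃V : D⦄ (b : W ⟶ f.fn.obj V) (n m : ℕ) (r : Fin m → Fin n → O_D.obj.obj (op V)) (x : Fin n → sect F W),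
    (∀ l, ∑ i, pl f b (r l i) • x i = 0) →
    ∃ S ∈ J W, ∀ ⦃W' : C⦄ (g : W' ⟶ W), S g → ∃ (V' : D) (q : V' ⟶ V) (b' : W' ⟶ f.fn.obj V') (k : ℕ)
      (t : Fin k → sect F W') (a : Fin n → Fin k → O_D.obj.obj (op V')),
      g ≫ b = b' ≫ f.fn.map q ∧ (∀ i, rs F g (x i) = ∑ j, pl f b' (a i j) • t j) ∧
        ∀ l j, ∑ i, a i j * (O_D.obj.map q.op).hom (r l i) = 0

/-- `F` over the pulled-back ring. -/
noncomputable abbrev baseOf : Mod f.invRing :=
  (SheafOfModules.restrictScalars ((sheafCompose J (forget₂ CommRingCat.{u} RingCat.{u})).map f.invSharp)).obj F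

/-- A section of `F`, over the pulled-back ring. -/
def toB {W : C} (x : sect F W) : sect (baseOf f F) W := x

/-- A section over the pulled-back ring, as a section of `F`. -/
def ofB {W : C} (x : sect (baseOf f F) W) : sect F W := x

theorem ofB_smul {W : C} (r : f.invRing.obj.obj (op W)) (x : sect (baseOf f F) W) :
    ofB f F (r • x) = (f.invSharp.hom.app (op W)).hom r • ofB f F x := rfl

theorem ofB_rs {W W' : C} (g : W' ⟶ W) (x : sect (baseOf f F) W) :
    ofB f F (rs (baseOf f F) g x) = rs F g (ofB f F x) := rfl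

theorem ofB_sum {W : C} {n : ℕ} (r : Fin n → f.invRing.obj.obj (op W)) (x : Fin n → sect (baseOf f F) W) :
    ofB f F (∑ i, r i • x i) = ∑ i, (f.invSharp.hom.app (op W)).hom (r i) • ofB f F (x i) :=
  (map_sum (AddMonoidHom.mk' (ofB f F) fun _ _ => rfl : sect (baseOf f F) W →+ sect F W) (fun i => r i • x i)
    Finset.univ).trans (Finset.sum_congr rfl fun i _ => ofB_smul f F (r i) (x i))

/-- Finitely many pulled-back functions have a common base object. -/
theorem exists_pl0_common {W : C} {V : D} (b : W ⟶ f.fn.obj V) {ι : Type*} [Finite ι]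
    (x : ι → f.invRing.obj.obj (op W)) :
    ∃ S ∈ J W, ∀ ⦃W' : C⦄ (g : W' ⟶ W), S g → ∃ (V' : D) (q : V' ⟶ V) (b' : W' ⟶ f.fn.obj V'),
      g ≫ b = b' ≫ f.fn.map q ∧ ∀ i, ∃ r : O_D.obj.obj (op V'),
        (f.invRing.obj.map g.op).hom (x i) = Groth.Agent.InvRing.pl0 f b' r := by
  obtain ⟨S, hS, hS'⟩ := exists_cover_finite (K := J) (fun (i : ι) (W' : C) (g : W' ⟶ W) =>
      ∃ (V₁ : D) (a : W' ⟶ f.fn.obj V₁) (r : O_D.obj.obj (op V₁)),
        (f.invRing.obj.map g.op).hom (x i) = Groth.Agent.InvRing.pl0 f a r)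
    (fun i => Groth.Agent.InvRing.exists_pl0 f (x i))
  refine exists_cover_bind _ hS fun W₁ g hg => ?_
  choose V₁ a r hr using hS' g hg
  obtain ⟨T, hT, hT'⟩ := Groth.Agent.LocPres.exists_common_finite f (fun j : Option ι => j.elim V V₁)
    (fun j => match j with
      | none => g ≫ b
      | some i => a i)
  refine ⟨T, hT, fun W₂ k hk => ?_⟩
  obtain ⟨V', b', q, hq⟩ := hT' k hk
  refine ⟨V', q none, b', by rw [Category.assoc]; exact hq none,
    fun i => ⟨(O_D.obj.map (q (some i)).op).hom (r i), ?_⟩⟩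
  rw [map_ring_comp, hr i, Groth.Agent.InvRing.pl0_res, Groth.Agent.InvRing.pl0_map]
  exact congrArg (fun z => Groth.Agent.InvRing.pl0 f z (r i)) (hq (some i))

/-- Flatness as a module over the pulled-back ring gives flatness over the base. -/
theorem locTrivOver_of_locTriv (h : LocTriv (baseOf f F)) : LocTrivOver f F := by
  intro W V b n m r x hx
  obtain ⟨S, hS, hS'⟩ := h W n m (fun i => toB f F (x i)) (fun l i => Groth.Agent.InvRing.pl0 f b (r l i)) (fun l => by
    refine Eq.trans ?_ (hx l)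
    refine (ofB_sum f F _ _).trans (Finset.sum_congr rfl fun i _ => ?_)
    exact congrArg (· • x i) (Groth.Agent.InvRing.invSharp_pl0 f b _))
  refine exists_cover_bind _ hS fun W₁ g hg => ?_
  obtain ⟨k, t, a, ha, ha'⟩ := hS' g hg
  obtain ⟨T, hT, hT'⟩ := exists_pl0_common f (g ≫ b) (fun p : Fin n × Fin k => a p.1 p.2)
  refine exists_cover_bind _ hT fun W₂ g₂ hg₂ => ?_
  obtain ⟨V₁, q₁, b₁, hb₁, hα⟩ := hT' g₂ hg₂
  choose α hα using hα
  have hzero : ∀ p : Fin m × Fin k,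
      Groth.Agent.InvRing.pl0 f b₁ (∑ i, α (i, p.2) * (O_D.obj.map q₁.op).hom (r p.1 i)) = 0 := fun p => by
    have := congrArg (f.invRing.obj.map g₂.op).hom (ha' p.1 p.2)
    simp only [map_sum, map_mul, map_zero, Groth.Agent.InvRing.pl0_res] at this
    rw [map_sum, ← this]
    refine Finset.sum_congr rfl fun i _ => ?_
    rw [map_mul, Groth.Agent.InvRing.pl0_map, ← hb₁, ← hα (i, p.2)]
  obtain ⟨T₂, hT₂, hT₂'⟩ := exists_cover_finite (K := J) (fun (p : Fin m × Fin k) (W₃ : C) (g₃ : W₃ ⟶ W₂) =>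
      ∃ (V₂ : D) (q : V₂ ⟶ V₁) (b₂ : W₃ ⟶ f.fn.obj V₂), g₃ ≫ b₁ = b₂ ≫ f.fn.map q ∧
        (O_D.obj.map q.op).hom (∑ i, α (i, p.2) * (O_D.obj.map q₁.op).hom (r p.1 i)) = 0)
    (fun p => Groth.Agent.InvRing.pl0_eq_zero f b₁ _ (hzero p))
  refine exists_cover_bind _ hT₂ fun W₃ g₃ hg₃ => ?_
  choose V₂ q₂ b₂ hb₂ hq₂ using hT₂' g₃ hg₃
  obtain ⟨T₃, hT₃, hT₃'⟩ := Groth.Agent.LocPres.exists_common_finite f
    (fun j : Option (Fin m × Fin k) => j.elim V₁ V₂)
    (fun j => match j with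
      | none => g₃ ≫ b₁
      | some p => b₂ p)
  refine exists_cover_bind _ hT₃ fun W₄ g₄ hg₄ => ?_
  obtain ⟨V₃, b₃, e, he⟩ := hT₃' g₄ hg₄
  obtain ⟨n', ⟨eq'⟩⟩ := Finite.exists_equiv_fin (Fin m × Fin k)
  obtain ⟨T₄, hT₄, hT₄'⟩ := exists_equalize f (fun _ : Fin n' => V₁) (fun _ => e none)
    (fun j => e (some (eq'.symm j)) ≫ q₂ (eq'.symm j)) b₃ (fun j => by
      refine (he none).symm.trans ((congrArg (g₄ ≫ ·) (hb₂ (eq'.symm j))).trans ?_)
      exact (Category.assoc _ _ _).symm.trans ((congrArg (· ≫ f.fn.map (q₂ (eq'.symm j)))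
        (he (some (eq'.symm j)))).trans ((Category.assoc _ _ _).trans
          (congrArg (b₃ ≫ ·) (f.fn.map_comp _ _).symm))))
  refine ⟨T₄, hT₄, fun W₅ g₅ hg₅ => ?_⟩
  obtain ⟨V₄, e', b₄, he', hb₄⟩ := hT₄' g₅ hg₅
  let E : V₄ ⟶ V₁ := e' ≫ e none
  have hE : (g₅ ≫ g₄ ≫ g₃) ≫ b₁ = b₄ ≫ f.fn.map E := by
    rw [Category.assoc, Category.assoc]
    exact (congrArg (g₅ ≫ ·) (he none)).trans ((Category.assoc _ _ _).symm.trans
      ((congrArg (· ≫ f.fn.map (e none)) hb₄).trans ((Category.assoc _ _ _).trans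
        (congrArg (b₄ ≫ ·) (f.fn.map_comp _ _).symm))))
  refine ⟨V₄, E ≫ q₁, b₄, k, fun j => ofB f F (rs (baseOf f F) ((g₅ ≫ g₄ ≫ g₃) ≫ g₂) (t j)),
    fun i j => (O_D.obj.map E.op).hom (α (i, j)), ?_, fun i => ?_, fun l j => ?_⟩
  · rw [f.fn.map_comp]
    refine Eq.trans ?_ ((congrArg (· ≫ f.fn.map q₁) hE).trans (Category.assoc _ _ _))
    simp only [Category.assoc] at hb₁ ⊢
    rw [← hb₁]
  · have h1 := congrArg (fun z => ofB f F (rs (baseOf f F) ((g₅ ≫ g₄ ≫ g₃) ≫ g₂) z)) (ha i)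
    simp only [map_sum, map_val_smul, ofB_sum] at h1
    refine Eq.trans ?_ (h1.trans (Finset.sum_congr rfl fun j _ => congrArg (· • _) ?_))
    · rw [ofB_rs, ofB_rs]
      show rs F _ (x i) = rs F _ (rs F g (x i))
      rw [← map_val_comp]
      simp only [Category.assoc]
    · rw [map_ring_comp, hα (i, j), Groth.Agent.InvRing.pl0_res, Groth.Agent.InvRing.invSharp_pl0, pl_map, hE]
  · let ep : V₄ ⟶ V₂ (l, j) := e' ≫ e (some (l, j))
    have := congrArg (O_D.obj.map ep.op).hom (hq₂ (l, j))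
    rw [← map_ring_comp, map_zero] at this
    have e2 : ep ≫ q₂ (l, j) = E := by
      have := he' (eq' (l, j))
      rw [Equiv.symm_apply_apply] at this
      exact (Category.assoc _ _ _).trans this.symm
    rw [e2] at this
    simpa only [map_sum, map_mul, ← map_ring_comp] using this

/-- One relation at a time suffices. -/
theorem locTriv₁_of_locTrivOver₁ (h : LocTrivOver₁ f F) : LocTriv₁ (baseOf f F) := by
  intro U n r s hs
  obtain ⟨S₀, hS₀, hS₀'⟩ := (covFlat_rmor f).some U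
  refine exists_cover_bind _ hS₀ fun W₀ g₀ hg₀ => ?_
  obtain ⟨V₀, ⟨b₀⟩⟩ := hS₀' g₀ hg₀
  obtain ⟨T, hT, hT'⟩ := exists_pl0_common f b₀ (fun i => (f.invRing.obj.map g₀.op).hom (r i))
  refine exists_cover_bind _ hT fun W₁ g₁ hg₁ => ?_
  obtain ⟨V₁, q₁, b₁, -, hα⟩ := hT' g₁ hg₁
  choose α hα using hα
  have hx : ∑ i, pl f b₁ (α i) • ofB f F (rs (baseOf f F) (g₁ ≫ g₀) (s i)) = 0 := by
    have h1 := congrArg (fun z => ofB f F (rs (baseOf f F) (g₁ ≫ g₀) z)) hs
    simp only [map_sum, map_val_smul, ofB_sum, map_zero] at h1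
    refine Eq.trans (Finset.sum_congr rfl fun i _ => ?_) (h1.trans rfl)
    rw [map_ring_comp, hα i, Groth.Agent.InvRing.invSharp_pl0]
  obtain ⟨T₂, hT₂, hT₂'⟩ := h b₁ n α _ hx
  refine ⟨T₂, hT₂, fun W₂ g₂ hg₂ => ?_⟩
  obtain ⟨V', q, b', k, t, a, hb', hta, ha⟩ := hT₂' g₂ hg₂
  refine ⟨k, fun j => toB f F (t j), fun i j => Groth.Agent.InvRing.pl0 f b' (a i j), fun i => ?_, fun j => ?_⟩
  · show ofB f F (rs (baseOf f F) ((g₂ ≫ g₁) ≫ g₀) (s i)) = ofB f F (∑ j, Groth.Agent.InvRing.pl0 f b' (a i j) • toB f F (t j))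
    rw [Category.assoc, ofB_sum, map_val_comp, ofB_rs, hta i]
    exact Finset.sum_congr rfl fun j _ => congrArg (· • t j) (Groth.Agent.InvRing.invSharp_pl0 f b' _).symm
  · refine Eq.trans (Finset.sum_congr rfl fun i _ => ?_)
      ((map_sum (Groth.Agent.InvRing.pl0 f b') _ _).symm.trans
        ((congrArg (Groth.Agent.InvRing.pl0 f b') (ha j)).trans (map_zero _)))
    rw [map_mul, Groth.Agent.InvRing.pl0_map, ← hb']
    refine congrArg (_ * ·) ?_
    rw [map_ring_comp, map_ring_comp, hα i, Groth.Agent.InvRing.pl0_res]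

theorem locTrivOver_of_locTrivOver₁ (h : LocTrivOver₁ f F) : LocTrivOver f F :=
  locTrivOver_of_locTriv f F (Groth.Agent.ModFlat.locTriv_of_locTriv₁ (locTriv₁_of_locTrivOver₁ f F h))

/-! ### The test sheaf -/

variable (N : Mod O_D)

/-- Sections of `F` over `W`, over `O_D(V)`. -/
def FB {W : C} {V : D} (_b : W ⟶ f.fn.obj V) : Type u := sect F W

noncomputable instance {W : C} {V : D} (b : W ⟶ f.fn.obj V) : AddCommGroup (FB f F b) :=
  inferInstanceAs (AddCommGroup (sect F W))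

noncomputable instance {W : C} {V : D} (b : W ⟶ f.fn.obj V) : Module (O_D.obj.obj (op V)) (FB f F b) :=
  Module.compHom (sect F W) (pl f b)

/-- A section, as an element of `FB`. -/
def mkB {W : C} {V : D} (b : W ⟶ f.fn.obj V) (x : sect F W) : FB f F b := x

theorem smul_mkB {W : C} {V : D} (b : W ⟶ f.fn.obj V) (r : O_D.obj.obj (op V)) (x : sect F W) :
    r • mkB f F b x = mkB f F b (pl f b r • x) := rfl

theorem mkB_add {W : C} {V : D} (b : W ⟶ f.fn.obj V) (x y : sect F W) :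
    mkB f F b (x + y) = mkB f F b x + mkB f F b y := rfl

theorem mkB_sum {W : C} {V : D} (b : W ⟶ f.fn.obj V) {n : ℕ} (x : Fin n → sect F W) :
    mkB f F b (∑ i, x i) = ∑ i, mkB f F b (x i) :=
  (map_sum (AddMonoidHom.mk' (mkB f F b) (mkB_add f F b)) x Finset.univ).trans rfl

/-- The tensor product over the base. -/
abbrev T (N : Mod O_D) {W : C} {V : D} (b : W ⟶ f.fn.obj V) : Type u :=
  TensorProduct (O_D.obj.obj (op V)) (sect N V) (FB f F b)

/-- Restriction along a refinement. -/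
noncomputable def trans' {W W' : C} {V V' : D} (b : W ⟶ f.fn.obj V) (b' : W' ⟶ f.fn.obj V') (k : W' ⟶ W) (e : V' ⟶ V)
    (h : k ≫ b = b' ≫ f.fn.map e) : T f F N b →+ T f F N b' :=
  TensorProduct.liftAddHom
    (AddMonoidHom.mk' (fun m => AddMonoidHom.mk' (fun x : FB f F b =>
        rs N e m ⊗ₜ[O_D.obj.obj (op V')] mkB f F b' (rs F k (show sect F W from x)))
      (fun x y => by
        show _ ⊗ₜ mkB f F b' (rs F k (_ + _)) = _
        rw [map_add, mkB_add, TensorProduct.tmul_add]))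
      (fun m m' => AddMonoidHom.ext fun x => by
        show rs N e (m + m') ⊗ₜ _ = _
        rw [map_add, TensorProduct.add_tmul]; rfl))
    (fun r m x => by
      show rs N e (r • m) ⊗ₜ mkB f F b' (rs F k (show sect F W from x)) =
        rs N e m ⊗ₜ mkB f F b' (rs F k (pl f b r • (show sect F W from x)))
      rw [map_val_smul, map_val_smul, TensorProduct.smul_tmul, smul_mkB, pl_map, pl_res, h])

theorem trans'_tmul {W W' : C} {V V' : D} (b : W ⟶ f.fn.obj V) (b' : W' ⟶ f.fn.obj V') (k : W' ⟶ W) (e : V' ⟶ V)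
    (h : k ≫ b = b' ≫ f.fn.map e) (m : sect N V) (x : sect F W) :
    trans' f F N b b' k e h (m ⊗ₜ mkB f F b x) = rs N e m ⊗ₜ mkB f F b' (rs F k x) := rfl

variable {f F N}

/-- `ρ` evaluates the generators in `s` along a refinement. -/
def Fits {W W' : C} (g : W' ⟶ W) {V' : D} (b : W' ⟶ f.fn.obj V') (s : Finset (Gen f N W))
    (ρ : Gen f N W → sect N V') : Prop :=
  ∀ x ∈ s, ∃ q : V' ⟶ x.1, g ≫ x.2.1 = b ≫ f.fn.map q ∧ ρ x = rs N q x.2.2

theorem Fits.mono {W W' : C} {g : W' ⟶ W} {V' : D} {b : W' ⟶ f.fn.obj V'} {s t : Finset (Gen f N W)}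
    {ρ : Gen f N W → sect N V'} (h : Fits g b s ρ) (hts : t ⊆ s) : Fits g b t ρ :=
  fun x hx => h x (hts hx)

theorem Fits.pull {W W' W'' : C} {g : W' ⟶ W} {V' V'' : D} {b : W' ⟶ f.fn.obj V'} {s : Finset (Gen f N W)}
    {ρ : Gen f N W → sect N V'} (h : Fits g b s ρ) (k : W'' ⟶ W') (e : V'' ⟶ V')
    (b' : W'' ⟶ f.fn.obj V'') (hb : k ≫ b = b' ≫ f.fn.map e) :
    Fits (k ≫ g) b' s (fun x => rs N e (ρ x)) := by
  intro x hx
  obtain ⟨q, hq, hρ⟩ := h x hx
  exact ⟨e ≫ q, by rw [Category.assoc, hq, reassoc_of% hb, f.fn.map_comp],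
    (congrArg _ hρ).trans (map_val_comp e q _).symm⟩

theorem exists_fits {W : C} (s : Finset (Gen f N W)) :
    ∃ S ∈ J W, ∀ ⦃W' : C⦄ (g : W' ⟶ W), S g →
      ∃ (V' : D) (b : W' ⟶ f.fn.obj V') (ρ : Gen f N W → sect N V'), Fits g b s ρ := by
  obtain ⟨S, hS, hS'⟩ := Groth.Agent.LocPres.exists_common_finite f (fun x : s => x.1.1) (fun x => x.1.2.1)
  refine ⟨S, hS, fun W' g hg => ?_⟩
  obtain ⟨V', b, q, hq⟩ := hS' g hg
  refine ⟨V', b, fun x => if hx : x ∈ s then rs N (q ⟨x, hx⟩) x.2.2 else 0, fun x hx => ?_⟩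
  exact ⟨q ⟨x, hx⟩, hq ⟨x, hx⟩, by simp only [dif_pos hx]⟩

theorem Fits.agree {W W' : C} {g : W' ⟶ W} {V' : D} {b : W' ⟶ f.fn.obj V'} {s : Finset (Gen f N W)}
    {ρ ρ' : Gen f N W → sect N V'} (h : Fits g b s ρ) (h' : Fits g b s ρ') :
    ∃ S ∈ J W', ∀ ⦃W'' : C⦄ (k : W'' ⟶ W'), S k → ∃ (V'' : D) (e : V'' ⟶ V') (b' : W'' ⟶ f.fn.obj V''),
      k ≫ b = b' ≫ f.fn.map e ∧ ∀ x ∈ s, rs N e (ρ x) = rs N e (ρ' x) := by
  let E := s.equivFin
  choose q hq hρ using h
  choose q' hq' hρ' using h'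
  obtain ⟨S, hS, hS'⟩ := exists_equalize f (fun i => (E.symm i).1.1) (fun i => q _ (E.symm i).2)
    (fun i => q' _ (E.symm i).2) b (fun i => (hq _ (E.symm i).2).symm.trans (hq' _ (E.symm i).2))
  refine ⟨S, hS, fun W'' k hk => ?_⟩
  obtain ⟨V'', e, b', he, hb⟩ := hS' k hk
  refine ⟨V'', e, b', hb, fun x hx => ?_⟩
  have key : ∀ (z : {x // x ∈ s}), e ≫ q z.1 z.2 = e ≫ q' z.1 z.2 → rs N e (ρ z.1) = rs N e (ρ' z.1) := fun z hz => by
    rw [hρ z.1 z.2, hρ' z.1 z.2, ← map_val_comp, ← map_val_comp, hz]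
  have := key _ (he (E ⟨x, hx⟩))
  rwa [E.symm_apply_apply] at this

variable (f F N) in
/-- The value of a formal combination on a refinement. -/
noncomputable def evalN {W W' : C} (g : W' ⟶ W) {V' : D} (b : W' ⟶ f.fn.obj V') (ρ : Gen f N W → sect N V') :
    (Gen f N W →₀ sect F W) →+ T f F N b :=
  Finsupp.liftAddHom fun x => AddMonoidHom.mk' (fun c => ρ x ⊗ₜ mkB f F b (rs F g c))
    fun c c' => by rw [map_add, mkB_add, TensorProduct.tmul_add]

theorem evalN_single {W W' : C} (g : W' ⟶ W) {V' : D} (b : W' ⟶ f.fn.obj V') (ρ : Gen f N W → sect N V')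
    (x : Gen f N W) (c : sect F W) :
    evalN f F N g b ρ (Finsupp.single x c) = ρ x ⊗ₜ mkB f F b (rs F g c) :=
  Finsupp.liftAddHom_apply_single _ _ _

theorem evalN_congr {W W' : C} (g : W' ⟶ W) {V' : D} (b : W' ⟶ f.fn.obj V') {ρ ρ' : Gen f N W → sect N V'}
    (φ : Gen f N W →₀ sect F W) (h : ∀ x ∈ φ.support, ρ x = ρ' x) : evalN f F N g b ρ φ = evalN f F N g b ρ' φ := by
  conv_lhs => rw [← φ.sum_single, map_finsuppSum]
  conv_rhs => rw [← φ.sum_single, map_finsuppSum]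
  exact Finsupp.sum_congr fun x hx => by rw [evalN_single, evalN_single, h x hx]

theorem evalN_trans {W W' W'' : C} (g : W' ⟶ W) {V' V'' : D} (b : W' ⟶ f.fn.obj V') (k : W'' ⟶ W') (e : V'' ⟶ V')
    (b' : W'' ⟶ f.fn.obj V'') (h : k ≫ b = b' ≫ f.fn.map e) (ρ : Gen f N W → sect N V') (φ : Gen f N W →₀ sect F W) :
    trans' f F N b b' k e h (evalN f F N g b ρ φ) = evalN f F N (k ≫ g) b' (fun x => rs N e (ρ x)) φ := by
  induction φ using Finsupp.induction_linear with
  | zero => simp only [map_zero]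
  | add p q hp hq => simp only [map_add, hp, hq]
  | single x c => rw [evalN_single, evalN_single, trans'_tmul, map_val_comp]

/-- A formal combination which locally vanishes over the base. -/
def Nul {W : C} (φ : Gen f N W →₀ sect F W) : Prop :=
  ∃ S ∈ J W, ∀ ⦃W' : C⦄ (g : W' ⟶ W), S g → ∃ (V' : D) (b : W' ⟶ f.fn.obj V')
    (ρ : Gen f N W → sect N V'), Fits g b φ.support ρ ∧ evalN f F N g b ρ φ = 0

theorem Nul.elim {W W' : C} {φ : Gen f N W →₀ sect F W} (hp : Nul φ) {g : W' ⟶ W} {V' : D}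
    {b : W' ⟶ f.fn.obj V'} {ρ : Gen f N W → sect N V'} (h : Fits g b φ.support ρ) :
    ∃ S ∈ J W', ∀ ⦃W'' : C⦄ (k : W'' ⟶ W'), S k → ∃ (V'' : D) (e : V'' ⟶ V') (b' : W'' ⟶ f.fn.obj V''),
      k ≫ b = b' ≫ f.fn.map e ∧ evalN f F N (k ≫ g) b' (fun x => rs N e (ρ x)) φ = 0 := by
  obtain ⟨S, hS, hS'⟩ := hp
  refine exists_cover_bind _ (J.pullback_stable g hS) fun W₁ k hk => ?_
  obtain ⟨V₁, b₁, ρ₁, h₁, h₁0⟩ := hS' (k ≫ g) hk
  obtain ⟨T, hT, hT'⟩ := (covFlat_rmor f).pair (k ≫ b) b₁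
  refine exists_cover_bind _ hT fun W₂ k₂ hk₂ => ?_
  obtain ⟨V₂, e, e₁, b₂, he, he₁⟩ := hT' k₂ hk₂
  have F1 := h.pull (k₂ ≫ k) e b₂ (by rw [Category.assoc]; exact he)
  have F2 := h₁.pull k₂ e₁ b₂ he₁
  rw [← Category.assoc] at F2
  obtain ⟨R, hR, hR'⟩ := F1.agree F2
  refine ⟨R, hR, fun W₃ k₃ hk₃ => ?_⟩
  obtain ⟨V₃, e', b₃, hb₃, hag⟩ := hR' k₃ hk₃
  have hb : (k₃ ≫ k₂) ≫ b₁ = b₃ ≫ f.fn.map (e' ≫ e₁) := by
    rw [Category.assoc, he₁, reassoc_of% hb₃, f.fn.map_comp]
  refine ⟨V₃, e' ≫ e, b₃, ?_, ?_⟩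
  · rw [Category.assoc, Category.assoc, he, reassoc_of% hb₃, f.fn.map_comp]
  · have h0 := congrArg (trans' f F N b₁ b₃ (k₃ ≫ k₂) (e' ≫ e₁) hb) h₁0
    rw [evalN_trans, map_zero] at h0
    refine Eq.trans ?_ h0
    refine (congrArg (fun t => evalN f F N t b₃ (fun x => rs N (e' ≫ e) (ρ x)) φ) (Category.assoc (k₃ ≫ k₂) k g)).trans ?_
    refine evalN_congr _ _ φ fun x hx => ?_
    rw [map_val_comp e' e, map_val_comp e' e₁]
    exact hag x hx

theorem nul_zero {W : C} : Nul (0 : Gen f N W →₀ sect F W) := by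
  obtain ⟨S, hS, hS'⟩ := exists_fits (∅ : Finset (Gen f N W))
  refine ⟨S, hS, fun W' g hg => ?_⟩
  obtain ⟨V', b, ρ, h⟩ := hS' g hg
  exact ⟨V', b, ρ, h.mono (by simp), map_zero _⟩

theorem Nul.add {W : C} {p q : Gen f N W →₀ sect F W} (hp : Nul p) (hq : Nul q) : Nul (p + q) := by
  obtain ⟨S, hS, hS'⟩ := exists_fits (p.support ∪ q.support)
  refine exists_cover_bind _ hS fun W₁ g hg => ?_
  obtain ⟨V₁, b₁, ρ, h⟩ := hS' g hg
  obtain ⟨T, hT, hT'⟩ := hp.elim (h.mono Finset.subset_union_left)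
  refine exists_cover_bind _ hT fun W₂ k hk => ?_
  obtain ⟨V₂, e, b₂, hb₂, hp0⟩ := hT' k hk
  have h₂ := h.pull k e b₂ hb₂
  obtain ⟨R, hR, hR'⟩ := hq.elim (h₂.mono Finset.subset_union_right)
  refine ⟨R, hR, fun W₃ k₃ hk₃ => ?_⟩
  obtain ⟨V₃, e', b₃, hb₃, hq0⟩ := hR' k₃ hk₃
  rw [Category.assoc]
  refine ⟨V₃, b₃, _, (h₂.pull k₃ e' b₃ hb₃).mono Finsupp.support_add, ?_⟩
  rw [map_add, hq0, add_zero, ← evalN_trans (k ≫ g) b₂ k₃ e' b₃ hb₃, hp0, map_zero]

theorem Nul.smul {W : C} (r : O_C.obj.obj (op W)) {p : Gen f N W →₀ sect F W} (hp : Nul p) : Nul (r • p) := by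
  obtain ⟨S, hS, hS'⟩ := hp
  refine ⟨S, hS, fun W' g hg => ?_⟩
  obtain ⟨V', b, ρ, h, h0⟩ := hS' g hg
  refine ⟨V', b, ρ, h.mono Finsupp.support_smul, ?_⟩
  let r' := (O_C.obj.map g.op).hom r
  let μ : FB f F b →ₗ[O_D.obj.obj (op V')] FB f F b :=
    { toFun := fun x => mkB f F b (r' • (show sect F W' from x))
      map_add' := fun x y => smul_add r' (show sect F W' from x) y
      map_smul' := fun v x => smul_comm r' (pl f b v) (show sect F W' from x) }
  have key : ∀ φ, evalN f F N g b ρ (r • φ) = LinearMap.lTensor (sect N V') μ (evalN f F N g b ρ φ) := by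
    intro φ
    induction φ using Finsupp.induction_linear with
    | zero => simp only [smul_zero, map_zero]
    | add p q hp hq => simp only [smul_add, map_add, hp, hq]
    | single x c =>
      rw [Finsupp.smul_single, evalN_single, evalN_single, LinearMap.lTensor_tmul, map_val_smul]
      rfl
  rw [key, h0, map_zero]

variable (f F N) in
/-- Restriction of formal combinations. -/
noncomputable def res₀ {W W₁ : C} (g₀ : W₁ ⟶ W) :
    (Gen f N W →₀ sect F W) →ₛₗ[(O_C.obj.map g₀.op).hom] (Gen f N W₁ →₀ sect F W₁) where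
  toFun φ := (φ.mapRange (rs F g₀) (map_zero _)).mapDomain (Gen.res g₀)
  map_add' φ ψ := by rw [Finsupp.mapRange_add (map_add _), Finsupp.mapDomain_add]
  map_smul' r φ := by
    rw [← Finsupp.mapDomain_smul]
    exact congrArg _ (Finsupp.ext fun x => by simp [map_val_smul])

theorem res₀_single {W W₁ : C} (g₀ : W₁ ⟶ W) (x : Gen f N W) (c : sect F W) :
    res₀ f F N g₀ (Finsupp.single x c) = Finsupp.single (x.res g₀) (rs F g₀ c) := by simp [res₀]

theorem Nul.res {W W₁ : C} (g₀ : W₁ ⟶ W) {p : Gen f N W →₀ sect F W} (hp : Nul p) : Nul (res₀ f F N g₀ p) := by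
  obtain ⟨S, hS, hS'⟩ := exists_fits (p.support.image (Gen.res g₀))
  refine exists_cover_bind _ hS fun W' g hg => ?_
  obtain ⟨V', b, ρ, h⟩ := hS' g hg
  have h₀ : Fits (g ≫ g₀) b p.support (fun x => ρ (Gen.res g₀ x)) := fun x hx => by
    obtain ⟨q, hq, hρ⟩ := h _ (Finset.mem_image_of_mem _ hx)
    exact ⟨q, (Category.assoc _ _ _).trans hq, hρ⟩
  obtain ⟨T, hT, hT'⟩ := hp.elim h₀
  refine ⟨T, hT, fun W₂ k hk => ?_⟩
  obtain ⟨V₂, e, b₂, hb₂, hp0⟩ := hT' k hk
  refine ⟨V₂, b₂, _, (h.pull k e b₂ hb₂).mono (Finset.Subset.trans Finsupp.mapDomain_support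
    (Finset.image_subset_image Finsupp.support_mapRange)), ?_⟩
  refine Eq.trans ?_ hp0
  clear hp hp0 h₀ h hT' hS' hS hT
  induction p using Finsupp.induction_linear with
  | zero => simp only [map_zero]
  | add p q hp hq => simp only [map_add, hp, hq]
  | single x c => rw [res₀_single, evalN_single, evalN_single, ← map_val_comp, Category.assoc]

variable (f F N)

/-- Null combinations. -/
noncomputable def nullM (W : C) : Submodule (O_C.obj.obj (op W)) (Gen f N W →₀ sect F W) where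
  carrier := {φ | Nul φ}
  zero_mem' := nul_zero
  add_mem' h h' := h.add h'
  smul_mem' r _ h := h.smul r

/-- Classes of formal combinations. -/
abbrev TQObj (W : C) : Type u := (Gen f N W →₀ sect F W) ⧸ nullM f F N W

/-- Restriction of classes. -/
noncomputable def tRes {W W' : C} (g : W' ⟶ W) : TQObj f F N W →ₛₗ[(O_C.obj.map g.op).hom] TQObj f F N W' :=
  (nullM f F N W).mapQ (nullM f F N W') (res₀ f F N g) (fun _ h => Nul.res g h)

theorem tRes_mk {W W' : C} (g : W' ⟶ W) (φ : Gen f N W →₀ sect F W) :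
    tRes f F N g (Submodule.Quotient.mk φ) = Submodule.Quotient.mk (res₀ f F N g φ) := rfl

/-- The presheaf of abelian groups of classes. -/
noncomputable def tqPre : Cᵒᵖ ⥤ AddCommGrpCat.{u} where
  obj W := .of (TQObj f F N W.unop)
  map g := AddCommGrpCat.ofHom (tRes f F N g.unop).toAddMonoidHom
  map_id W := by
    refine AddCommGrpCat.hom_ext (AddMonoidHom.ext fun x => ?_)
    obtain ⟨φ, rfl⟩ := Submodule.Quotient.mk_surjective _ x
    refine (tRes_mk f F N _ φ).trans (congrArg Submodule.Quotient.mk ?_)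
    induction φ using Finsupp.induction_linear with
    | zero => rw [map_zero]
    | add a b ha hb => rw [map_add, ha, hb]
    | single x r => rw [res₀_single]; simp [Gen.res_id, rs_id]
  map_comp {W W' W''} g h := by
    refine AddCommGrpCat.hom_ext (AddMonoidHom.ext fun x => ?_)
    obtain ⟨φ, rfl⟩ := Submodule.Quotient.mk_surjective _ x
    refine congrArg Submodule.Quotient.mk (show res₀ f F N _ φ = res₀ f F N h.unop (res₀ f F N g.unop φ) from ?_)
    induction φ using Finsupp.induction_linear with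
    | zero => rw [map_zero, map_zero, map_zero]
    | add a b ha hb => rw [map_add, map_add, map_add, ha, hb]
    | single x r => rw [res₀_single, res₀_single, res₀_single]; simp [Gen.res_comp, map_val_comp]

noncomputable instance tqModule (W : Cᵒᵖ) :
    Module ((O_C.obj ⋙ forget₂ CommRingCat.{u} RingCat.{u}).obj W) ((tqPre f F N).obj W) :=
  inferInstanceAs (Module (O_C.obj.obj W) (TQObj f F N W.unop))

/-- The presheaf of modules of classes. -/
noncomputable def TQ : preMod O_C :=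
  PresheafOfModules.ofPresheaf (tqPre f F N) (fun _ _ g r m => (tRes f F N g.unop).map_smulₛₗ r m)

/-- The test sheaf. -/
noncomputable abbrev tqSh : Mod O_C := (shPre O_C).obj (TQ f F N)

/-- The class of a generator with a coefficient. -/
noncomputable def clsT {W : C} (x : Gen f N W) : sect F W →ₗ[O_C.obj.obj (op W)] sect (tqSh f F N) W where
  toFun c := ((preAdj O_C).unit.app (TQ f F N)).app (op W) (Submodule.Quotient.mk (Finsupp.single x c) : TQObj f F N W)
  map_add' c c' := (congrArg (((preAdj O_C).unit.app (TQ f F N)).app (op W))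
    (show (Submodule.Quotient.mk (Finsupp.single x (c + c')) : TQObj f F N W) =
      Submodule.Quotient.mk (Finsupp.single x c) + Submodule.Quotient.mk (Finsupp.single x c') by
      rw [Finsupp.single_add]; rfl)).trans (map_add (((preAdj O_C).unit.app (TQ f F N)).app (op W)).hom _ _)
  map_smul' r c := (congrArg (((preAdj O_C).unit.app (TQ f F N)).app (op W))
    (show (Submodule.Quotient.mk (Finsupp.single x (r • c)) : TQObj f F N W) =
      r • Submodule.Quotient.mk (Finsupp.single x c) by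
      rw [← Finsupp.smul_single]; rfl)).trans (map_smul (((preAdj O_C).unit.app (TQ f F N)).app (op W)).hom r _)

theorem clsT_res {W W' : C} (g : W' ⟶ W) (x : Gen f N W) (c : sect F W) :
    rs (tqSh f F N) g (clsT f F N x c) = clsT f F N (x.res g) (rs F g c) :=
  (PresheafOfModules.naturality_apply ((preAdj O_C).unit.app (TQ f F N)) g.op _).symm.trans
    (congrArg (((preAdj O_C).unit.app (TQ f F N)).app (op W'))
      (congrArg Submodule.Quotient.mk (res₀_single g x c) :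
        tRes f F N g (Submodule.Quotient.mk (Finsupp.single x c)) = Submodule.Quotient.mk (Finsupp.single (x.res g) (rs F g c))))

/-- Classes agree if the differences vanish on a single refinement. -/
theorem clsT_eq {W : C} (φ ψ : Gen f N W →₀ sect F W) {V : D} (a : W ⟶ f.fn.obj V) (ρ : Gen f N W → sect N V)
    (h : Fits (𝟙 W) a (φ - ψ).support ρ) (he : evalN f F N (𝟙 W) a ρ φ = evalN f F N (𝟙 W) a ρ ψ) :
    (Submodule.Quotient.mk φ : TQObj f F N W) = Submodule.Quotient.mk ψ := by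
  refine (Submodule.Quotient.eq _).2 ⟨⊤, J.top_mem W, fun W' g _ => ⟨V, g ≫ a, fun x => rs N (𝟙 V) (ρ x), ?_, ?_⟩⟩
  · exact (congrArg (fun t => Fits t (g ≫ a) (φ - ψ).support (fun x => rs N (𝟙 V) (ρ x))) (Category.comp_id g)).mp
      (h.pull g (𝟙 V) (g ≫ a) (by simp))
  · have := evalN_trans (F := F) (𝟙 W) a g (𝟙 V) (g ≫ a) (by simp) ρ (φ - ψ)
    rw [map_sub, he, sub_self, map_zero, Category.comp_id] at this
    exact this.symm

variable [HasSheafHom F]

/-- The local morphism given by a section of `N`. -/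
noncomputable def locN {V : D} (m : sect N V) :
    (restr O_C (f.fn.obj V)).obj F ⟶ (restr O_C (f.fn.obj V)).obj (tqSh f F N) :=
  ⟨{ app := fun T => ModuleCat.ofHom (R := O_C.obj.obj (op T.unop.left)) (X := sect F T.unop.left)
        (Y := sect (tqSh f F N) T.unop.left) (clsT f F N ⟨V, T.unop.hom, m⟩)
     naturality := fun {T T'} h => ModuleCat.hom_ext (LinearMap.ext fun (x : sect F T.unop.left) => by
      show clsT f F N ⟨V, T'.unop.hom, m⟩ (rs F h.unop.left x) =
        rs (tqSh f F N) h.unop.left (clsT f F N ⟨V, T.unop.hom, m⟩ x)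
      rw [clsT_res]
      exact congrArg (fun z => clsT f F N (⟨V, z, m⟩ : Gen f N T'.unop.left) (rs F h.unop.left x))
        (CategoryTheory.Over.w h.unop).symm) }⟩

theorem apL_locN {V : D} (m : sect N V) {W : C} (a : W ⟶ f.fn.obj V) (x : sect F W) :
    apL (locN f F N m) a x = clsT f F N ⟨V, a, m⟩ x := rfl

/-- The section of the internal hom given by a section of `N`. -/
noncomputable def gN {V : D} (m : sect N V) : sect ((sheafHom F).obj (tqSh f F N)) (f.fn.obj V) :=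
  ((toLoc_bijective F).2 (locN f F N m)).choose

theorem apL_gN {V : D} (m : sect N V) {W : C} (a : W ⟶ f.fn.obj V) (x : sect F W) :
    apL (toLoc F (gN f F N m)) a x = clsT f F N ⟨V, a, m⟩ x := by
  rw [gN, ((toLoc_bijective F).2 _).choose_spec, apL_locN]

/-- Values of a refinement at generators with a fixed map. -/
noncomputable def ρ₀ {W : C} {V : D} (a : W ⟶ f.fn.obj V) (x : Gen f N W) : sect N V :=
  if h : ∃ m, x = (⟨V, a, m⟩ : Gen f N W) then h.choose else 0

theorem ρ₀_apply {W : C} {V : D} (a : W ⟶ f.fn.obj V) (m : sect N V) : ρ₀ f N a ⟨V, a, m⟩ = m := by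
  have h : ∃ m', (⟨V, a, m⟩ : Gen f N W) = ⟨V, a, m'⟩ := ⟨m, rfl⟩
  unfold ρ₀
  refine (dif_pos h).trans ?_
  exact (Prod.ext_iff.1 (eq_of_heq (Sigma.mk.inj_iff.1 h.choose_spec).2)).2.symm

theorem fits₀ {W : C} {V : D} (a : W ⟶ f.fn.obj V) (s : Finset (Gen f N W))
    (hs : ∀ x ∈ s, ∃ m, x = (⟨V, a, m⟩ : Gen f N W)) : Fits (𝟙 W) a s (ρ₀ f N a) := by
  intro x hx
  obtain ⟨m, rfl⟩ := hs x hx
  exact ⟨𝟙 V, by simp, by rw [ρ₀_apply, rs_id]⟩

theorem clsT_add {W : C} {V : D} (a : W ⟶ f.fn.obj V) (m m' : sect N V) (x : sect F W) :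
    clsT f F N ⟨V, a, m + m'⟩ x = clsT f F N ⟨V, a, m⟩ x + clsT f F N ⟨V, a, m'⟩ x := by
  refine Eq.trans ?_ (map_add (((preAdj O_C).unit.app (TQ f F N)).app (op W)).hom _ _)
  refine congrArg (((preAdj O_C).unit.app (TQ f F N)).app (op W)) ?_
  refine clsT_eq f F N _ (Finsupp.single (⟨V, a, m⟩ : Gen f N W) x + Finsupp.single (⟨V, a, m'⟩ : Gen f N W) x) a
    (ρ₀ f N a) (fits₀ f N a _ fun y hy => ?_) ?_
  · rcases Finset.mem_union.1 (Finsupp.support_sub hy) with hy | hy
    · exact ⟨_, Finset.mem_singleton.1 (Finsupp.support_single_subset hy)⟩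
    · rcases Finset.mem_union.1 (Finsupp.support_add hy) with hy | hy <;>
        exact ⟨_, Finset.mem_singleton.1 (Finsupp.support_single_subset hy)⟩
  · refine (evalN_single _ _ _ _ _).trans (Eq.trans ?_ ((map_add (evalN f F N (𝟙 W) a (ρ₀ f N a)) _ _).trans
      (congrArg₂ (· + ·) (evalN_single _ _ _ _ _) (evalN_single _ _ _ _ _))).symm)
    rw [ρ₀_apply, ρ₀_apply, ρ₀_apply]
    exact TensorProduct.add_tmul _ _ _

theorem clsT_smul {W : C} {V : D} (a : W ⟶ f.fn.obj V) (r : O_D.obj.obj (op V)) (m : sect N V) (x : sect F W) :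
    clsT f F N ⟨V, a, r • m⟩ x = clsT f F N ⟨V, a, m⟩ (pl f a r • x) := by
  refine congrArg (((preAdj O_C).unit.app (TQ f F N)).app (op W)) ?_
  refine clsT_eq f F N _ (Finsupp.single (⟨V, a, m⟩ : Gen f N W) (pl f a r • x)) a (ρ₀ f N a)
    (fits₀ f N a _ fun y hy => ?_) ?_
  · rcases Finset.mem_union.1 (Finsupp.support_sub hy) with hy | hy <;>
      exact ⟨_, Finset.mem_singleton.1 (Finsupp.support_single_subset hy)⟩
  · rw [evalN_single, evalN_single, ρ₀_apply, ρ₀_apply, rs_id, rs_id, ← smul_mkB, TensorProduct.smul_tmul]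

theorem clsT_map {W : C} {V V' : D} (q : V' ⟶ V) (a : W ⟶ f.fn.obj V') (m : sect N V) (x : sect F W) :
    clsT f F N ⟨V', a, rs N q m⟩ x = clsT f F N ⟨V, a ≫ f.fn.map q, m⟩ x := by
  refine congrArg (((preAdj O_C).unit.app (TQ f F N)).app (op W)) ?_
  refine clsT_eq f F N _ (Finsupp.single (⟨V, a ≫ f.fn.map q, m⟩ : Gen f N W) x) a (fun _ => rs N q m) (fun y hy => ?_) ?_
  · rcases Finset.mem_union.1 (Finsupp.support_sub hy) with hy | hy <;>
      rw [Finset.mem_singleton.1 (Finsupp.support_single_subset hy)]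
    · exact ⟨𝟙 V', by simp, (rs_id _ _ _).symm⟩
    · exact ⟨q, by simp, rfl⟩
  · rw [evalN_single, evalN_single]

/-- The map into the internal hom. -/
noncomputable def gHom : N ⟶ f.push.obj ((sheafHom F).obj (tqSh f F N)) :=
  ⟨{ app := fun V => ModuleCat.ofHom (R := O_D.obj.obj V) (X := sect N V.unop)
        (Y := (f.push.obj ((sheafHom F).obj (tqSh f F N))).val.obj V)
        { toFun := fun m => gN f F N m
          map_add' := fun m m' => (toLoc_bijective F).1 (hom_ext_apL fun a x => by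
            rw [apL_gN, clsT_add]
            exact ((apL_toLoc_add F _ _ a x).trans
              (congrArg₂ (· + ·) (apL_gN f F N m a x) (apL_gN f F N m' a x))).symm)
          map_smul' := fun r m => (toLoc_bijective F).1 (hom_ext_apL fun a x => by
            rw [apL_gN, clsT_smul, map_smul]
            exact ((apL_toLoc_smul F (sh f V.unop r) _ a x).trans
              (congrArg (_ • ·) (apL_gN f F N m a x))).symm) }
     naturality := fun {V V'} q => ModuleCat.hom_ext (LinearMap.ext fun (m : sect N V.unop) =>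
      (toLoc_bijective F).1 (hom_ext_apL fun a x => by
        show apL (toLoc F (gN f F N (rs N q.unop m))) a x =
          apL (toLoc F (rs ((sheafHom F).obj (tqSh f F N)) (f.fn.map q.unop) (gN f F N m))) a x
        rw [apL_gN, toLoc_res, apL_resL, apL_gN, clsT_map])) }⟩

/-- The comparison to the test sheaf. -/
noncomputable def β : tens₂ (f.pull.obj N) F ⟶ tqSh f F N :=
  ((tensorBi O_C).flip.obj F).map ((f.adj.homEquiv _ _).symm (gHom f F N)) ≫ ev F (tqSh f F N)

theorem β_tmulS {W : C} (x : Gen f N W) (c : sect F W) :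
    appS (β f F N) W (tmulS (genVal f N x) c) = clsT f F N x c := by
  obtain ⟨V, a, m⟩ := x
  rw [β, appS_comp, appS_flip_map]
  have h := f.adj.homEquiv_unit (X := N) (f := (f.adj.homEquiv _ _).symm (gHom f F N))
  rw [Equiv.apply_symm_apply] at h
  have h' : appS ((f.adj.homEquiv _ _).symm (gHom f F N)) (f.fn.obj V) (etaS f N V m) = gN f F N m :=
    (congrArg (fun t : N ⟶ f.push.obj ((sheafHom F).obj (tqSh f F N)) => t.val.app (op V) m) h).symm
  rw [genVal, appS_res, h']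
  exact (apL_toLoc F (gN f F N m) a c).symm.trans (apL_gN f F N m a c)

variable {f F N}

/-- Vanishing in the tensor product gives vanishing over the base. -/
theorem exists_null {W : C} {n : ℕ} (x : Fin n → Gen f N W) (c : Fin n → sect F W)
    (h : ∑ i, tmulS (genVal f N (x i)) (c i) = 0) :
    ∃ S ∈ J W, ∀ ⦃W' : C⦄ (g : W' ⟶ W), S g →
      Nul (∑ i, Finsupp.single ((x i).res g) (rs F g (c i))) := by
  let η := (preAdj O_C).unit.app (TQ f F N)
  have := (Groth.Agent.LocPres.unit_locally_bijective (TQ f F N)).1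
  let φ : Gen f N W →₀ sect F W := ∑ i, Finsupp.single (x i) (c i)
  have h₀ : η.app (op W) (Submodule.Quotient.mk φ : TQObj f F N W) =
      η.app (op W) (Submodule.Quotient.mk 0 : TQObj f F N W) := by
    refine Eq.trans ?_ (map_zero (η.app (op W)).hom).symm
    have h' := congrArg (appS (β f F N) W) h
    rw [map_sum, map_zero] at h'
    simp only [β_tmulS] at h'
    refine Eq.trans ?_ h'
    exact (congrArg (η.app (op W)) (map_sum (nullM f F N W).mkQ _ _)).trans (map_sum (η.app (op W)).hom _ _)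
  refine ⟨_, Presheaf.equalizerSieve_mem J ((PresheafOfModules.toPresheaf _).map η) (X := op W)
    (Submodule.Quotient.mk φ : TQObj f F N W) (Submodule.Quotient.mk 0 : TQObj f F N W) h₀,
    fun W' g hg => ?_⟩
  have hg' : (Submodule.Quotient.mk (res₀ f F N g φ) : TQObj f F N W') = 0 :=
    hg.trans (map_zero (tRes f F N g))
  rw [Submodule.Quotient.mk_eq_zero, map_sum] at hg'
  simp only [res₀_single] at hg'
  exact hg'

omit [HasSheafHom F] in
/-- From the tensor product over the base to sections. -/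
noncomputable def εT (M : Mod O_D) {W : C} {V : D} (b : W ⟶ f.fn.obj V) : T f F M b →+ sect (tens₂ (f.pull.obj M) F) W :=
  TensorProduct.liftAddHom
    (AddMonoidHom.mk' (fun m => AddMonoidHom.mk' (fun x : FB f F b =>
        tmulS (genVal f M ⟨V, b, m⟩) (show sect F W from x))
      (fun x y => tmulS_add_right _ _ _))
      (fun m m' => AddMonoidHom.ext fun x => by
        show tmulS (rs _ b (etaS f M V (m + m'))) (show sect F W from x) = _
        rw [etaS_add, map_add, tmulS_add_left]; rfl))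
    (fun r m x => by
      show tmulS (rs _ b (etaS f M V (r • m))) (show sect F W from x) = tmulS (rs _ b (etaS f M V m)) (pl f b r • (show sect F W from x))
      rw [etaS_smul, map_val_smul, tmulS_smul_left, tmulS_smul_right]; rfl)

omit [HasSheafHom F] in
theorem εT_tmul (M : Mod O_D) {W : C} {V : D} (b : W ⟶ f.fn.obj V) (m : sect M V) (x : sect F W) :
    εT M b (m ⊗ₜ mkB f F b x) = tmulS (genVal f M ⟨V, b, m⟩) x := rfl

/-- Monomorphisms stay monomorphisms. -/
theorem mono_map (hF : LocTrivOver f F) {M N : Mod O_D} (φ : M ⟶ N) [Mono φ] :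
    Mono (((tensorBi O_C).flip.obj F).map (f.pull.map φ)) := by
  refine mono_of_appS_injective _ fun W z hz => ?_
  obtain ⟨S, hS, hS'⟩ := exists_tens_repr z
  obtain ⟨S₁, hS₁, hS₁'⟩ := exists_cover_bind
    (fun (W' : C) (k : W' ⟶ W) => rs (tens₂ (f.pull.obj M) F) k z = 0) hS fun W₁ g hg => by
    obtain ⟨l, ξ, y, hξy⟩ := hS' g hg
    obtain ⟨T₁, hT₁, hT₁'⟩ := exists_common_repr ξ
    refine exists_cover_bind _ hT₁ fun W₂ g₂ hg₂ => ?_
    obtain ⟨V, b, k, m, d, hd⟩ := hT₁' g₂ hg₂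
    let c : Fin k → sect F W₂ := fun i => ∑ j, d j i • rs F g₂ (y j)
    have hz₂ : rs (tens₂ (f.pull.obj M) F) (g₂ ≫ g) z = ∑ i, tmulS (genVal f M ⟨V, b, m i⟩) (c i) := by
      rw [map_val_comp, ← hξy, map_sum]
      simp only [tmulS_res, hd]
      simp only [tmulS_sum_left, c, tmulS_sum_right]
      exact Finset.sum_comm
    have h0 : ∑ i, tmulS (genVal f N ⟨V, b, appS φ V (m i)⟩) (c i) = 0 := by
      have this := (map_sum (appS (((tensorBi O_C).flip.obj F).map (f.pull.map φ)) W₂) _ _).symm.trans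
        ((congrArg (appS (((tensorBi O_C).flip.obj F).map (f.pull.map φ)) W₂) hz₂).symm.trans
          ((appS_res (((tensorBi O_C).flip.obj F).map (f.pull.map φ)) (g₂ ≫ g) z).trans
            ((congrArg (rs _ (g₂ ≫ g)) hz).trans (map_zero _))))
      refine Eq.trans (Finset.sum_congr rfl fun i _ => ?_) this
      rw [appS_flip_map, appS_genVal]
    obtain ⟨T₂, hT₂, hT₂'⟩ := exists_null (fun i => (⟨V, b, appS φ V (m i)⟩ : Gen f N W₂)) c h0
    refine exists_cover_bind _ hT₂ fun W₃ g₃ hg₃ => ?_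
    have hnul := hT₂' g₃ hg₃
    have hfit : Fits (𝟙 W₃) (g₃ ≫ b)
        (∑ i, Finsupp.single (Gen.res g₃ (⟨V, b, appS φ V (m i)⟩ : Gen f N W₂)) (rs F g₃ (c i))).support
        (ρ₀ f N (g₃ ≫ b)) := fits₀ f N _ _ fun x hx => by
      obtain ⟨i, -, hi⟩ := Finset.mem_biUnion.1 (Finsupp.support_finsetSum hx)
      exact ⟨appS φ V (m i), (Finset.mem_singleton.1 (Finsupp.support_single_subset hi)).trans rfl⟩
    obtain ⟨T₃, hT₃, hT₃'⟩ := hnul.elim hfit
    refine exists_cover_bind _ hT₃ fun W₄ g₄ hg₄ => ?_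
    obtain ⟨V₄, e, b₄, hb₄, he⟩ := hT₃' g₄ hg₄
    let z₄ : T f F M b₄ := ∑ i, rs M e (m i) ⊗ₜ mkB f F b₄ (rs F (g₄ ≫ g₃) (c i))
    have hz₄ : LinearMap.rTensor (FB f F b₄) (appS φ V₄) z₄ = 0 := by
      rw [← he, map_sum, map_sum]
      refine Finset.sum_congr rfl fun i _ => ?_
      rw [LinearMap.rTensor_tmul, evalN_single, Category.comp_id, ← map_val_comp g₄ g₃, appS_res]
      exact congrArg (fun t => rs N e t ⊗ₜ[O_D.obj.obj (op V₄)] mkB f F b₄ (rs F (g₄ ≫ g₃) (c i)))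
        (ρ₀_apply f N (g₃ ≫ b) (appS φ V (m i))).symm
    obtain ⟨n', m', xi, a, r, bb, hza, hr, hb⟩ := exists_relation_data (appS φ V₄) z₄ hz₄
    obtain ⟨T₄, hT₄, hT₄'⟩ := hF b₄ n' m' r (fun i => (show sect F W₄ from xi i)) (fun l => hr l)
    refine ⟨T₄, hT₄, fun W₅ g₅ hg₅ => ?_⟩
    obtain ⟨V₅, q, b₅, kk, t, al, hb₅, hxi, hal⟩ := hT₄' g₅ hg₅
    have hzero : trans' f F M b₄ b₅ g₅ q hb₅ z₄ = 0 := by
      rw [hza, map_sum]
      have e1 : ∀ i, trans' f F M b₄ b₅ g₅ q hb₅ (a i ⊗ₜ xi i) =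
          ∑ j, (al i j • rs M q (a i)) ⊗ₜ[O_D.obj.obj (op V₅)] mkB f F b₅ (t j) := fun i => by
        show rs M q (a i) ⊗ₜ mkB f F b₅ (rs F g₅ (show sect F W₄ from xi i)) = _
        rw [hxi i, mkB_sum, TensorProduct.tmul_sum]
        exact Finset.sum_congr rfl fun j _ => by rw [← smul_mkB, TensorProduct.smul_tmul]
      simp only [e1]
      rw [Finset.sum_comm]
      refine Finset.sum_eq_zero fun j _ => ?_
      rw [← TensorProduct.sum_tmul, show ∑ i, al i j • rs M q (a i) = 0 from ?_, TensorProduct.zero_tmul]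
      refine appS_injective φ V₅ ?_
      rw [map_sum, map_zero]
      simp only [map_smul, appS_res, hb, map_sum, map_val_smul, Finset.smul_sum, smul_smul]
      rw [Finset.sum_comm]
      exact Finset.sum_eq_zero fun l _ => by rw [← Finset.sum_smul, hal l j, zero_smul]
    rw [show (((g₅ ≫ g₄) ≫ g₃) ≫ g₂) ≫ g = ((g₅ ≫ g₄) ≫ g₃) ≫ g₂ ≫ g from Category.assoc _ _ _, map_val_comp, hz₂,
      map_sum]
    refine Eq.trans ?_ ((congrArg (εT M b₅) hzero).trans (map_zero _))
    rw [map_sum, map_sum]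
    refine Finset.sum_congr rfl fun i _ => ?_
    rw [trans'_tmul, εT_tmul, tmulS_res, ← genVal_res, ← map_val_comp q e, ← genVal_map, ← map_val_comp g₅]
    refine congrArg₂ tmulS (congrArg (fun a' => genVal f M ⟨V, a', m i⟩) ?_) (by simp only [Category.assoc])
    rw [f.fn.map_comp, ← reassoc_of% hb₅, ← hb₄]
    simp only [Category.assoc]
  exact eq_zero_of_locally _ hS₁ z hS₁'

omit [HasSheafHom F] in
/-- `G ↦ f^*G ⊗ F` is exact. -/
theorem exact_pull_tensor (hF : LocTrivOver f F) :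
    PreservesFiniteLimits (f.pull ⋙ (tensorBi O_C).flip.obj F) ∧
      PreservesFiniteColimits (f.pull ⋙ (tensorBi O_C).flip.obj F) := by
  haveI : HasSheafHom F := Groth.Agent.KFlat.hasSheafHom O_C F
  let adj := f.adj.comp (sheafHomAdj F)
  haveI : (f.pull ⋙ (tensorBi O_C).flip.obj F).IsLeftAdjoint := adj.isLeftAdjoint
  haveI : PreservesFiniteColimits (f.pull ⋙ (tensorBi O_C).flip.obj F) := inferInstance
  haveI := preservesBinaryBiproducts_of_preservesBinaryCoproducts (f.pull ⋙ (tensorBi O_C).flip.obj F)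
  haveI : (f.pull ⋙ (tensorBi O_C).flip.obj F).Additive := Functor.additive_of_preservesBinaryBiproducts _
  haveI : (f.pull ⋙ (tensorBi O_C).flip.obj F).PreservesMonomorphisms := ⟨fun φ _ => mono_map hF φ⟩
  haveI : (f.pull ⋙ (tensorBi O_C).flip.obj F).PreservesHomology :=
    Functor.preservesHomology_of_preservesMonos_and_cokernels _
  exact ⟨Functor.preservesFiniteLimits_of_preservesHomology _, inferInstance⟩

/-- The inverse image is exact if the structure sheaf is flat over the base. -/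
theorem isFlat_rmor (f : RMor O_C O_D) (h : LocTrivOver f (ModSite.unit O_C)) : f.IsFlat := by
  haveI := (exact_pull_tensor h).1
  exact preservesFiniteLimits_of_natIso (Functor.isoWhiskerLeft f.pull
    ((Groth.Agent.KFlat.tensorBiFlipIso (O := O_C)).app (ModSite.unit O_C) ≪≫ tensorUnitNatIso) ≪≫ Functor.rightUnitor _)

end Groth.Agent.TensOver
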