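import Groth.Agent.PullFlat.Tensor
import Groth.Agent.LocPres.SheafHomSect

/-!
# The inverse image commutes with tensor products, naturally
-/

set_option autoImplicit false
set_option linter.style.haveILetI false

universe u

open CategoryTheory CategoryTheory.Limits MonoidalCategory Opposite ModSite

namespace Groth.Agent.PullFlat

open Groth.Agent.ModFlat (rs)
open Groth.Agent.KFlat (preAdj)

variable {C D : Type u} [SmallCategory C] [SmallCategory D] {J : GrothendieckTopology C}
  {K : GrothendieckTopology D} {O_C : Sheaf J CommRingCat.{u}} {O_D : Sheaf K CommRingCat.{u}}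
  (f : RMor O_C O_D)

theorem tensPull_natural {M M' : Mod O_D} (N : Mod O_D) (φ : M ⟶ M') :
    f.pull.map (((tensorBi O_D).flip.obj N).map φ) ≫ tensPull f M' N =
      tensPull f M N ≫ ((tensorBi O_C).flip.obj (f.pull.obj N)).map (f.pull.map φ) := by
  refine (f.adj.homEquiv _ _).injective (((preAdj O_D).homEquiv _ _).injective ?_)
  refine PresheafOfModules.hom_ext fun V => ModuleCat.hom_ext (LinearMap.ext fun z => ?_)
  rw [Adjunction.homEquiv_unit, Adjunction.homEquiv_unit, Adjunction.homEquiv_unit, Adjunction.homEquiv_unit]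
  induction z using TensorProduct.induction_on with
  | zero => exact (map_zero _).trans (map_zero _).symm
  | add a b ha hb => exact (map_add _ a b).trans ((congrArg₂ (· + ·) ha hb).trans (map_add _ a b).symm)
  | tmul m n =>
    change appS (tensPull f M' N) _ (appS (f.pull.map (((tensorBi O_D).flip.obj N).map φ)) (f.fn.obj V.unop)
        (etaS f (tens₂ M N) V.unop (tmulS m n))) =
      appS (((tensorBi O_C).flip.obj (f.pull.obj N)).map (f.pull.map φ)) _
        (appS (tensPull f M N) (f.fn.obj V.unop) (etaS f (tens₂ M N) V.unop (tmulS m n)))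
    have e : ∀ {A B : Mod O_D} (ψ : A ⟶ B) (a : sect A V.unop),
        appS (f.pull.map ψ) (f.fn.obj V.unop) (etaS f A V.unop a) = etaS f B V.unop (appS ψ V.unop a) :=
      fun ψ a => (congrArg (fun t => t.val.app V a) (f.adj.unit.naturality ψ)).symm
    refine (congrArg (appS (tensPull f M' N) _)
      ((e (((tensorBi O_D).flip.obj N).map φ) (tmulS m n)).trans
        (congrArg (etaS f (tens₂ M' N) V.unop) (Groth.Agent.LocPres.appS_flip_map N φ m n)))).trans ?_
    refine (tensPull_etaS f M' N V.unop (appS φ V.unop m) n).trans ?_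
    refine Eq.trans ?_ (congrArg (appS _ _) (tensPull_etaS f M N V.unop m n)).symm
    refine Eq.trans ?_ (Groth.Agent.LocPres.appS_flip_map (f.pull.obj N) (f.pull.map φ) _ _).symm
    exact congrArg (fun t => tmulS t (etaS f N V.unop n)) (e φ m).symm

/-- The comparison, natural in the first variable. -/
noncomputable def tensPullNatIso (N : Mod O_D) :
    (tensorBi O_D).flip.obj N ⋙ f.pull ≅ f.pull ⋙ (tensorBi O_C).flip.obj (f.pull.obj N) :=
  haveI := fun M => isIso_tensPull f M N
  NatIso.ofComponents (fun M => asIso (tensPull f M N)) fun φ => tensPull_natural f N φ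

/-- The internal hom adjunction formula. -/
noncomputable def pushSheafHomIso (N : Mod O_D) [HasSheafHom (f.pull.obj N)] [HasSheafHom N] :
    sheafHom (f.pull.obj N) ⋙ f.push ≅ f.push ⋙ sheafHom N :=
  Adjunction.rightAdjointUniq
    ((f.adj.comp (sheafHomAdj (f.pull.obj N))).ofNatIsoLeft (tensPullNatIso f N).symm)
    ((sheafHomAdj N).comp f.adj)

end Groth.Agent.PullFlat
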